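import Cfsg.Agent.Lib.O7.Tool
import Cfsg.Agent.Lib.GHE.Defs
import Cfsg.Agent.Lib.L3S.K5
import Cfsg.Agent.Lib.Rk3B.Wr1

/-!
K5: `L₅(r)`, `U₅(r)`; eight-groups as Sylow subgroups.  See `plans/O7B.md`.
-/

set_option autoImplicit false

namespace CfsgLib.O7

open CfsgLib.OrthE CfsgLib.OMax Module QuadraticMap Subgroup Cfsg
open scoped MatrixGroups

variable {K G : Type*} [Field K] [IsAlgClosed K] [Group G] [Finite G] {ρ : G →* G7 K}
  {E : Type} [Field E] [Fintype E]

section k5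

open CfsgLib.L3S.K5 Matrix

variable {F : Type*} [Field F] {s t : F}

/-- an element of order four of the upper block -/
def k5A : Matrix (Fin 5) (Fin 5) ℤ := !![0,1,0,0,0; -1,0,0,0,0; 0,0,1,0,0; 0,0,0,1,0; 0,0,0,0,1]

/-- a second element of order four -/
def k5B (s t : F) : Matrix (Fin 5) (Fin 5) F := !![s,t,0,0,0; t,-s,0,0,0; 0,0,1,0,0; 0,0,0,1,0; 0,0,0,0,1]

theorem k5_rd (M N : Matrix (Fin 5) (Fin 5) ℤ) : rd F M * rd F N = rd F (M * N) :=
  ((Int.castRingHom F).mapMatrix.map_mul M N).symm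

theorem k5_BB (e : s * s + t * t = -1) : k5B s t * k5B s t = rd F (diagonal d1) := by
  ext i j
  fin_cases i <;> fin_cases j <;> simp [k5B, d1, mul_apply, Fin.sum_univ_five] <;>
    first | linear_combination e | ring

theorem k5_AB : rd F k5A * k5B s t = rd F (diagonal d1) * (k5B s t * rd F k5A) := by
  rw [rd_diag]
  ext i j
  fin_cases i <;> fin_cases j <;> simp [k5A, k5B, d1, mul_apply, Fin.sum_univ_five, diagonal_apply, vecMul, dotProduct]

theorem k5_DB : rd F (diagonal d3) * k5B s t = k5B s t * rd F (diagonal d3) := by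
  rw [rd_diag]
  ext i j
  fin_cases i <;> fin_cases j <;> simp [k5B, d3]

theorem k5_det (e : s * s + t * t = -1) : (k5B s t).det = 1 := by
  simp [k5B, det_succ_row_zero, Fin.sum_univ_succ, Fin.succAbove]
  linear_combination -e

theorem Hy.k5_core (h : Hy ρ) {Γ : Type*} [Group Γ] [Finite Γ] {μ : Γ →* Matrix (Fin 5) (Fin 5) F} {π : Γ →* G}
    (S : St μ π) (e : s * s + t * t = -1) {b : Γ} (hb : μ b = k5B s t) : False := by
  obtain ⟨a, ha⟩ := S.int k5A (by decide +kernel) (by decide +kernel)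
  obtain ⟨⟨z, hz⟩, -, ⟨d, hd⟩, -⟩ := S.gens
  have o : rd F 1 = 1 := (Int.castRingHom F).mapMatrix.map_one
  have n : (-1 : F) ≠ 1 := fun k => S.h2 (by linear_combination -k)
  have zz : z * z = 1 := S.inj (by
    rw [map_mul, hz, k5_rd, map_one, ← o]; congr 1; decide +kernel)
  have dd : d * d = 1 := S.inj (by
    rw [map_mul, hd, k5_rd, map_one, ← o]; congr 1; decide +kernel)
  have aa : a * a = z := S.inj (by rw [map_mul, ha, hz, k5_rd]; congr 1; decide +kernel)
  have da : d * a = a * d := S.inj (by rw [map_mul, map_mul, ha, hd, k5_rd, k5_rd]; congr 1; decide +kernel)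
  have bb : b * b = z := S.inj (by rw [map_mul, hb, hz, k5_BB e])
  have ab : a * b = z * (b * a) := S.inj (by rw [map_mul, map_mul, map_mul, ha, hb, hz, k5_AB])
  have db : d * b = b * d := S.inj (by rw [map_mul, map_mul, hb, hd, k5_DB])
  have z1 : π z ≠ 1 := fun k => by
    have := congrArg (fun g => μ g 0 0) (S.uniq zz (one_mul 1) (k.trans π.map_one.symm))
    simp only [hz, map_one] at this
    exact n (by simpa [d1] using this)
  rcases h.q8c (a := π a) (b := π b) (d := π d) z1 (by rw [← map_mul, aa]) (by rw [← map_mul, bb])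
    (by rw [← map_mul, zz, map_one]) (by rw [← map_mul, ab, map_mul, map_mul]) (by rw [← map_mul, dd, map_one])
    (by rw [← map_mul, da, map_mul]) (by rw [← map_mul, db, map_mul]) with k | k
  · have := congrArg (fun g => μ g 2 2) (S.uniq dd (one_mul 1) (k.trans π.map_one.symm))
    simp only [hd, map_one] at this
    exact n (by simpa [d3] using this)
  · have := congrArg (fun g => μ g 2 2) (S.uniq dd zz k)
    simp only [hd, hz] at this
    exact n (by simpa [d1, d3] using this)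

end k5

open CfsgLib.L3S.K5 in

theorem Hy.kL5 (h : Hy ρ) (e : GHE.IL 5 Odd G) : False := by
  obtain ⟨F, _, _, hq, ⟨φ⟩⟩ := e
  obtain ⟨s, t, e⟩ := Orth.exists_sq_add_sq_eq (F := F) one_ne_zero one_ne_zero (-1)
  rw [mul_one, mul_one] at e
  refine h.k5_core (μ := slToMat 5 F) (π := φ.symm.toMonoidHom.comp (QuotientGroup.mk' _))
    ⟨GHA.two_ne_zero_of_odd hq, fun a b e => Subtype.ext e, fun g => g.2,
      fun N _ hN => ⟨L3S.K5.mk F N hN, rfl⟩, φ.symm.surjective.comp (QuotientGroup.mk'_surjective _),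
      fun g e => ?_⟩ e (b := ⟨k5B s t, k5_det e⟩) rfl
  exact (QuotientGroup.eq_one_iff g).1 ((map_eq_one_iff _ φ.symm.injective).1 e)

open CfsgLib.L3S.K5 Matrix in

theorem Hy.kU5 (h : Hy ρ) (e : GHE.IU 5 Odd G) : False := by
  obtain ⟨F, _, _, q, hF, hq, ⟨φ⟩⟩ := e
  let σ := Unitary.conj hF
  obtain ⟨δ, h0, hδ⟩ := Unitary.exists_trace_zero hF
  replace hδ : σ δ = -δ := eq_neg_of_add_eq_zero_right hδ
  obtain ⟨⟨s, hs⟩, ⟨t, ht⟩, hst⟩ := Orth.exists_sq_add_sq_eq (F := σ.eqLocusField (.id F)) one_ne_zero one_ne_zero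
    ⟨-(δ ^ 2)⁻¹, by simp [hδ]⟩
  replace hst : δ * s * (δ * s) + δ * t * (δ * t) = -1 := by
    have : s * s * 1 + t * t * 1 = -(δ ^ 2)⁻¹ := congrArg Subtype.val hst
    field_simp at this
    linear_combination this
  replace hs : σ (δ * s) = -(δ * s) := by rw [map_mul, hδ, show σ s = s from hs, neg_mul]
  replace ht : σ (δ * t) = -(δ * t) := by rw [map_mul, hδ, show σ t = t from ht, neg_mul]
  generalize δ * s = x at hs hst
  generalize δ * t = y at ht hst
  refine h.k5_core (μ := (slToMat 5 F).comp (SU 5 F q).subtype)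
    (π := φ.symm.toMonoidHom.comp (QuotientGroup.mk' _))
    ⟨GHA.two_ne_zero_of_odd (hF ▸ hq.pow), fun a b e => Subtype.ext (Subtype.ext e), fun g => g.1.2,
      fun N h1 hN => ⟨⟨L3S.K5.mk F N hN, (Unitary.mem_SU_iff hF _).2 ?_⟩, rfl⟩,
      φ.symm.surjective.comp (QuotientGroup.mk'_surjective _), fun g e => ?_⟩ hst
    (b := ⟨⟨k5B x y, k5_det hst⟩, (Unitary.mem_SU_iff hF _).2 ?_⟩) rfl
  · have e1 : (rd F N).map (Unitary.conj hF) = rd F N := by
      ext i j; exact map_intCast (Unitary.conj hF) _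
    have e2 := congrArg (Int.castRingHom F).mapMatrix h1
    rw [map_mul, map_one] at e2
    exact (congrArg ((rd F N)ᵀ * ·) e1).trans e2
  · exact (QuotientGroup.eq_one_iff g).1 ((map_eq_one_iff _ φ.symm.injective).1 e)
  · change (k5B x y)ᵀ * (k5B x y).map σ = 1
    ext i j
    fin_cases i <;> fin_cases j <;> simp [k5B, mul_apply, Fin.sum_univ_five, hs, ht] <;>
      first | linear_combination -hst | ring

omit [IsAlgClosed K] in
theorem e8c (h : GHE.Ctx G) (e : GHE.E8T G) : GHE.IL 2 (· = 8) G ∨ Lie.IsoRee G ∨ Spor.IsoJ1 G ∨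
    GHE.IL 2 (fun q => Odd q ∧ 5 ≤ q) G := by
  have := Fact.mk Nat.prime_two
  have := h.simple
  obtain ⟨P⟩ : Nonempty (Sylow 2 G) := inferInstance
  obtain ⟨el, c8⟩ := e.1 P (Tech.IsSylowIn.of_sylow_top P)
  have top : generalizedFittingSubgroup G = ⊤ :=
    eq_top_iff.2 ((Comp.layer_eq_top_of_qs (Comp.qs_of_isSimpleGroup h.ncomm)).ge.trans le_sup_left)
  have e : generalizedFittingSubgroup G ≃* G := (MulEquiv.subgroupCongr top).trans topEquiv
  have : (generalizedFittingSubgroup G).Normal := top ▸ inferInstance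
  have ab : IsMulCommutative (P : Subgroup G) := ⟨⟨fun a b => Subtype.ext (by
    have i : ∀ x ∈ (P : Subgroup G), x⁻¹ = x := fun x hx => inv_eq_of_mul_eq_one_right (el x hx)
    change (a : G) * b = b * a
    rw [← i _ (mul_mem a.2 b.2), mul_inv_rev, i _ a.2, i _ b.2])⟩⟩
  rcases (Cfsg.Agent.S2921.result e.isSimpleGroup (fun k => h.ncomm ⟨⟨fun a b => e.symm.injective (by
    rw [map_mul, map_mul]; exact k.1.1 _ _)⟩⟩) P ab (by omega)).2.1 with
    ⟨F, _, _, n, hn, hF, ⟨f⟩⟩ | ⟨F, _, _, m, hm, hF, ⟨f⟩⟩ | ⟨⟨f⟩⟩ | ⟨F, _, _, r, b, -, hF, h3, h5, ⟨f⟩⟩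
  · have : CharP F 2 := charP_of_card_eq_prime_pow hF
    have f' := e.symm.trans (f.trans (SL2.pmEquiv (CharP.cast_eq_zero F 2)))
    obtain ⟨T⟩ : Nonempty (Sylow 2 (Matrix.ProjectiveSpecialLinearGroup (Fin 2) F)) := inferInstance
    have k := Classical.psl_card_sylow 2 2 T
    rw [T.card_eq_multiplicity, ← Nat.card_congr f'.toEquiv, ← P.card_eq_multiplicity, c8] at k
    exact .inl ⟨F, _, _, by simpa using k.symm, ⟨f'⟩⟩
  · exact .inr (.inl ⟨F, _, _, m, hm, hF, ⟨e.symm.trans f⟩⟩)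
  · exact .inr (.inr (.inl ⟨e.symm.trans f⟩))
  · exact .inr (.inr (.inr ⟨F, _, _, ⟨by rw [hF, Nat.odd_iff]; omega, by omega⟩, ⟨e.symm.trans f⟩⟩))

end CfsgLib.O7
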