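import Cfsg.Agent.Lib.O7.Tool
import Cfsg.Agent.Lib.AltAut.Basic

/-!
KA7: `A₇`.  See `plans/O7B.md`.
-/

set_option autoImplicit false

namespace CfsgLib.O7

open CfsgLib.OrthE CfsgLib.OMax Module QuadraticMap Subgroup Cfsg
open scoped MatrixGroups

variable {K G : Type*} [Field K] [IsAlgClosed K] [Group G] [Finite G] {ρ : G →* G7 K}
  {E : Type} [Field E] [Fintype E]

/-- an even permutation of seven points -/
def ka7_ev (σ : Equiv.Perm (Fin 7)) (h : Equiv.Perm.sign σ = 1 := by decide +kernel) :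
    alternatingGroup (Fin 7) := ⟨σ, h⟩

/-- a double transposition -/
def ka7_dt (i j k l : Fin 7) : Equiv.Perm (Fin 7) := Equiv.swap i j * Equiv.swap k l

theorem ka7_gen : closure {ka7_ev (ka7_dt 0 1 2 3), ka7_ev (ka7_dt 0 4 5 6), ka7_ev (ka7_dt 2 4 3 5)} = ⊤ := by
  generalize hH : closure {ka7_ev (ka7_dt 0 1 2 3), ka7_ev (ka7_dt 0 4 5 6), ka7_ev (ka7_dt 2 4 3 5)} = H
  have key : ∀ L : List (Fin 3), (L.map ![ka7_dt 0 1 2 3, ka7_dt 0 4 5 6, ka7_dt 2 4 3 5]).prod ∈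
      H.map (alternatingGroup (Fin 7)).subtype := fun L => list_prod_mem fun x hx => by
    obtain ⟨i, -, rfl⟩ := List.mem_map.1 hx
    fin_cases i
    · exact ⟨ka7_ev (ka7_dt 0 1 2 3), hH.le (Subgroup.subset_closure (by simp)), rfl⟩
    · exact ⟨ka7_ev (ka7_dt 0 4 5 6), hH.le (Subgroup.subset_closure (by simp)), rfl⟩
    · exact ⟨ka7_ev (ka7_dt 2 4 3 5), hH.le (Subgroup.subset_closure (by simp)), rfl⟩
  have w : ∀ k : Fin 7, k ≠ 0 → k ≠ 1 → ∃ L ∈ ([[2, 0, 1, 0, 1, 2], [0, 2, 1, 0, 1, 0, 2, 0], [0, 1, 0, 1],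
      [2, 0, 2, 1, 0, 1, 0, 2, 0, 2], [1, 0, 2, 0, 2, 1, 0]] : List (List (Fin 3))),
      AltAut.tc 0 1 k = (L.map ![ka7_dt 0 1 2 3, ka7_dt 0 4 5 6, ka7_dt 2 4 3 5]).prod := by
    decide +kernel
  have := AltAut.alternatingGroup_le_of_tc (p := 0) (q := 1) zero_ne_one
    (E := H.map (alternatingGroup (Fin 7)).subtype) fun k h0 h1 => by
      obtain ⟨l, -, e⟩ := w k h0 h1
      exact e ▸ key l
  refine eq_top_iff.2 fun x _ => ?_
  obtain ⟨y, hy, e⟩ := this x.2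
  exact Subtype.ext e ▸ hy

theorem ka7_facts : ∃ a b c z σ x : alternatingGroup (Fin 7), closure {a, b, c} = ⊤ ∧ IsConj a b ∧
    IsConj a c ∧ A4 a z σ ∧ x * a = a * x ∧ x * σ = σ * x ∧ IsConj σ x :=
  ⟨_, _, _, ka7_ev (ka7_dt 1 2 0 3), ka7_ev (ka7_dt 0 1 1 2), ka7_ev (ka7_dt 4 5 5 6), ka7_gen,
    isConj_iff.2 ⟨ka7_ev (ka7_dt 1 4 2 5 * ka7_dt 3 6 0 1), by decide +kernel⟩,
    isConj_iff.2 ⟨ka7_ev (ka7_dt 0 2 2 3 * ka7_dt 3 5 1 4), by decide +kernel⟩,
    ⟨by decide +kernel, by decide +kernel, by decide +kernel, by decide +kernel, by decide +kernel,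
      by decide +kernel⟩, by decide +kernel, by decide +kernel,
    isConj_iff.2 ⟨ka7_ev (ka7_dt 0 4 1 5 * ka7_dt 2 6 6 3), by decide +kernel⟩⟩

theorem Hy.kA7 (h : Hy ρ) (e : G ≃* alternatingGroup (Fin 7)) : False := by
  obtain ⟨a, b, c, z, σ, x, hg, hb, hc, a4, h1, h2, hx⟩ := ka7_facts
  let f := e.symm.toMonoidHom
  have inj : Function.Injective f := e.symm.injective
  have A : A4 (f a) (f z) (f σ) :=
    ⟨fun k => a4.ne (inj (k.trans (map_one f).symm)), by rw [← map_mul, a4.sq, map_one],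
      by rw [← map_mul, ← map_mul, a4.comm], by rw [← map_inv, ← map_mul, ← map_mul, a4.c₁],
      by rw [← map_inv, ← map_mul, ← map_mul, ← map_mul, a4.c₂], by rw [← map_pow, a4.cube, map_one]⟩
  have hg' : closure {f a, f b, f c} = ⊤ := by
    have := congrArg (Subgroup.map f) hg
    rwa [MonoidHom.map_closure, Set.image_insert_eq, Set.image_pair,
      map_top_of_surjective f e.symm.surjective] at this
  exact h.a4X A (h.w4 hg' A.ne A.sq (f.map_isConj hb) (f.map_isConj hc))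
    (by rw [← map_mul, ← map_mul, h1]) (by rw [← map_mul, ← map_mul, h2]) (f.map_isConj hx)

end CfsgLib.O7
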