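import Cfsg.Agent.Lib.O7.Tool
import Cfsg.Agent.Lib.GHE.Defs

/-!
KAN: `A₈, …, A₁₁`.  See `plans/O7B.md`.
-/

set_option autoImplicit false

namespace CfsgLib.O7

open CfsgLib.OrthE CfsgLib.OMax Module QuadraticMap Subgroup Cfsg
open scoped MatrixGroups

variable {K G : Type*} [Field K] [IsAlgClosed K] [Group G] [Finite G] {ρ : G →* G7 K}
  {E : Type} [Field E] [Fintype E]

/-- the three-cycles through two fixed points generate the alternating group -/
theorem kan_gen {α : Type*} [Fintype α] [DecidableEq α] {M : Subgroup (Equiv.Perm α)} {p q : α} (hq : p ≠ q)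
    (h : ∀ k, k ≠ p → Equiv.swap p q * Equiv.swap p k ∈ M) {g : Equiv.Perm α} (hg : g ∈ alternatingGroup α) :
    g ∈ M := by
  have k : ∀ x y, x ≠ y → Equiv.swap p q * Equiv.swap x y ∈ M := fun x y e => by
    by_cases hx : x = p
    · exact hx ▸ h y (hx ▸ e.symm)
    by_cases hy : y = p
    · rw [hy, Equiv.swap_comm x]; exact h x hx
    have := mul_mem (h x hx) (mul_mem (inv_mem (h y hy)) (h x hx))
    rwa [mul_inv_rev, Equiv.swap_inv, Equiv.swap_inv, mul_assoc (Equiv.swap p y), Equiv.swap_mul_self_mul, mul_assoc,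
      ← mul_assoc (Equiv.swap p x), Equiv.swap_comm p y, Equiv.swap_mul_swap_mul_swap hy e.symm] at this
  have : ∀ g : Equiv.Perm α, (Equiv.Perm.sign g = 1 → g ∈ M) ∧ (Equiv.Perm.sign g = -1 → Equiv.swap p q * g ∈ M) :=
    fun g => by
    induction g using Equiv.Perm.swap_induction_on with
    | one => exact ⟨fun _ => one_mem _, fun e => absurd e (by simp)⟩
    | swap_mul f x y e ih =>
      rw [map_mul, Equiv.Perm.sign_swap e]
      refine ⟨fun s => ?_, fun s => ?_⟩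
      · simpa [mul_assoc] using mul_mem (inv_mem (k x y e)) (ih.2 (by rw [neg_one_mul, neg_eq_iff_eq_neg] at s; exact s))
      · rw [← mul_assoc]; exact mul_mem (k x y e) (ih.1 (by simpa using s))
  exact (this g).1 hg

/-- a product of two transpositions -/
def kanC {n : ℕ} (a b c d : Fin n) : alternatingGroup (Fin n) :=
  ⟨if a ≠ b ∧ c ≠ d then Equiv.swap a b * Equiv.swap c d else 1, by
    split_ifs with h
    · simp [h.1, h.2]
    · exact one_mem _⟩

theorem kan_dec : ∀ m < 4, let t : alternatingGroup (Fin (m + 8)) := kanC 0 1 2 3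
    let u : alternatingGroup (Fin (m + 8)) := kanC 0 2 1 3
    let σ : alternatingGroup (Fin (m + 8)) := kanC 1 3 1 2
    let x : alternatingGroup (Fin (m + 8)) := kanC 4 6 4 5
    let w : alternatingGroup (Fin (m + 8)) := kanC 2 4 3 5
    let κ : alternatingGroup (Fin (m + 8)) := kanC 1 4 2 5 * kanC 3 6 0 7
    (t ≠ 1 ∧ t * t = 1 ∧ t * u = u * t ∧ σ * t * σ⁻¹ = u ∧ σ * u * σ⁻¹ = t * u ∧ σ ^ 3 = 1) ∧
    (x * t = t * x ∧ x * σ = σ * x ∧ κ * σ * κ⁻¹ = x ∧ t * (w * t * w⁻¹) = w * t * w⁻¹ * t ∧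
      w * t * w⁻¹ * u = u * (t * (w * t * w⁻¹))) ∧ (6 : Fin (m + 8)) ≠ 7 ∧
    ∀ k : Fin (m + 8), k ≠ 6 → let y : alternatingGroup (Fin (m + 8)) := kanC 6 7 6 k
      y ^ 3 = 1 ∧ ((y * t = t * y ∧ y * u = u * y) ∨
        (y * (w * t * w⁻¹) = w * t * w⁻¹ * y ∧ y * (w * u * w⁻¹) = w * u * w⁻¹ * y) ∨
        (u * y * u⁻¹ * (w * t * w⁻¹) = w * t * w⁻¹ * (u * y * u⁻¹) ∧
          u * y * u⁻¹ * (w * u * w⁻¹) = w * u * w⁻¹ * (u * y * u⁻¹))) := by
  intro m hm
  interval_cases m <;> (intro t u σ x w κ; refine ⟨?_, ?_, ?_, ?_⟩ <;> (try simp only [t, u, σ, x, w, κ]) <;> decide +kernel)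

omit [IsAlgClosed K] in
/-- an element of order three commuting with a four-group of weight two -/
theorem kan_fix (h2 : (2 : K) ≠ 0) {t u y : G7 K} (ht : t * t = 1) (hu : u * u = 1) (hc : t * u = u * t)
    (r1 : rk t = 2) (r2 : rk u = 2) (r3 : rk (t * u) = 2) (h3 : y ^ 3 = 1) (c1 : y * t = t * y) (c2 : y * u = u * y)
    {v : V7 K} (hv : t.1 v = -v) : y.1 v = v := by
  obtain ⟨-, d1, d2, d3⟩ := a4l_dims h2 ht hu hc
  have k : ∀ δ : K, δ = 1 ∨ δ = -1 → ∀ w ∈ J2 t u (-1) δ, y.1 w = w := fun δ hδ =>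
    a4l_line (nd_J2 h2 (nondeg_Q7 h2) ht hu hc (.inr rfl) hδ) (by rcases hδ with rfl | rfl <;> omega)
      (fun w hw => mem_J2.2 ⟨by rw [← a4l_cm c1, (mem_J2.1 hw).1, map_smul],
        by rw [← a4l_cm c2, (mem_J2.1 hw).2, map_smul]⟩) h3
  have e : t.1 (u.1 v) = -u.1 v := by rw [a4l_cm hc, hv, map_neg]
  have k1 := k 1 (.inl rfl) (v + u.1 v) (mem_J2.2 ⟨by rw [map_add, hv, e]; module, by
    rw [map_add, a4l_sq hu]; module⟩)
  have k2 := k (-1) (.inr rfl) (v - u.1 v) (mem_J2.2 ⟨by rw [map_sub, hv, e]; module, by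
    rw [map_sub, a4l_sq hu]; module⟩)
  rw [map_add] at k1
  rw [map_sub] at k2
  exact a4l_two h2 (by rw [two_smul, two_smul]; linear_combination (exp := 1) k1 + k2)

omit [IsAlgClosed K] in
/-- an involution of weight two is a product of two reflections -/
theorem kan_two (h2 : (2 : K) ≠ 0) {t s : G7 K} (ht : t * t = 1) (hs : s * s = 1) (hc : t * s = s * t)
    (d1 : finrank K (J2 t s (-1) (-1)) = 1) (d2 : finrank K (J2 t s (-1) 1) = 1) {v v' : V7 K}
    (hv : v ∈ J2 t s (-1) (-1)) (hv' : v' ∈ J2 t s (-1) 1) (q : Q7 K v ≠ 0) (q' : Q7 K v' ≠ 0) :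
    refl (Q7 K) v * refl (Q7 K) v' = t := by
  obtain ⟨a1, a2⟩ := mem_J2.1 hv
  obtain ⟨b1, b2⟩ := mem_J2.1 hv'
  have z : ∀ {g : G7 K} {x y : V7 K}, g.1 x = x → g.1 y = (-1 : K) • y → polar (Q7 K) x y = 0 := fun {g x y} a b => by
    have := O_polar g x y
    rw [a, b, polar_smul_right, smul_eq_mul] at this
    exact (mul_eq_zero.1 (show 2 * polar (Q7 K) x y = 0 by linear_combination -this)).resolve_left h2
  have o : polar (Q7 K) v' v = 0 := z (by rw [b2, one_smul]) a2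
  let E := LinearMap.eqLocus (en (refl (Q7 K) v * refl (Q7 K) v')) (en t)
  have mE : ∀ x, (refl (Q7 K) v).1 ((refl (Q7 K) v').1 x) = t.1 x → x ∈ E := fun x k => k
  have l : ∀ {W : Submodule K (V7 K)} {x : V7 K}, finrank K W = 1 → x ∈ W → Q7 K x ≠ 0 → x ∈ E → W ≤ E :=
    fun {W x} d hx q m y hy => by
      obtain ⟨c, e⟩ := (finrank_eq_one_iff_of_nonzero' (⟨x, hx⟩ : W) fun k =>
        q (by rw [show x = 0 from congrArg Subtype.val k, map_zero])).1 d ⟨y, hy⟩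
      exact (show c • x = y from congrArg Subtype.val e) ▸ E.smul_mem c m
  have l1 := l d1 hv q (mE _ (by rw [refl_apply_of_orth ((polar_comm _ _ _).trans o), refl_apply_self q, a1]; module))
  have l2 := l d2 hv' q' (mE _ (by rw [refl_apply_self q', map_neg, refl_apply_of_orth o, b1]; module))
  refine O_ext fun w => ?_
  have p : t.1 (w + t.1 w) = w + t.1 w := by rw [map_add, a4l_sq ht, add_comm]
  have n : t.1 (w - t.1 w) = -(w - t.1 w) := by rw [map_sub, a4l_sq ht, neg_sub]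
  generalize hx : w - t.1 w = x at n
  have e : t.1 (s.1 x) = -s.1 x := by rw [a4l_cm hc, n, map_neg]
  have m0 := mE _ (by rw [refl_apply_of_orth (z p b1), refl_apply_of_orth (z p a1), p])
  have m1 := l1 (show x - s.1 x ∈ _ from mem_J2.2 ⟨by rw [map_sub, n, e]; module, by
    rw [map_sub, a4l_sq hs]; module⟩)
  have m2 := l2 (show x + s.1 x ∈ _ from mem_J2.2 ⟨by rw [map_add, n, e]; module, by
    rw [map_add, a4l_sq hs]; module⟩)
  have := add_mem (E.smul_mem 2 m0) (add_mem m1 m2)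
  rw [show (2 : K) • (w + t.1 w) + (x - s.1 x + (x + s.1 x)) = ((2 : K) * 2) • w by rw [← hx]; module,
    E.smul_mem_iff (mul_ne_zero h2 h2)] at this
  exact this

theorem Hy.kan_core (h : Hy ρ) {t u σ x w : G} (a : A4 t u σ) (h1 : x * t = t * x) (h2 : x * σ = σ * x)
    (hx : IsConj σ x) (c1 : t * (w * t * w⁻¹) = w * t * w⁻¹ * t) (c2 : w * t * w⁻¹ * u = u * (t * (w * t * w⁻¹))) :
    ∃ M : Subgroup G, M ≠ ⊤ ∧ u ∈ M ∧ ∀ y, y ^ 3 = 1 → ((y * t = t * y ∧ y * u = u * y) ∨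
      (y * (w * t * w⁻¹) = w * t * w⁻¹ * y ∧ y * (w * u * w⁻¹) = w * u * w⁻¹ * y)) → y ∈ M := by
  have r1 : rk (ρ t) = 2 := (h.wt a.ne a.sq).resolve_right fun k => h.a4X a k h1 h2 hx
  have rc : ∀ {y : G} (g : G), rk (ρ y) = 2 → rk (ρ (g * y * g⁻¹)) = 2 := fun g k => by
    rw [map_mul, map_mul, map_inv, rk_conj, k]
  have r2 : rk (ρ u) = 2 := a.c₁ ▸ rc σ r1
  have r3 : rk (ρ (t * u)) = 2 := a.c₂ ▸ rc σ r2
  have f : ∀ {x y z : G}, x * y = z → ρ x * ρ y = ρ z := fun k => by rw [← map_mul, k]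
  have f1 : ∀ {x : G}, x * x = 1 → ρ x * ρ x = 1 := fun k => by rw [f k, map_one]
  have f2 : ∀ {x y : G}, x * y = y * x → ρ x * ρ y = ρ y * ρ x := fun k => by rw [f k, map_mul]
  have cs : ∀ {y : G}, y * y = 1 → w * y * w⁻¹ * (w * y * w⁻¹) = 1 := fun k => by rw [conj_mul, k]; simp
  have r4 := rc w r1
  have r5 := rc w r2
  have r6 := rc w r3
  have c3 : w * t * w⁻¹ * (w * u * w⁻¹) = w * u * w⁻¹ * (w * t * w⁻¹) := by rw [conj_mul, conj_mul, a.comm]
  have s2 := cs a.sq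
  have s3 := cs a.sq2
  rw [← conj_mul] at r6
  generalize w * t * w⁻¹ = s at *
  generalize w * u * w⁻¹ = u' at *
  have r7 : rk (ρ t * ρ s) = 2 := by
    rw [← map_mul, show t * s = u⁻¹ * s * u⁻¹⁻¹ by rw [inv_inv, mul_assoc, c2, inv_mul_cancel_left]]
    exact rc _ r4
  obtain ⟨-, d1, d2, d3⟩ := a4l_dims h.two (f1 a.sq) (f1 s2) (f2 c1)
  obtain ⟨v, hv, q⟩ := a4l_ns (nd_J2 h.two (nondeg_Q7 h.two) (f1 a.sq) (f1 s2) (f2 c1) (.inr rfl) (.inr rfl))
    fun k => by rw [k, finrank_bot] at d1 d2; omega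
  obtain ⟨a1, a2⟩ := mem_J2.1 hv
  have e := kan_two h.two (f1 a.sq) (f1 s2) (f2 c1) (by omega) (by omega) hv (v' := (ρ u).1 v) (mem_J2.2
    ⟨by rw [a4l_cm (f2 a.comm), a1, map_smul], by
      rw [← O_mul_apply, f c2, map_mul, map_mul, O_mul_apply, O_mul_apply, a2, map_smul, a1, smul_smul]; simp⟩)
    q (by rwa [O_map])
  refine ⟨(ρ.range.comap (MulAut.conj (refl (Q7 K) v)).toMonoidHom).comap ρ, fun k => h.nr v q ?_,
    ⟨t * u, ?_⟩, fun y y3 hy => ⟨y, ?_⟩⟩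
  · rintro _ ⟨g, rfl⟩
    exact k.ge (mem_top g)
  · change _ = refl (Q7 K) v * ρ u * (refl (Q7 K) v)⁻¹
    rw [map_mul, ← e, ← conj_refl, refl_inv]
    group
  · have y3' : ρ y ^ 3 = 1 := by rw [← map_pow, y3, map_one]
    have : (ρ y).1 v = v := by
      rcases hy with ⟨k1, k2⟩ | ⟨k1, k2⟩
      · exact kan_fix h.two (f1 a.sq) (f1 a.sq2) (f2 a.comm) r1 r2 (map_mul ρ t u ▸ r3) y3' (f2 k1) (f2 k2)
          (by rw [a1, neg_one_smul])
      · exact kan_fix h.two (f1 s2) (f1 s3) (f2 c3) r4 r5 (map_mul ρ s u' ▸ r6) y3' (f2 k1) (f2 k2)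
          (by rw [a2, neg_one_smul])
    change _ = refl (Q7 K) v * ρ y * (refl (Q7 K) v)⁻¹
    have k := conj_refl (ρ y) v
    rw [this] at k
    rw [← mul_inv_eq_iff_eq_mul.1 k, mul_inv_cancel_right]

theorem Hy.kAn (h : Hy ρ) (e : GHE.Alt G) : False := by
  obtain ⟨n, h8, h11, ⟨e⟩⟩ := e
  obtain ⟨m, rfl⟩ : ∃ m, n = m + 8 := ⟨n - 8, by omega⟩
  obtain ⟨⟨a1, a2, a3, a4, a5, a6⟩, ⟨b1, b2, b3, b4, b5⟩, c0, c⟩ := kan_dec m (by omega)
  let φ := e.symm.toMonoidHom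
  have f : ∀ {x y}, x = y → φ x = φ y := fun k => congrArg φ k
  obtain ⟨M, hM, hu, hy⟩ := h.kan_core (t := φ (kanC 0 1 2 3)) (u := φ (kanC 0 2 1 3)) (σ := φ (kanC 1 3 1 2))
    (x := φ (kanC 4 6 4 5)) (w := φ (kanC 2 4 3 5))
    ⟨fun k => a1 (e.symm.injective (k.trans (map_one φ).symm)), by simpa only [map_mul, map_one] using f a2,
      by simpa only [map_mul] using f a3, by simpa only [map_mul, map_inv] using f a4,
      by simpa only [map_mul, map_inv] using f a5, by simpa only [map_pow, map_one] using f a6⟩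
    (by simpa only [map_mul] using f b1) (by simpa only [map_mul] using f b2) (φ.map_isConj (isConj_iff.2 ⟨_, b3⟩))
    (by simpa only [map_mul, map_inv] using f b4) (by simpa only [map_mul, map_inv] using f b5)
  refine hM (eq_top_iff.2 fun g _ => ?_)
  obtain ⟨y, hy', k⟩ := kan_gen (M := (M.comap φ).map (Subgroup.subtype _)) c0 (fun k hk => by
    obtain ⟨c1, c2⟩ := c k hk
    refine ⟨kanC 6 7 6 k, ?_, if_pos ⟨c0, hk.symm⟩⟩
    have c3 : φ (kanC 6 7 6 k) ^ 3 = 1 := by rw [← map_pow, c1, map_one]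
    rcases c2 with ⟨d1, d2⟩ | ⟨d1, d2⟩ | ⟨d1, d2⟩
    · exact hy _ c3 (.inl ⟨by simpa only [map_mul] using f d1, by simpa only [map_mul] using f d2⟩)
    · exact hy _ c3 (.inr ⟨by simpa only [map_mul, map_inv] using f d1, by simpa only [map_mul, map_inv] using f d2⟩)
    · have := hy (φ (kanC 0 2 1 3) * φ (kanC 6 7 6 k) * (φ (kanC 0 2 1 3))⁻¹) (by rw [conj_pow, c3]; simp)
        (.inr ⟨by simpa only [map_mul, map_inv] using f d1, by simpa only [map_mul, map_inv] using f d2⟩)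
      exact (mul_mem_cancel_left hu).1 ((mul_mem_cancel_right (inv_mem hu)).1 this)) (e g).2
  rw [show y = e g from Subtype.ext k] at hy'
  exact e.symm_apply_apply g ▸ hy'

end CfsgLib.O7
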