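import Cfsg.Agent.Lib.O7.KG23
import Cfsg.Agent.Lib.O7.Tri
import Cfsg.Agent.Lib.RepChk.Zorn
import Cfsg.Agent.Lib.LieMult.SL2
import Cfsg.Agent.Lib.Chev.Torus
import Cfsg.Agent.S2100

/-!
KG2: `G₂(r)`, `r` odd.  See `plans/O7B.md`.
-/

set_option autoImplicit false

namespace CfsgLib.O7

open CfsgLib.OrthE CfsgLib.OMax Module QuadraticMap Subgroup Cfsg
open scoped MatrixGroups

variable {K G : Type*} [Field K] [IsAlgClosed K] [Group G] [Finite G] {ρ : G →* G7 K}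
  {E : Type} [Field E] [Fintype E]

namespace KG2

open Cfsg.Lie CfsgLib.Chev CfsgLib.Weyl CfsgLib.Syl2EA CfsgLib.Classical

theorem sl3 (hF : ∃ a : E, a ≠ 0 ∧ a ≠ 1) :
    ∃ φ : SL(3, E) →* chevG2.group E, Function.Injective φ := by
  classical
  obtain ⟨ψ, -⟩ := RepChk.exists_zornEquiv hF
  have : Finite ((Fin 8 → E) ≃ₗ[E] (Fin 8 → E)) := Finite.of_equiv _ Forms.glEquiv.toEquiv
  have h1 := (MulAction.stabilizer (zAut E) (zE E)).card_mul_index
  have h3 : Nat.card (G2 E) = Nat.card (zAut E) :=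
    Nat.card_congr (Forms.glEquiv.toEquiv.subtypeEquiv fun _ => Iff.rfl)
  rw [MulAction.index_stabilizer, ← Nat.card_coe_set_eq,
    Nat.card_congr (Equiv.subtypeEquivRight fun _ => mem_orbit_zE), card_ZI,
    Nat.card_eq_fintype_card (α := E), ← h3, ← Nat.card_congr ψ.toEquiv, RGD.card_G2 E rfl,
    show Fintype.card E ^ 6 - 1 = (Fintype.card E ^ 3) ^ 2 - 1 by rw [← pow_mul],
    sl_sq_sub_one (_ ^ 3)] at h1
  have bij : Function.Bijective (zRes (F := E)) := by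
    refine (Nat.bijective_iff_injective_and_card _).2 ⟨zRes_injective, ?_⟩
    rw [sl3_card]
    refine Nat.eq_of_mul_eq_mul_right (m := Fintype.card E ^ 3 * (Fintype.card E ^ 3 + 1))
      (Nat.mul_pos (pow_pos (Fintype.card_pos (α := E)) 3) (Nat.succ_pos _)) ?_
    rw [h1]; ring
  let ι : zAut E →* G2 E := (Forms.glEquiv.symm.toMonoidHom.comp (zAut E).subtype).codRestrict _ fun g => by
    obtain ⟨g, hg⟩ := g
    obtain ⟨k, rfl⟩ := Forms.glEquiv.surjective g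
    change Forms.glEquiv.symm (Forms.glEquiv k) ∈ _
    rw [MulEquiv.symm_apply_apply]
    exact hg
  have hι : Function.Injective ι := fun a b e =>
    Subtype.ext (Forms.glEquiv.symm.injective (congrArg Subtype.val e))
  exact ⟨ψ.symm.toMonoidHom.comp (ι.comp ((Subgroup.subtype _).comp (MulEquiv.ofBijective _ bij).symm.toMonoidHom)),
    ψ.symm.injective.comp (hι.comp (Subtype.val_injective.comp (MulEquiv.ofBijective _ bij).symm.injective))⟩

omit [Finite G] in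
theorem td_inj {H : Type*} [Group H] (f : G →* H) (hf : Function.Injective f) {z₁ z₂ σ : G}
    {φ : SL(2, E) →* G} {g : SL(2, E)} (t : TD (f z₁) (f z₂) (f σ) (f.comp φ) g) :
    TD z₁ z₂ σ φ g where
  a4 := ⟨fun e => t.a4.ne (by rw [e, map_one]), hf (by simpa using t.a4.sq),
    hf (by simpa using t.a4.comm), hf (by simpa using t.a4.c₁), hf (by simpa using t.a4.c₂),
    hf (by simpa using t.a4.cube)⟩
  cen := hf t.cen
  nrm x := (t.nrm x).imp fun _ e => hf (by simpa using e)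
  ord := t.ord
  comm := hf (by simpa using t.comm)
  comm' := hf (by simpa using t.comm')
  prod := hf (by simpa using t.prod)
  small h6 x := hf (by simpa using (t.small h6 x).eq)

omit [Finite G] [Fintype E] in
theorem ind (f : SL(2, E) →* G) (M : Subgroup G) (hX : ∀ t, f (slX t) ∈ M) (hY : ∀ t, f (slY t) ∈ M)
    (x : SL(2, E)) : f x ∈ M :=
  sl_induction (M := (M.comap f).toSubmonoid) hX
    (slW_eq (F := E) ▸ mul_mem (mul_mem (hX 1) (hY (-1))) (hX 1)) x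

variable {D : ChevalleyDatum} [Good D] {σ σ' : GL D.Idx E} {π π' : ℕ → ℕ} {r s : ℕ}

/-- `σ` permutes the root subgroups -/
structure Mv (σ : GL D.Idx E) (π : ℕ → ℕ) : Prop where
  lt : ∀ r < D.nroots, π r < D.nroots
  x : ∀ r < D.nroots, ∃ ε : E, ε * ε = 1 ∧ ∀ t, σ * xU D E r t * σ⁻¹ = xU D E (π r) (ε * t)
  h : ∀ r < D.nroots, ∀ c : E, c ≠ 0 → σ * hU D E r c * σ⁻¹ = hU D E (π r) c
  mem : σ ∈ D.group E

omit [Fintype E] in
theorem mv_n (hr : r < D.nroots) : Mv (nU D E r 1) (Chev.refl D r) where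
  lt _ hs := refl_lt hr hs
  x s hs := ⟨(eta D r s : ℤ), by rw [← Int.cast_mul, eta_mul_self hr hs, Int.cast_one], fun t => by
    rw [nU_conj_xU hr hs one_ne_zero, one_zpow, mul_one]⟩
  h _ hs _ hc := nU_conj_hU hr hs one_ne_zero hc
  mem := nU_mem_group _ _

omit [Fintype E] in
theorem Mv.mul (k : Mv σ π) (k' : Mv σ' π') : Mv (σ * σ') fun r => π (π' r) where
  lt r hr := k.lt _ (k'.lt r hr)
  x r hr := by
    obtain ⟨ε, h1, h2⟩ := k.x _ (k'.lt r hr)
    obtain ⟨ε', h1', h2'⟩ := k'.x r hr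
    refine ⟨ε * ε', by linear_combination ε' * ε' * h1 + h1', fun t => ?_⟩
    rw [mul_assoc ε, ← h2, ← h2']; group
  h r hr c hc := by rw [← k.h _ (k'.lt r hr) c hc, ← k'.h r hr c hc]; group
  mem := mul_mem k.mem k'.mem

omit [Fintype E] in
theorem Mv.sq (k : Mv σ π) (hD : RtOK D) (h : ∀ r < D.nroots, π r = r) : σ * σ = 1 := by
  refine RGD.eq_one_of_central hD (mul_mem k.mem k.mem) fun g hg => ?_
  refine (show D.group E ≤ centralizer {σ * σ} from ?_) hg _ rfl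
  rw [group_eq, closure_le]
  rintro _ ⟨r, hr, t, rfl⟩ _ rfl
  obtain ⟨ε, h1, h2⟩ := k.x r hr
  rw [h r hr] at h2
  rw [← mul_inv_eq_iff_eq_mul, show σ * σ * xU D E r t * (σ * σ)⁻¹ = σ * (σ * xU D E r t * σ⁻¹) * σ⁻¹ by group,
    h2, h2, ← mul_assoc, h1, one_mul]

omit [Fintype E] in
theorem diag (hr : r < D.nroots) (a : Eˣ) : sl2Hom E hr (sl2Diag a) = hU D E r a :=
  LieMult.hom_sl2Diag _ a

omit [Fintype E] in
theorem neg_one (hr : r < D.nroots) : sl2Hom E hr (-1) = hU D E r (-1) := by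
  have : (-1 : SL(2, E)) = sl2Diag (-1) := by
    ext i j; fin_cases i <;> fin_cases j <;> simp [sl2Diag_coe]
  rw [this, diag]; rfl

omit [Fintype E] in
theorem hcomm (hr : r < D.nroots) (hs : s < D.nroots) {a b : E} (ha : a ≠ 0) (hb : b ≠ 0) :
    hU D E r a * hU D E s b = hU D E s b * hU D E r a :=
  diagonalSubgroup_comm (hU_mem_diagonalSubgroup hr ha) (hU_mem_diagonalSubgroup hs hb)

theorem Mv.td (k : Mv σ π) (h3 : σ ^ 3 = 1) (hr : r < D.nroots)
    (h1 : ∀ i < D.rank, cor D r i + cor D (π r) i + cor D (π (π r)) i = 0)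
    (h2 : D.pairing (π r) r = -1) (two : (2 : E) ≠ 0) {a : Eˣ} (ha : orderOf a = Fintype.card E - 1) :
    TD (hU D E r (-1)) (σ * hU D E r (-1) * σ⁻¹) σ (sl2Hom E hr) (sl2Diag a) := by
  have r1 := k.lt r hr
  have r2 := k.lt _ r1
  have m1 : (-1 : E) ≠ 0 := neg_ne_zero.2 one_ne_zero
  have hp : ∀ c : Eˣ, hU D E r c * hU D E (π r) c * hU D E (π (π r)) c = 1 := fun c => by
    rw [hU_eq_torHom hr, hU_eq_torHom r1, hU_eq_torHom r2, ← map_mul, ← map_mul, ← map_one (torHom D E)]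
    refine congrArg _ (funext fun i => ?_)
    rw [Pi.mul_apply, Pi.mul_apply, ← zpow_add, ← zpow_add, h1 i i.2, zpow_zero, Pi.one_apply]
  have sq : ∀ s < D.nroots, hU D E s (-1) * hU D E s (-1) = 1 := fun s hs => by
    rw [← hU_mul hs m1 m1, neg_mul_neg, one_mul, hU_one]
  have inv : σ⁻¹ = σ * σ := inv_eq_of_mul_eq_one_right (by rw [← h3, pow_three])
  refine ⟨⟨fun e => two ?_, sq r hr, ?_, rfl, ?_, h3⟩, neg_one hr, fun x => ?_, .inl ?_, ?_, ?_, ?_,
    fun h6 x => ?_⟩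
  · have e1 := hU_conj_xU r1 m1 r 1
    rw [← k.h r hr _ m1, e, mul_one σ, mul_inv_cancel, one_mul, inv_one, mul_one, h2] at e1
    have e2 := xU_injective hr e1
    rw [zpow_neg, zpow_one, inv_neg, inv_one, mul_one] at e2
    linear_combination e2
  · rw [k.h r hr _ m1]
    exact hcomm hr r1 m1 m1
  · rw [k.h r hr _ m1, k.h _ r1 _ m1]
    exact ((eq_inv_of_mul_eq_one_left (hp (-1))).trans (inv_eq_of_mul_eq_one_right (sq _ r2))).symm
  · rw [k.h r hr _ m1]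
    obtain ⟨x', e⟩ := ind (sl2Hom E hr) ((sl2Hom E hr).range.comap (MulAut.conj (hU D E (π r) (-1))).toMonoidHom)
      (fun t => by rw [sl2Hom_slX]; exact ⟨slX _, (sl2Hom_slX hr _).trans (hU_conj_xU r1 m1 _ _).symm⟩)
      (fun t => by rw [sl2Hom_slY]; exact ⟨slY _, (sl2Hom_slY hr _).trans (hU_conj_xU r1 m1 _ _).symm⟩) x
    exact ⟨x', e.symm⟩
  · rw [orderOf_injective _ sl2Diag_injective, ha]
  · rw [k.h r hr _ m1, diag]
    exact hcomm r1 hr m1 a.ne_zero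
  · rw [diag, k.h r hr _ a.ne_zero]
    exact hcomm hr r1 a.ne_zero a.ne_zero
  · have e : σ⁻¹ * hU D E r a * σ = σ * (σ * hU D E r a * σ⁻¹) * σ⁻¹ := by
      rw [show σ * (σ * hU D E r a * σ⁻¹) * σ⁻¹ = σ * σ * hU D E r a * (σ * σ)⁻¹ by group, ← inv, inv_inv]
    rw [diag, e, k.h r hr _ a.ne_zero, k.h _ r1 _ a.ne_zero, hp]
  · have a6 : (a : E) ^ 6 = 1 := by
      rw [← Units.val_pow_eq_pow_val, sl2Diag_injective ((map_pow _ a 6).trans (h6.trans (map_one _).symm))]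
      rfl
    have a0 := (a ^ 2).ne_zero
    rw [← map_pow, ← map_pow, diag, k.h r hr _ a0, hU_inv r1 a0]
    have H : ∀ s t, ((a ^ 2 : Eˣ) : E) ^ D.pairing r s * ((a ^ 2 : Eˣ) : E)⁻¹ ^ D.pairing (π r) s = 1 →
        xU D E s t ∈ centralizer {hU D E r (a ^ 2 : Eˣ) * hU D E (π r) ((a ^ 2 : Eˣ) : E)⁻¹} := by
      rintro s t e _ rfl
      rw [← mul_inv_eq_iff_eq_mul, mul_inv_rev, mul_assoc (hU D E r _), ← mul_assoc, mul_assoc (hU D E r _),
        hU_conj_xU r1 (inv_ne_zero a0), hU_conj_xU hr a0, ← mul_assoc, e, one_mul]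
    refine ind (sl2Hom E hr) (centralizer {_}) (fun t => ?_) (fun t => ?_) x _ rfl
    · rw [sl2Hom_slX]
      refine H _ _ ?_
      rw [pairing_self hr, h2, zpow_neg, zpow_one, inv_inv, zpow_two, Units.val_pow_eq_pow_val, ← a6]
      ring
    · rw [sl2Hom_slY]
      refine H _ _ ?_
      rw [pairing_neg_right _ hr, pairing_neg_right _ hr, pairing_self hr, h2, neg_neg, zpow_one, zpow_neg,
        ← mul_inv, inv_eq_one, zpow_two, Units.val_pow_eq_pow_val, ← a6]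
      ring

omit [Fintype E] in
theorem comm (hr : r < D.nroots) (hs : s < D.nroots) (h1 : Comm0 D r s) (h2 : Comm0 D r (D.neg s))
    (h3 : Comm0 D (D.neg r) s) (h4 : Comm0 D (D.neg r) (D.neg s)) (x y : SL(2, E)) :
    Commute (sl2Hom E hr x) (sl2Hom E hs y) := by
  have H : ∀ {u}, u < D.nroots → Comm0 D u s → Comm0 D u (D.neg s) → ∀ t,
      xU D E u t ∈ centralizer {sl2Hom E hs y} := fun hu k1 k2 t => by
    rintro _ rfl
    refine (ind (sl2Hom E hs) (centralizer {_}) (fun t' => ?_) (fun t' => ?_) y _ rfl).symm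
    · rintro _ rfl
      rw [sl2Hom_slX]; exact xU_commute hu hs k1 _ _
    · rintro _ rfl
      rw [sl2Hom_slY]; exact xU_commute hu (neg_lt hs) k2 _ _
  refine (ind (sl2Hom E hr) (centralizer {_}) (fun t => ?_) (fun t => ?_) x _ rfl).symm
  · rw [sl2Hom_slX]; exact H hr h1 h2 t
  · rw [sl2Hom_slY]; exact H (neg_lt hr) h3 h4 t

omit [Fintype E] in
theorem Mv.step (k : Mv σ π) {M : Subgroup (GL D.Idx E)} (hσ : σ ∈ M) (hr : r < D.nroots)
    (H : ∀ t, xU D E r t ∈ M) (t : E) : xU D E (π r) t ∈ M := by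
  obtain ⟨ε, h1, h2⟩ := k.x r hr
  rw [← one_mul t, ← h1, mul_assoc, ← h2]
  exact mul_mem (mul_mem hσ (H _)) (inv_mem hσ)

/-- the rotation of the roots -/
def rot (r : ℕ) : ℕ := Chev.refl chevG2 11 (Chev.refl chevG2 5 r)

theorem rot3 : ∀ r < chevG2.nroots, rot (rot (rot r)) = r := by decide +kernel

theorem rot_cor : ∀ r ∈ [11, 7], chevG2.pairing (rot (rot r)) r = -1 ∧ ∀ i < chevG2.rank,
    cor chevG2 r i + cor chevG2 (rot (rot r)) i + cor chevG2 (rot (rot (rot (rot r)))) i = 0 := by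
  decide +kernel

theorem rot_all : ∀ s < chevG2.nroots, ∃ r ∈ [11, 7, chevG2.neg 11, chevG2.neg 7],
    s = r ∨ s = rot (rot r) ∨ s = rot (rot (rot (rot r))) := by decide +kernel

theorem comm0 : Comm0 chevG2 11 7 ∧ Comm0 chevG2 11 (chevG2.neg 7) ∧ Comm0 chevG2 (chevG2.neg 11) 7 ∧
    Comm0 chevG2 (chevG2.neg 11) (chevG2.neg 7) := by
  unfold Comm0; decide +kernel

theorem lt11 : 11 < chevG2.nroots := by decide +kernel

theorem lt7 : 7 < chevG2.nroots := by decide +kernel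

omit [Fintype E] in
theorem h_eq : hU chevG2 E 7 (-1) = hU chevG2 E 11 (-1) := by
  refine (hU_eq_torHom lt7 (-1)).trans (Eq.trans (congrArg _ (funext fun i => ?_)) (hU_eq_torHom lt11 (-1)).symm)
  have : ∀ i < chevG2.rank, ∃ m : ℤ, m ∈ [0, -1] ∧ cor chevG2 7 i = cor chevG2 11 i + 2 * m := by
    decide +kernel
  obtain ⟨m, -, e⟩ := this i i.2
  rw [e, zpow_add, zpow_mul, zpow_two, neg_mul_neg, one_mul, one_zpow, mul_one]

omit [Fintype E] in
theorem exists_mv : ∃ σ : GL chevG2.Idx E, σ ^ 3 = 1 ∧ Mv σ fun r => rot (rot r) := by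
  have k : Mv (nU chevG2 E 11 1 * nU chevG2 E 5 1) rot := (mv_n lt11).mul (mv_n (by decide +kernel))
  refine ⟨_, ?_, k.mul k⟩
  rw [← (k.mul (k.mul k)).sq rtOKG2 rot3]
  generalize nU chevG2 E 11 1 * nU chevG2 E 5 1 = τ
  simp only [pow_succ, pow_zero, one_mul, mul_assoc]

end KG2

theorem Hy.kG2 (h : Hy ρ) (hE : Odd (Fintype.card E)) (e : G ≃* Lie.chevG2.group E) : FixL ρ := by
  have q1 : 1 < Fintype.card E := Fintype.one_lt_card
  have q3 : 3 ≤ Fintype.card E := by obtain ⟨k, hk⟩ := hE; omega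
  have two : (2 : E) ≠ 0 := fun e2 => by
    have := FiniteField.even_card_of_char_two 
      (ringChar.eq_iff.2 ((CharP.charP_iff_prime_eq_zero Nat.prime_two).2 e2) : ringChar E = 2)
    obtain ⟨k, hk⟩ := hE
    omega
  by_cases hp : ringChar K = ringChar E
  swap
  · obtain ⟨φ, hφ⟩ := KG2.sl3 (E := E) ⟨-1, neg_ne_zero.2 one_ne_zero, fun e2 => two (by linear_combination -e2)⟩
    exact (h.l3_cross q3 hp (e.symm.toMonoidHom.comp φ) (by
      rw [(MonoidHom.ker_eq_bot_iff _).2 (e.symm.injective.comp hφ)]; exact bot_le)).elim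
  have cK : CharP K (ringChar E) := hp ▸ ringChar.charP K
  have := Fact.mk (CharP.char_is_prime E (ringChar E))
  by_cases h3 : Fintype.card E = 3
  · refine h.kG23 ?_ h3 e
    have := FiniteField.cast_card_eq_zero E
    rw [h3, CharP.cast_eq_zero_iff E (ringChar E), ← CharP.cast_eq_zero_iff K] at this
    exact_mod_cast this
  have h5 : 5 ≤ Fintype.card E := by obtain ⟨k, hk⟩ := hE; omega
  obtain ⟨ψ, hψ⟩ := h.split e odd_one (Cfsg.Agent.S2100.result h5)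
  let f : G →* GL Lie.chevG2.Idx E := (Lie.chevG2.group E).subtype.comp e
  have hf : Function.Injective f := Subtype.val_injective.comp e.injective
  have sj : ∀ x ∈ Lie.chevG2.group E, ∃ g, f g = x := fun x hx =>
    ⟨e.symm ⟨x, hx⟩, congrArg Subtype.val (e.apply_symm_apply _)⟩
  have ex : ∀ {r} (hr : r < Lie.chevG2.nroots), ∃ φ : SL(2, E) →* G, f.comp φ = Chev.sl2Hom E hr := fun hr =>
    ⟨e.symm.toMonoidHom.comp ((Chev.sl2Hom E hr).codRestrict _ (KG2.ind _ _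
      (fun t => Chev.sl2Hom_slX hr t ▸ Chev.xU_mem_group _ _)
      fun t => Chev.sl2Hom_slY hr t ▸ Chev.xU_mem_group _ _)),
      MonoidHom.ext fun x => congrArg Subtype.val (e.apply_symm_apply _)⟩
  obtain ⟨φ, hφ⟩ := ex KG2.lt11
  obtain ⟨φ', hφ'⟩ := ex KG2.lt7
  obtain ⟨σ, s3, k⟩ := KG2.exists_mv (E := E)
  obtain ⟨a, ha⟩ := IsCyclic.exists_ofOrder_eq_natCard (α := Eˣ)
  rw [Classical.sl_card_units] at ha
  have t := k.td s3 KG2.lt11 (KG2.rot_cor 11 (by simp)).2 (KG2.rot_cor 11 (by simp)).1 two ha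
  have t' := k.td s3 KG2.lt7 (KG2.rot_cor 7 (by simp)).2 (KG2.rot_cor 7 (by simp)).1 two ha
  rw [KG2.h_eq] at t'
  obtain ⟨σ, rfl⟩ := sj σ k.mem
  obtain ⟨z, hz⟩ := sj _ (Chev.hU_mem_group 11 (-1))
  rw [← hz, ← map_inv, ← map_mul, ← map_mul] at t t'
  rw [← hφ] at t
  rw [← hφ'] at t'
  refine h.tri2 (ringChar E) hψ h5 (KG2.td_inj f hf t) (KG2.td_inj f hf t') (fun x y => hf ?_) ?_
  · have := (KG2.comm KG2.lt11 KG2.lt7 KG2.comm0.1 KG2.comm0.2.1 KG2.comm0.2.2.1 KG2.comm0.2.2.2 x y).eq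
    rw [← hφ, ← hφ'] at this
    rw [map_mul, map_mul]
    exact this
  · set M := φ.range ⊔ φ'.range ⊔ closure {σ * z * σ⁻¹, σ}
    refine eq_top_iff.2 fun g _ => (mem_map_iff_mem hf).1 ((?_ : Lie.chevG2.group E ≤ M.map f) (e g).2)
    have hσ : f σ ∈ M.map f := mem_map_of_mem f (mem_sup_right (Subgroup.subset_closure (by simp)))
    have m1 : ∀ x, Chev.sl2Hom E KG2.lt11 x ∈ M.map f := fun x =>
      hφ ▸ mem_map_of_mem f (mem_sup_left (mem_sup_left ⟨x, rfl⟩))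
    have m2 : ∀ x, Chev.sl2Hom E KG2.lt7 x ∈ M.map f := fun x =>
      hφ' ▸ mem_map_of_mem f (mem_sup_left (mem_sup_right ⟨x, rfl⟩))
    rw [Chev.group_eq, closure_le]
    rintro _ ⟨s, hs, t, rfl⟩
    obtain ⟨r, hr, e1⟩ := KG2.rot_all s hs
    obtain ⟨r0, H⟩ : r < Lie.chevG2.nroots ∧ ∀ t, Chev.xU Lie.chevG2 E r t ∈ M.map f := by
      simp only [List.mem_cons, List.not_mem_nil, or_false] at hr
      rcases hr with rfl | rfl | rfl | rfl
      · exact ⟨KG2.lt11, fun t => Chev.sl2Hom_slX KG2.lt11 t ▸ m1 _⟩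
      · exact ⟨KG2.lt7, fun t => Chev.sl2Hom_slX KG2.lt7 t ▸ m2 _⟩
      · exact ⟨Chev.neg_lt KG2.lt11, fun t => Chev.sl2Hom_slY KG2.lt11 t ▸ m1 _⟩
      · exact ⟨Chev.neg_lt KG2.lt7, fun t => Chev.sl2Hom_slY KG2.lt7 t ▸ m2 _⟩
    rcases e1 with rfl | rfl | rfl
    · exact H t
    · exact k.step hσ r0 H t
    · exact k.step hσ (k.lt r r0) (k.step hσ r0 H) t

end CfsgLib.O7
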