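import Cfsg.Agent.Lib.O7.Tool
import Cfsg.Agent.Lib.J1.Iso
import Cfsg.Agent.Lib.Comput.NormAb
import Cfsg.Prelude.Def_Spor_J1

/-!
KJ1: the first Janko group.  See `plans/O7B.md`.
-/

set_option autoImplicit false
set_option maxRecDepth 100000

namespace CfsgLib.O7

open CfsgLib.OrthE CfsgLib.OMax Module QuadraticMap Subgroup Cfsg
open scoped MatrixGroups

variable {K G : Type*} [Field K] [IsAlgClosed K] [Group G] [Finite G] {ρ : G →* G7 K}
  {E : Type} [Field E] [Fintype E]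

def kjA : ℕ := 0x103010103010302040402
def kjB : ℕ := 0x1030101030103020404
def kjC : ℕ := 0x202020404
def kjZ : ℕ := 0x20301030101040401010401
def kjW : ℕ := 0x2020303010402030301030103
def kjU : ℕ := 0x30103010302040402040204010303
def kjY : List ℕ := [kjA, kjB, kjB, kjA, kjB, kjA, kjB, kjB, kjA, kjB, kjA, kjB, kjA, kjB, kjB, kjA, kjB, kjA, kjB, kjB,
  kjA, kjB, kjA, kjB, kjA, kjB, kjB, kjA, kjB, kjA, kjB, kjB, kjA, kjB, kjB, kjA, kjB, kjA, kjB, kjB]

open CfsgLib.Comput CfsgLib.J1 in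
theorem kj_chk : allL (eqChk (stepT 266 9 P.W) (idTab 266 9)) [([kjA, kjA], []), (List.replicate 3 kjB, []),
    ([kjA, kjB], [1]), (List.replicate 7 1, []), (kjY, [3]), ([kjU, 1], List.replicate 2 1 ++ [kjU]),
    ([kjC, kjA], [kjZ, kjC]), ([kjB, kjZ], [kjW, kjB]), ([kjZ, kjW], [kjW, kjZ]), ([kjB, kjW], [kjZ, kjW, kjB]),
    ([kjZ, kjZ], [])] = true := by decide +kernel

omit [Finite G] in
open CfsgLib.Comput CfsgLib.J1 in
/-- a `(2, 3, 7)`-generating pair -/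
theorem kj_ex (h : Spor.IsoJ1 G) : ∃ a b z w : G, closure {a, b} = ⊤ ∧ a * a = 1 ∧ (a * b) ^ 7 = 1 ∧
    IsConj (a * b) ((a * b) ^ 2) ∧ IsConj a z ∧ A4 z w b := by
  let e := h.some.trans nonempty_equiv.some
  let _ := pullAct e
  have M := SM.pull e P.W_ok p_mem (by norm_num)
  have R := (WM.pull e P.W_ok p_mem (k := 9) (by norm_num)).allHold kj_chk
  simp only [AllHold, List.mem_cons, List.not_mem_nil, or_false, forall_eq_or_imp, forall_eq,
    Eqn.Holds, evL_append, evL_replicate, evL_nil, evL_one, evL_two, evL_three] at R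
  obtain ⟨r1, r2, r3, r4, r5, r6, r7, r8, r9, r10, r11⟩ := R
  have ne : ∀ w, tb (act (stepN P.W) w (1 <<< 1)) 1 = false → ev (pullG e p_mem) w ≠ 1 :=
    fun w hw e => M.smul_pt_ne (by norm_num) hw (by rw [e, one_smul])
  refine ⟨ev (pullG e p_mem) kjA, ev (pullG e p_mem) kjB, ev (pullG e p_mem) kjZ, ev (pullG e p_mem) kjW, ?_, r1,
    r3 ▸ r4, r3 ▸ isConj_iff.2 ⟨_, mul_inv_eq_of_eq_mul r6⟩, isConj_iff.2 ⟨_, mul_inv_eq_of_eq_mul r7⟩,
    ne _ (by decide +kernel), r11, r9, mul_inv_eq_of_eq_mul r8, mul_inv_eq_of_eq_mul r10, r2⟩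
  have ha : ev (pullG e p_mem) kjA ∈ closure {ev (pullG e p_mem) kjA, ev (pullG e p_mem) kjB} :=
    subset_closure (Or.inl rfl)
  have hb : ev (pullG e p_mem) kjB ∈ closure {ev (pullG e p_mem) kjA, ev (pullG e p_mem) kjB} :=
    subset_closure (Or.inr rfl)
  refine eq_top_iff.2 ((cl_pull_top e p_mem (ws := P.top) le_rfl).ge.trans (cl_le.2 fun w hw => ?_))
  simp only [P.top, List.mem_cons, List.not_mem_nil, or_false] at hw
  rcases hw with rfl | rfl
  · exact r3 ▸ mul_mem ha hb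
  · refine r5 ▸ evL_mem fun w hw => ?_
    rcases (by decide +kernel : ∀ w ∈ kjY, w = kjA ∨ w = kjB) w hw with rfl | rfl
    exacts [ha, hb]

omit [IsAlgClosed K] in
/-- in a `(2, 3)`-generated simple group the involution has weight four -/
theorem Hy.kj_w4 (h : Hy ρ) {a b : G} (hg : closure {a, b} = ⊤) (h1 : a ≠ 1) (ha : a * a = 1) (hb : b ^ 3 = 1) :
    rk (ρ a) = 4 := by
  have := h.simple
  refine h.w4 (b := b * a * b⁻¹) (c := b * (b * a * b⁻¹) * b⁻¹) ?_ h1 ha (isConj_iff.2 ⟨b, rfl⟩)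
    (isConj_iff.2 ⟨b * b, by group⟩)
  set N := closure {a, b * a * b⁻¹, b * (b * a * b⁻¹) * b⁻¹}
  have m : a ∈ N := subset_closure (by simp)
  have n : b ∈ normalizer (N : Set G) := mem_normalizer_fintype fun x hx =>
    (show N ≤ N.comap (MulAut.conj b).toMonoidHom from (closure_le _).2 (by
      rintro _ (rfl | rfl | rfl)
      · exact subset_closure (Or.inr (Or.inl rfl))
      · exact subset_closure (Or.inr (Or.inr rfl))
      · change b * (b * (b * a * b⁻¹) * b⁻¹) * b⁻¹ ∈ N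
        rwa [show b * (b * (b * a * b⁻¹) * b⁻¹) * b⁻¹ = b ^ 3 * a * (b ^ 3)⁻¹ by rw [pow_three]; group, hb, one_mul, inv_one,
          mul_one])) hx
  refine (Subgroup.Normal.eq_bot_or_eq_top (normalizer_eq_top_iff.1 (eq_top_iff.2 (hg.ge.trans ((closure_le _).2 ?_))))).resolve_left
    fun k => h1 (mem_bot.1 (k ▸ m))
  rintro _ (rfl | rfl)
  exacts [le_normalizer m, n]

theorem Hy.kJ1 (h : Hy ρ) (e : Spor.IsoJ1 G) : FixL ρ := by
  obtain ⟨a, b, z, w, hg, ha, h7, hc, hz, k⟩ := kj_ex e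
  have h4 := h.kj_w4 hg (fun e => k.ne (isConj_one_right.1 (e ▸ hz))) ha k.cube
  exact h.hur hg ha h4 k.cube (Or.inl (h.a4V k ((rk_isConj (σ := ρ) hz).symm.trans h4)).1) (Or.inr (Or.inl ⟨h7, hc⟩))

end CfsgLib.O7
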