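import Cfsg.Agent.Lib.O7.Tool
import Cfsg.Agent.Lib.O7.Tri
import Cfsg.Agent.Lib.GHE.Defs
import Cfsg.Agent.Lib.D5.KL3s
import Cfsg.Agent.S2086

/-!
KL3: `L₃(r)`, `r` odd.  See `plans/O7B.md`.
-/

set_option autoImplicit false
set_option linter.unusedSectionVars false

namespace CfsgLib.O7

open CfsgLib.OrthE CfsgLib.OMax Module QuadraticMap Subgroup Cfsg
open scoped MatrixGroups

variable {K G : Type*} [Field K] [IsAlgClosed K] [Group G] [Finite G] {ρ : G →* G7 K}
  {E : Type} [Field E] [Fintype E]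

theorem TD.kl3_map {X : Type*} [Group X] (η : X →* G) {z₁ z₂ σ : X} {φ : SL(2, E) →* X} {g : SL(2, E)}
    (t : TD z₁ z₂ σ φ g) (h1 : η z₁ ≠ 1) : TD (η z₁) (η z₂) (η σ) (η.comp φ) g where
  a4 := ⟨h1, by simpa using congrArg η t.a4.sq, by simpa using congrArg η t.a4.comm,
    by simpa using congrArg η t.a4.c₁, by simpa using congrArg η t.a4.c₂,
    by simpa using congrArg η t.a4.cube⟩
  cen := congrArg η t.cen
  nrm x := (t.nrm x).imp fun x' e => by simpa using congrArg η e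
  ord := t.ord
  comm := by simpa using congrArg η t.comm
  comm' := by simpa using congrArg η t.comm'
  prod := by simpa using congrArg η t.prod
  small e x := by simpa using (t.small e x).map η

namespace KL3

open Matrix

theorem det2 (g : SL(2, E)) : g 0 0 * g 1 1 - g 0 1 * g 1 0 = 1 := (det_fin_two _).symm.trans g.2

/-- an element of `SL₂` -/
def m2 (a b c d : E) (h : a * d - b * c = 1) : SL(2, E) := ⟨!![a, b; c, d], by simpa using h⟩

theorem m2_val (a b c d : E) (h : a * d - b * c = 1) : (m2 a b c d h).1 = !![a, b; c, d] := rfl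

/-- the upper left block -/
def blk0 (g : SL(2, E)) : SL(3, E) :=
  ⟨!![g 0 0, g 0 1, 0; g 1 0, g 1 1, 0; 0, 0, 1], by simpa [det_fin_three] using det2 g⟩

theorem blk0_val (g : SL(2, E)) : (blk0 g).1 = !![g 0 0, g 0 1, 0; g 1 0, g 1 1, 0; 0, 0, 1] := rfl

/-- the upper left block as a homomorphism -/
def blk : SL(2, E) →* SL(3, E) := MonoidHom.mk' blk0 fun g h => by
  ext i j; fin_cases i <;> fin_cases j <;> simp [blk0_val, mul_apply, Fin.sum_univ_succ]

theorem blk_val (g : SL(2, E)) : (blk g).1 = !![g 0 0, g 0 1, 0; g 1 0, g 1 1, 0; 0, 0, 1] := rfl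

/-- the torus of `SL₂` -/
def tor : Eˣ →* SL(2, E) := MonoidHom.mk' (fun a => m2 a 0 0 (a⁻¹ : Eˣ) (by simp))
  fun a b => by ext i j; fin_cases i <;> fin_cases j <;> simp [m2_val, mul_comm]

theorem tor_val (a : Eˣ) : (tor a).1 = !![(a : E), 0; 0, (a⁻¹ : Eˣ)] := rfl

theorem tor_inj : Function.Injective (tor : Eˣ →* SL(2, E)) := fun _ _ e =>
  Units.ext (congrArg (fun g : SL(2, E) => g 0 0) e)

/-- diagonal matrices -/
def dg (a b c : E) (h : a * b * c = 1) : SL(3, E) := ⟨!![a, 0, 0; 0, b, 0; 0, 0, c], by simpa [det_fin_three]⟩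

theorem dg_val (a b c : E) (h : a * b * c = 1) : (dg a b c h).1 = !![a, 0, 0; 0, b, 0; 0, 0, c] := rfl

/-- the cyclic permutation matrix -/
def sg : SL(3, E) := ⟨!![0, 0, 1; 1, 0, 0; 0, 1, 0], by simp [det_fin_three]⟩

theorem sg_val : (sg : SL(3, E)).1 = !![0, 0, 1; 1, 0, 0; 0, 1, 0] := rfl

theorem sg_dg (a b c : E) (h : a * b * c = 1) :
    sg * dg a b c h * sg⁻¹ = dg c a b (by linear_combination h) := by
  rw [mul_inv_eq_iff_eq_mul]
  ext i j; fin_cases i <;> fin_cases j <;> simp [sg_val, dg_val]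

theorem dg_mul (a b c a' b' c' : E) (h : a * b * c = 1) (h' : a' * b' * c' = 1) :
    dg a b c h * dg a' b' c' h' = dg (a * a') (b * b') (c * c') (by linear_combination (a * b * c) * h' + h) := by
  ext i j; fin_cases i <;> fin_cases j <;> simp [dg_val]

theorem dg_one : dg (1 : E) 1 1 (by simp) = 1 := by
  ext i j; fin_cases i <;> fin_cases j <;> simp [dg_val]

theorem blk_tor (a : Eˣ) : blk (tor a) = dg (a : E) (a⁻¹ : Eˣ) 1 (by simp) := by
  ext i j; fin_cases i <;> fin_cases j <;> simp [dg_val, blk_val, tor_val]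

theorem ne_cen (h2 : (2 : E) ≠ 0) : dg (-1 : E) (-1) 1 (by simp) ∉ center SL(3, E) := fun h => by
  have := congrArg (fun g : SL(3, E) => g 0 2) (mem_center_iff.1 h sg)
  simp [sg_val, dg_val] at this
  exact h2 (by linear_combination this)

theorem td (h2 : (2 : E) ≠ 0) {a : Eˣ} (ha : orderOf a = Fintype.card E - 1) :
    TD (dg (-1 : E) (-1) 1 (by simp)) (dg 1 (-1) (-1) (by simp)) sg blk (tor a) where
  a4 := ⟨fun e => ne_cen h2 (e ▸ one_mem _), by simp [dg_mul, dg_one], by simp [dg_mul], sg_dg .., by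
    simp [sg_dg, dg_mul], by
    rw [pow_three]; ext i j; fin_cases i <;> fin_cases j <;> simp [sg_val]⟩
  cen := by ext i j; fin_cases i <;> fin_cases j <;> simp [dg_val, blk_val]
  nrm x := ⟨m2 (x 0 0) (-x 0 1) (-x 1 0) (x 1 1) (by simpa using det2 x), by
    rw [mul_inv_eq_iff_eq_mul]
    ext i j; fin_cases i <;> fin_cases j <;> simp [dg_val, blk_val, m2_val]⟩
  ord := Or.inl ((orderOf_injective _ tor_inj a).trans ha)
  comm := by simp [blk_tor, dg_mul]
  comm' := by simp [blk_tor, sg_dg, dg_mul, mul_comm]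
  prod := by
    have : sg⁻¹ * dg (a : E) (a⁻¹ : Eˣ) 1 (by simp) * sg = dg ((a⁻¹ : Eˣ) : E) 1 a (by simp) := by
      rw [← sg_dg ((a⁻¹ : Eˣ) : E) 1 a (by simp)]; group
    rw [blk_tor, this, sg_dg]
    simp [dg_mul, dg_one]
  small e x := by
    have e1 : a ^ 6 = 1 := tor_inj (by rw [map_pow, e, map_one])
    have e2 : (a : E) ^ 6 = 1 := by simpa using congrArg Units.val e1
    have e3 : blk (tor a) ^ 2 = dg ((a : E) ^ 2) (a ^ 2) (a ^ 2) (by linear_combination e2) *
        (sg * blk (tor a) ^ 2 * sg⁻¹) := by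
      rw [← map_pow, ← map_pow, blk_tor, sg_dg, dg_mul]
      congr 1
      · simp
      · rw [show (a ^ 2)⁻¹ = a ^ 4 from inv_eq_of_mul_eq_one_right (by rw [← pow_add, e1])]
        simp [← pow_add]
      · simp
    rw [mul_inv_eq_of_eq_mul e3]
    generalize blk x = y
    ext i j; fin_cases i <;> fin_cases j <;> simp [dg_val, mul_apply, Fin.sum_univ_succ, mul_comm]

theorem gen (z : SL(3, E)) : blk.range ⊔ closure {z, sg} = ⊤ := by
  have hs : sg ∈ blk.range ⊔ closure {z, sg} := mem_sup_right (subset_closure (by simp))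
  have c1 : ∀ {x y : SL(3, E)}, x ∈ blk.range ⊔ closure {z, sg} → sg * x = y * sg →
      y ∈ blk.range ⊔ closure {z, sg} := fun hx e =>
    eq_mul_inv_of_mul_eq e.symm ▸ mul_mem (mul_mem hs hx) (inv_mem hs)
  have t01 : ∀ c : E, SpecialLinearGroup.transvection (show (0 : Fin 3) ≠ 1 by decide) c ∈
      blk.range ⊔ closure {z, sg} := fun c => mem_sup_left ⟨m2 1 c 0 1 (by simp), by
    ext i j; fin_cases i <;> fin_cases j <;> simp [blk_val, m2_val, SpecialLinearGroup.transvection_coe]⟩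
  have t10 : ∀ c : E, SpecialLinearGroup.transvection (show (1 : Fin 3) ≠ 0 by decide) c ∈
      blk.range ⊔ closure {z, sg} := fun c => mem_sup_left ⟨m2 1 0 c 1 (by simp), by
    ext i j; fin_cases i <;> fin_cases j <;> simp [blk_val, m2_val, SpecialLinearGroup.transvection_coe]⟩
  have k : ∀ (i j : Fin 3) (h : i ≠ j) (c : E), sg * SpecialLinearGroup.transvection h c =
      SpecialLinearGroup.transvection (show i + 1 ≠ j + 1 by simpa using h) c * sg := fun i j h c => by
    ext a b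
    fin_cases i <;> fin_cases j <;> first | exact absurd rfl h | skip
    all_goals fin_cases a <;> fin_cases b <;>
      simp [sg_val, SpecialLinearGroup.transvection_coe, mul_apply, Fin.sum_univ_succ, one_apply, single_apply]
  refine Classical.sl_eq_top_of_transvection_mem _ fun i j h c => ?_
  fin_cases i <;> fin_cases j <;> first | exact absurd rfl h | skip
  exacts [t01 c, c1 (c1 (t10 c) (k _ _ _ c)) (k _ _ _ c), t10 c, c1 (t01 c) (k _ _ _ c),
    c1 (c1 (t01 c) (k _ _ _ c)) (k _ _ _ c), c1 (t10 c) (k _ _ _ c)]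

open D5.KL3s in
theorem q8 : ∃ i j : L3, i * i = a ∧ j * j = a ∧ i * j = a * (j * i) ∧ a * b ≠ b * a :=
  ⟨⟨!![1, 0, 0; 0, 0, 1; 0, 2, 0], by decide +kernel⟩, ⟨!![1, 0, 0; 0, 1, 1; 0, 1, 2], by decide +kernel⟩,
    by decide +kernel⟩

end KL3

theorem Hy.kL3 (h : Hy ρ) (e : GHE.IL 3 Odd G) : FixL ρ := by
  classical
  obtain ⟨E, _, _, ho, ⟨e⟩⟩ := e
  have h3 : 3 ≤ Fintype.card E := by
    have := Fintype.one_lt_card (α := E)
    obtain ⟨k, hk⟩ := ho
    omega
  obtain ⟨η, hη, hk⟩ := D5.KL3s.exists_hom e (RingEquiv.refl E)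
  by_cases hp : ringChar K ≠ ringChar E
  · exact (h.l3_cross h3 hp η fun g hg => (hk g).1 hg).elim
  obtain ⟨p, hE⟩ := CharP.exists E
  have : Fact p.Prime := ⟨CharP.char_is_prime E p⟩
  have : CharP K p := ringChar.of_eq ((not_not.1 hp).trans (ringChar.eq E p))
  by_cases h5 : 5 ≤ Fintype.card E
  · obtain ⟨ψ, hψ⟩ := h.split e (Odd.of_dvd_nat (by decide : Odd 3) (Nat.gcd_dvd_left ..))
      (Cfsg.Agent.S2086.result rfl 3 (by norm_num) (by simp) (by simp; omega))
    obtain ⟨a, ha⟩ := IsCyclic.exists_ofOrder_eq_natCard (α := Eˣ)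
    rw [Nat.card_eq_fintype_card, Fintype.card_units] at ha
    have h2 : (2 : E) ≠ 0 := fun e2 => h.two (by
      simpa using (CharP.cast_eq_zero_iff K p 2).2 ((CharP.cast_eq_zero_iff E p 2).1 (by simpa using e2)))
    refine h.tri1 p hψ h5 ((KL3.td h2 ha).kl3_map η fun e1 => KL3.ne_cen h2 ((hk _).1 e1)) ?_
    rw [← MonoidHom.map_range, ← Set.image_pair, ← MonoidHom.map_closure, ← Subgroup.map_sup, KL3.gen,
      map_top_of_surjective _ hη]
  have h4 : Fintype.card E = 3 := by obtain ⟨k, hk⟩ := ho; omega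
  obtain rfl := (Nat.prime_dvd_prime_iff_eq Fact.out Nat.prime_three).1
    (h4 ▸ (CharP.cast_eq_zero_iff E p _).1 (FiniteField.cast_card_eq_zero E))
  obtain ⟨θ, hθ, hk⟩ := D5.KL3s.exists_hom e (FiniteField.ringEquivOfCardEq ((ZMod.card 3).trans h4.symm))
  obtain ⟨f1, -, -, -, -, f6, f7, f8⟩ := D5.KL3s.facts3
  obtain ⟨i, j, g1, g2, g3, g4⟩ := KL3.q8
  have a2 : θ D5.KL3s.a * θ D5.KL3s.a = 1 := by rw [← map_mul, f1, map_one]
  refine h.hur (a := θ D5.KL3s.a) (b := θ D5.KL3s.b) ?_ a2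
    (h.q8 (a := θ i) (b := θ j) (fun e1 => g4 (mem_center_iff.1 ((hk _).1 e1) _).symm)
      (by rw [← map_mul, g1]) (by rw [← map_mul, g2]) a2 (by simpa using congrArg θ g3))
    (by rw [← map_pow, f6, map_one]) (Or.inr (by simpa using CharP.cast_eq_zero K 3))
    (Or.inr (Or.inr ⟨by rw [← map_mul, ← map_pow, f7, map_one],
      D5.KL3s.isConj_of (g := θ D5.KL3s.c) (by simpa using congrArg θ f8)⟩))
  rw [← Set.image_pair, ← MonoidHom.map_closure, D5.KL3s.gen, map_top_of_surjective _ hθ]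

end CfsgLib.O7
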