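import Cfsg.Agent.Lib.O7.Tool
import Cfsg.Agent.Lib.GHE.Defs
import Cfsg.Agent.Lib.D4.Wit2

/-!
KM: `M₁₁`, `M₁₂`, `Sz(8)`.  See `plans/O7B.md`.
-/

set_option autoImplicit false
set_option linter.unusedSectionVars false

namespace CfsgLib.O7

open CfsgLib.OrthE CfsgLib.OMax Module QuadraticMap Subgroup Cfsg
open scoped MatrixGroups

variable {K G : Type*} [Field K] [IsAlgClosed K] [Group G] [Finite G] {ρ : G →* G7 K}
  {E : Type} [Field E] [Fintype E]

omit [Finite G] in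
/-- a Frobenius group of order 55 and a nine-group of conjugate elements -/
theorem Hy.km_aux (h : Hy ρ) {x y : G} (h1 : x ^ 11 = 1) (h2 : x ≠ 1) (h3 : y * x = x ^ 3 * y) (e : D4.E9c G) :
    False := by
  by_cases h11 : (11 : K) = 0
  · obtain ⟨a, b, k1, k2, k3, -, k5, k6, k7⟩ := e
    obtain ⟨c, hc⟩ := isConj_iff.1 k5
    refine k2 (h.inj ((enine (nondeg_Q7 h.two) finrank_V7 (fun h3 => h.two (by linear_combination h11 - 3 * h3))
      (x := ρ a) (y := ρ b) (by rw [← map_pow, k1, map_one])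
      (by rw [← map_pow, ← hc, conj_pow, k1, mul_one, mul_inv_cancel, map_one]) (by rw [← map_mul, k3, map_mul])
      (rk_isConj k5).symm (map_mul ρ a b ▸ (rk_isConj k6).symm) ?_).trans (map_one ρ).symm))
    rw [← map_inv, ← map_mul]
    exact (rk_isConj k7).symm
  · have h4 := ten_dvd (nondeg_Q7 h.two) h11 (g := ρ x) (c := ρ y) (by rw [← map_pow, h1, map_one])
      (by rw [mul_inv_eq_iff_eq_mul, ← map_mul, h3, map_mul, map_pow])
    have h5 := (rk_add_fx (ρ x)).trans finrank_V7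
    exact h2 (h.inj ((rk_eq_zero (by omega)).trans (map_one ρ).symm))

omit [Finite G] in
open Mathieu D4.Wit in
theorem Hy.km_M11 (h : Hy ρ) (f : Spor.M11 →* G) (hf : Function.Injective f) : False := by
  obtain ⟨x, hx⟩ := cd_el (has_M11 (a := 217659858509939740509415197420686400) (by decide +kernel))
  obtain ⟨y, hy⟩ := cd_el (has_M11 (a := 735586561504953295002855977750269984) (by decide +kernel))
  have k : x ^ 11 = 1 ∧ x ≠ 1 ∧ y * x = x ^ 3 * y := by
    simp only [ne_eq, Subtype.ext_iff, ← code_injective.eq_iff, Subgroup.coe_mul, Subgroup.coe_one,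
      Subgroup.coe_pow, code_mul, code_pow, code_one, hx, hy]
    decide +kernel
  have := simple_M11
  exact h.km_aux (x := f x) (y := f y) (by rw [← map_pow, k.1, map_one]) ((map_ne_one_iff f hf).2 k.2.1)
    (by rw [← map_mul, k.2.2, map_mul, map_pow]) (e9c_map hf (D4.m11_facts card_M11).1)

theorem Hy.kM11 (h : Hy ρ) (e : IsM11 G) : False := by
  have := e.1
  obtain ⟨k⟩ := MathRec.uniq_M11 e.2
  exact h.km_M11 k.symm.toMonoidHom k.symm.injective

theorem Hy.kM12 (h : Hy ρ) (e : Spor.IsoM12 G) : False := by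
  obtain ⟨k⟩ := e
  exact h.km_M11 (k.symm.toMonoidHom.comp (inclusion (inf_le_left : Spor.M11 ≤ Spor.M12)))
    (k.symm.injective.comp (inclusion_injective _))

theorem Hy.kSz (h : Hy ρ) (e : GHE.Sz8 G) : False := by
  obtain ⟨F, _, _, hF, ⟨e⟩⟩ := e
  have hF' : Fintype.card F = 2 ^ (2 * 1 + 1) := hF
  let τ := Sz.tits hF'
  let k : τ.grp ≃* G := (e.trans (Sz.lieSzEquiv hF').symm).symm
  have c : ∀ b : F, b ≠ 0 → IsConj (k (τ.S 0 1)) (k (τ.S 0 b)) := fun b hb => by
    obtain ⟨l, rfl⟩ := Finite.surjective_of_injective (f := fun l : F => l ^ 2 * τ.θ l)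
      (fun x y => τ.sq_mul_θ_inj) b
    refine k.toMonoidHom.map_isConj (isConj_iff.2 ⟨τ.M (Units.mk0 l fun e => hb (by simp [e])), ?_⟩)
    simp [Sz.Tits.M_conj_S]
  have h8 : Nat.card (τ.Z.map k.toMonoidHom) = 8 := by
    rw [card_map_of_injective k.injective, τ.card_Z, Nat.card_eq_fintype_card, hF]
  have := (h.e8 h8 ?_ ?_).2 (k (τ.S 1 0)) ?_
  · rw [← map_mul, k.map_eq_one_iff, τ.S_mul_self_eq_one] at this
    exact one_ne_zero this
  · rintro _ ⟨_, ⟨b, rfl⟩, rfl⟩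
    exact (map_mul k _ _).symm.trans ((congrArg k (τ.S_zero_mul_self b)).trans (map_one k))
  · rintro _ ⟨_, ⟨a, rfl⟩, rfl⟩ _ ⟨_, ⟨b, rfl⟩, rfl⟩ ha hb
    have z : ∀ b : F, k (τ.S 0 b) ≠ 1 → b ≠ 0 := fun b hb e => hb (by rw [e, τ.S_zero, map_one])
    exact (rk_isConj (c a (z a ha))).symm.trans (rk_isConj (c b (z b hb)))
  · rintro _ ⟨_, ⟨b, rfl⟩, rfl⟩
    exact (map_mul k _ _).symm.trans ((congrArg k (τ.S_zero_comm b 1 0).symm).trans (map_mul k _ _))

end CfsgLib.O7
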