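import Cfsg.Agent.Lib.O7.Tool
import Cfsg.Agent.Lib.O7.Fx
import Cfsg.Prelude.Def_LieTwisted
import Cfsg.Agent.Lib.TwMult.Ree
import Cfsg.Agent.Lib.Ree.Twisted
import Cfsg.Agent.Lib.Classical.SLBasic
import Cfsg.Agent.Lib.BCor.Str
import Cfsg.Agent.Lib.BenderRed.Final

/-!
KREE: the Ree groups.  See `plans/O7B.md`.
-/

set_option autoImplicit false

namespace CfsgLib.O7

open CfsgLib.OrthE CfsgLib.OMax Module QuadraticMap Subgroup Cfsg
open scoped MatrixGroups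

section grp

open CfsgLib.Ree

variable {G : Type*} [Group G] {E : Type*} [Field E] [CharP E 3] {φ : E →+* E}

theorem kree_solv [Finite G] (h2 : Bender.Rank2 G) {H : Subgroup G} (hH : IsStronglyEmbedded H) :
    Group.IsSolvable H := by
  obtain ⟨S, L, h⟩ := BCor.exists_str_quot BenderRed.benderSimple hH h2
  have := h.isSolvable
  have : Group.IsSolvable ((pPrimeCore 2 G).subgroupOf H) := FT.odd_subgroup_solvable
    ((Core.odd_card_oddCore G).of_dvd_nat (card_comap_dvd_of_injective _ _ H.subtype_injective))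
  refine Group.isSolvable_of_ker_le_range ((pPrimeCore 2 G).subgroupOf H).subtype
    ((QuotientGroup.mk' (pPrimeCore 2 G)).subgroupMap H) fun d hd => ?_
  rw [range_subtype]
  exact (QuotientGroup.eq_one_iff (d : G)).1 (congrArg Subtype.val hd)

theorem kree_g0mat : g0mat E * g0mat E * g0mat E = 1 := by
  rw [g0mat, mul7, mul7, one7]
  apply eq7 <;> first | ring1 | grobner

theorem kree_cube (M : Model G E φ) : M.g0 ^ 3 = 1 :=
  M.inj (by rw [pow_three', map_mul, map_mul, M.ρ_g0, kree_g0mat, map_one])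

theorem kree_a4 (M : Model G E φ) : A4 M.z M.n M.g0 :=
  ⟨M.z_ne_one, M.z_mul_z, M.n_mul_z.symm, M.g0_z, M.g0_n, kree_cube M⟩

variable [Finite E] (M : Model G E φ) (hφ : IsTits φ)

/-- the norm of an element of the torus under the element of order three is trivial -/
theorem kree_norm {a : G} (ha : a ∈ M.A hφ) :
    a * (M.g0 * a * M.g0⁻¹) * (M.g0 * (M.g0 * a * M.g0⁻¹) * M.g0⁻¹) = 1 := by
  have hn : ∀ {x : G}, x ∈ M.A hφ → M.g0 * x * M.g0⁻¹ ∈ M.A hφ := fun {x} hx =>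
    (mem_normalizer_iff.1 (M.normalizer_V_le hφ M.g0_mem_normalizer_V) x).1 hx
  have h1 := hn ha
  have h2 := hn h1
  have h3 : M.g0 * (M.g0 * (M.g0 * a * M.g0⁻¹) * M.g0⁻¹) * M.g0⁻¹ = a := by
    have : M.g0 * (M.g0 * (M.g0 * a * M.g0⁻¹) * M.g0⁻¹) * M.g0⁻¹ = M.g0 ^ 3 * a * (M.g0 ^ 3)⁻¹ := by
      simp only [pow_three, _root_.mul_inv_rev, mul_assoc]
    rw [this, kree_cube, one_mul, inv_one, mul_one]
  set b := M.g0 * a * M.g0⁻¹ with hb
  set c := M.g0 * b * M.g0⁻¹ with hc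
  have hp : a * b * c ∈ M.A hφ := mul_mem (mul_mem ha h1) h2
  by_contra h0
  have hk : M.g0 * (a * b * c) * M.g0⁻¹ = a * b * c := by
    have : M.g0 * (a * b * c) * M.g0⁻¹ =
        (M.g0 * a * M.g0⁻¹) * (M.g0 * b * M.g0⁻¹) * (M.g0 * c * M.g0⁻¹) := by group
    rw [this, h3, ← hb, ← hc,
      M.Tp_comm hφ (M.A_le_Tp hφ (mul_mem h1 h2)) (M.A_le_Tp hφ ha), mul_assoc a b c]
  refine M.not_three_dvd_of_comm hφ (x := M.g0) (M.A_le_Tp hφ hp)
    (fun e => h0 (StrEmb.eq_one_of_odd_of_mul_self (M.odd_of_mem_A hφ hp) e))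
    (mul_inv_eq_iff_eq_mul.1 hk) ?_
  have : Fact (Nat.Prime 3) := ⟨Nat.prime_three⟩
  rw [orderOf_eq_prime (kree_cube M) fun e => M.n_ne_z hφ (by rw [← M.g0_z, e]; simp)]

theorem kree_gen [Fintype E] : ∃ g : SL(2, E), orderOf g = Fintype.card E + 1 ∧
    M.ψ hφ g ∈ M.Tp hφ := by
  have := hφ.noEig_slW.isCyclic_centralizer
  obtain ⟨g, hg⟩ := IsCyclic.exists_ofOrder_eq_natCard (α := centralizer {(Chev.slW : SL(2, E))})
  refine ⟨g, by rw [orderOf_coe, hg, hφ.noEig_slW.card_centralizer],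
    M.T0_le_Tp hφ ((M.mem_T0 hφ).2 ⟨g, mem_centralizer_singleton_iff.1 g.2, rfl⟩)⟩

/-- the centraliser of an involution and the element of order three generate the group -/
theorem kree_top (h3 : 3 < Nat.card E) {H : Subgroup G} (hz : M.z ∈ H) (hψ : ∀ s, M.ψ hφ s ∈ H)
    (hg : M.g0 ∈ H) : H = ⊤ := by
  have := M.finite
  have := Fintype.ofFinite E
  have hC : ∀ {x : G}, x * M.z = M.z * x → x ∈ H := fun {x} hx => by
    obtain ⟨s, rfl | rfl⟩ := (M.comm_z_iff hφ hφ.sq).1 hx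
    exacts [hψ s, mul_mem hz (hψ s)]
  have h1 : ∀ {x : G}, x ≠ 1 → x * x = 1 → x * M.z = M.z * x → ∃ a ∈ H, a * M.z * a⁻¹ = x := by
    intro x hx1 hx2 hx
    by_cases e : x = M.z
    · exact ⟨1, one_mem _, by simp [e]⟩
    obtain ⟨c, rfl | rfl⟩ := M.invol_comm_z hφ hφ.sq hx1 e hx2 hx
    · exact ⟨M.ψ hφ c * M.g0, mul_mem (hψ c) hg, by rw [← M.g0_z]; group⟩
    · exact ⟨M.ψ hφ c * M.g0⁻¹, mul_mem (hψ c) (inv_mem hg), by
        conv_lhs => rw [← M.g0_zn]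
        group⟩
  have h2 : ∀ x ∈ H, x ≠ 1 → x * x = 1 → ∃ a ∈ H, a * M.z * a⁻¹ = x := by
    intro x hx hx1 hx2
    rcases dihedral_dichotomy hx2 M.z_mul_z with ⟨k, e⟩ | ⟨k, k1, k2, k3, k4⟩
    · exact ⟨_, pow_mem (mul_mem hx hz) k, e⟩
    obtain ⟨a, ha, e⟩ := h1 k1 k2 k4
    rw [← e] at k3
    obtain ⟨b, hb, e'⟩ := h1 (x := a⁻¹ * x * a) (fun e => hx1 (by
        rw [show x = a * (a⁻¹ * x * a) * a⁻¹ by group, e]; group))
      (by rw [show a⁻¹ * x * a * (a⁻¹ * x * a) = a⁻¹ * (x * x) * a by group, hx2]; group)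
      (by rw [show a⁻¹ * x * a * M.z = a⁻¹ * (x * (a * M.z * a⁻¹)) * a by group, ← k3]; group)
    exact ⟨a * b, mul_mem ha hb, by
      rw [show a * b * M.z * (a * b)⁻¹ = a * (b * M.z * b⁻¹) * a⁻¹ by group, e']; group⟩
  by_contra h0
  have hS : IsStronglyEmbedded H := by
    refine StrEmb.isStronglyEmbedded_of h0 ⟨_, hz, StrEmb.orderOf_eq_two M.z_mul_z M.z_ne_one⟩
      fun t ht h2t g hg' => ?_
    have t1 := StrEmb.ne_one_of_orderOf h2t
    have t2 := StrEmb.mul_self_of_orderOf h2t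
    obtain ⟨a, ha, e⟩ := h2 t ht t1 t2
    obtain ⟨b, hb, e'⟩ := h2 _ hg' (fun e => t1 (by
        rw [show t = g * (g⁻¹ * t * g) * g⁻¹ by group, e]; group))
      (by rw [show g⁻¹ * t * g * (g⁻¹ * t * g) = g⁻¹ * (t * t) * g by group, t2]; group)
    have : a⁻¹ * g * b ∈ H := hC (by
      rw [show a⁻¹ * g * b * M.z = a⁻¹ * g * (b * M.z * b⁻¹) * b by group, e', ← e]; group)
    rw [show g = a * (a⁻¹ * g * b) * b⁻¹ by group]
    exact mul_mem (mul_mem ha this) (inv_mem hb)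
  have := kree_solv ⟨M.z, M.n, M.z_ne_one, M.n_ne_one hφ, (M.n_ne_z hφ).symm, M.z_mul_z, M.n_mul_n,
    M.n_mul_z.symm⟩ hS
  have hp : commutator SL(2, E) = ⊤ := Classical.sl_fin_commutator_eq_top 2 le_rfl fun _ => by
    rw [← Nat.card_eq_fintype_card]; omega
  obtain ⟨n, hn⟩ := (Group.isSolvable_def H).1 this
  have hd : ∀ n, derivedSeries SL(2, E) n = ⊤ := fun n => by
    induction n with
    | zero => rfl
    | succ n ih => rw [derivedSeries_succ, ih]; exact hp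
  have := map_derivedSeries_le_derivedSeries ((M.ψ hφ).codRestrict H hψ) n
  rw [hd, hn] at this
  exact M.n_ne_one hφ (by
    rw [← M.ψ_slW hφ]; exact congrArg Subtype.val (mem_bot.1 (this ⟨Chev.slW, mem_top _, rfl⟩)))

end grp

variable {K G : Type*} [Field K] [IsAlgClosed K] [Group G] [Finite G] {ρ : G →* G7 K}
  {E : Type} [Field E] [Fintype E]

theorem Hy.kReeM [CharP E 3] {φ : E →+* E} (h : Hy ρ) (M : Ree.Model G E φ) (hφ : Ree.IsTits φ)
    (hq : 27 ≤ Fintype.card E) : FixL ρ := by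
  have hq' : 27 ≤ Nat.card E := by rwa [Nat.card_eq_fintype_card]
  have : Fact (Nat.Prime 3) := ⟨Nat.prime_three⟩
  have hp : ringChar K = ringChar E := by
    by_contra hp
    have := h.l2_cross (by
      have := hφ.card_mod_eight
      rw [Nat.card_eq_fintype_card] at this
      exact Nat.odd_iff.2 (by omega)) hp (M.ψ hφ) fun s hs => by
        rcases (M.ψ_eq_one_iff hφ).1 hs with rfl | rfl
        · exact one_mem _
        · exact mem_center_iff.2 fun g => by simp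
    omega
  have : CharP K 3 := ringChar.of_eq (hp.trans (ringChar.eq E 3))
  obtain ⟨ψ, hψ⟩ := h.split (MulEquiv.refl G) odd_one (TwMult.ree_mult M hφ (by omega))
  obtain ⟨h4, hd, hσ, -⟩ := h.a4O hψ (kree_a4 M)
  obtain ⟨hz, hf⟩ := (hψ M.z).inv4 h.two (by rw [← map_mul, M.z_mul_z, map_one]) h4
  have hc : ∀ {a b : G}, a * b = b * a → ∀ y, (ψ a).1 ((ψ b).1 y) = (ψ b).1 ((ψ a).1 y) :=
    fun e => a4l_cm (by rw [← map_mul, e, map_mul])
  have hJ : ∀ {y}, y ∈ J2 (ψ M.z) (ψ M.n) 1 1 ↔ (ψ M.z).1 y = y ∧ (ψ M.n).1 y = y := by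
    intro y; rw [mem_J2, one_smul]
  rcases fx4 3 h.two (by omega) (ψ.comp (M.ψ hφ))
    (nd_fix nondeg_N8 (g := ψ M.z) (n := 2) (by exact_mod_cast h.two) (by rw [pow_two, hz])) hf
    (fun g w hw => eig_mem.2 (by
      rw [MonoidHom.comp_apply, hc (M.z_mul_ψ hφ g), eig_mem.1 hw]))
    (fun w _ => by rw [MonoidHom.comp_apply, M.ψ_neg_one, map_one]; rfl) with ⟨y, hy, h0, hg⟩ | hT
  · let H : Subgroup G :=
      { carrier := {g | (ψ g).1 y = y}
        one_mem' := by simp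
        mul_mem' := fun {a b} ha hb => by
          rw [Set.mem_ofPred_eq] at ha hb ⊢
          rw [map_mul, O_mul_apply, hb, ha]
        inv_mem' := fun {a} ha => by
          rw [Set.mem_ofPred_eq] at ha ⊢
          rw [map_inv]; exact O_inv_apply_eq _ ha }
    have hH : H = ⊤ := kree_top M hφ (by omega) (eig_mem.1 hy) hg
      (hσ y (hJ.2 ⟨eig_mem.1 hy, by rw [← M.ψ_slW hφ]; exact hg _⟩))
    exact fixL_of_gen h.two (S := H) (by rw [closure_eq, hH]) h0 fun g hg =>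
      ⟨ψ g, hψ g, 1, by rw [one_smul]; exact hg⟩
  · exfalso
    obtain ⟨g, hg, hm⟩ := kree_gen M hφ
    obtain ⟨y, hy, h0⟩ := Submodule.exists_mem_ne_zero_of_ne_bot
      (p := J2 (ψ M.z) (ψ M.n) 1 1) fun e => by rw [e, finrank_bot] at hd; omega
    have ha := M.sq_mem_A hφ hm
    have hn := kree_norm M hφ ha
    set a := M.ψ hφ g * M.ψ hφ g with hae
    have h1 : ∀ w ∈ J2 (ψ M.z) (ψ M.n) 1 1, (ψ a).1 w ∈ J2 (ψ M.z) (ψ M.n) 1 1 := fun w hw => by
      obtain ⟨k1, k2⟩ := hJ.1 hw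
      exact hJ.2 ⟨by rw [hc (M.Tp_comm hφ (M.z_mem_Tp hφ) (M.A_le_Tp hφ ha)), k1],
        by rw [hc (M.Tp_comm hφ (M.n_mem_Tp hφ) (M.A_le_Tp hφ ha)), k2]⟩
    have h2 : ∀ x : G, ∀ w ∈ J2 (ψ M.z) (ψ M.n) 1 1,
        (ψ (M.g0 * x * M.g0⁻¹)).1 w = (ψ M.g0).1 ((ψ x).1 w) := fun x w hw => by
      rw [map_mul, map_mul, O_mul_apply, O_mul_apply, map_inv, O_inv_apply_eq _ (hσ w hw)]
    have h3 : ∀ w ∈ J2 (ψ M.z) (ψ M.n) 1 1, (ψ (M.g0 * a * M.g0⁻¹)).1 w = (ψ a).1 w :=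
      fun w hw => by rw [h2 a w hw, hσ _ (h1 w hw)]
    refine h0 (hT.six hg (eig_mem.2 (hJ.1 hy).1) ?_)
    have e : (ψ (a * (M.g0 * a * M.g0⁻¹) * (M.g0 * (M.g0 * a * M.g0⁻¹) * M.g0⁻¹))).1 y = y := by
      rw [hn, map_one]; rfl
    rw [map_mul, map_mul, O_mul_apply, O_mul_apply, h2 _ y hy, h3 y hy, hσ _ (h1 y hy),
      h3 _ (h1 y hy)] at e
    rw [MonoidHom.comp_apply, show M.ψ hφ (g ^ 6) = a * (a * a) by
      rw [map_pow, hae]; simp only [pow_succ, pow_zero, one_mul, mul_assoc],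
      map_mul ψ a, map_mul ψ a, O_mul_apply, O_mul_apply]
    exact e

theorem Hy.kRee (h : Hy ρ) (e : Lie.IsoRee G) : FixL ρ := by
  obtain ⟨E, _, _, m, hm, hE, ⟨e⟩⟩ := e
  have := Ree.charP_three hE
  let M := Ree.reeModel hE
  refine h.kReeM (E := E) ⟨M.ρ.comp e.toMonoidHom, M.inj.comp e.injective,
    fun a b c => e.symm (M.u a b c), fun l => e.symm (M.h l), e.symm M.n,
    fun a b c => by simp [M.ρu], fun l => by simp [M.ρh], by simp [M.ρn], fun g => M.inR _⟩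
    (Ree.isTits_tits hE) ?_
  rw [hE]
  exact le_trans (by norm_num) (Nat.pow_le_pow_right three_pos (show 3 ≤ 2 * m + 1 by omega))

end CfsgLib.O7
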