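import Cfsg.Agent.Lib.O7.Tool
import Cfsg.Agent.Lib.GHE.Defs
import Cfsg.Agent.Lib.HJC.J2
import Cfsg.Agent.Lib.HJC.J3
import Cfsg.Agent.S2132
import Cfsg.Agent.Lib.Ly.Main

/-!
KSP: `J₂`, `J₃`, `McL`, `Ly`.  See `plans/O7B.md`.
-/

set_option autoImplicit false

namespace CfsgLib.O7

open CfsgLib.OrthE CfsgLib.OMax Module QuadraticMap Subgroup Cfsg
open scoped MatrixGroups

variable {K G : Type*} [Field K] [IsAlgClosed K] [Group G] [Finite G] {ρ : G →* G7 K}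
  {E : Type} [Field E] [Fintype E]

theorem Hy.ksp_five (h : Hy ρ) {Q : Subgroup G} {z u n y r : G} {q : Fin 5 → G}
    (A : HJ.Amal Q z q u n y r) : False := by
  have f := A.fr.five
  have es := A.pre.es
  have zz := es.mul_self
  have cz : ∀ i w, z * (q i * w) = q i * (z * w) := fun i w => by
    rw [← mul_assoc, ← es.comm_z _ (f.mem i), mul_assoc]
  have sq : ∀ i w, q i * (q i * w) = w := fun i w => by rw [← mul_assoc, f.sq, one_mul]
  have an : ∀ i j w, i ≠ j → q i * (q j * w) = z * (q j * (q i * w)) := fun i j w hij => by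
    rw [← mul_assoc, f.anti i j hij, mul_assoc, mul_assoc]
  have z2 : ∀ w, z * (z * w) = w := fun w => by rw [← mul_assoc, zz, one_mul]
  have h1 : ∀ i j, i ≠ j → q i * q j * (q i * q j) = z := fun i j hij => by
    rw [mul_assoc, an j i _ hij.symm, f.sq, mul_one, ← cz, f.sq, mul_one]
  have h2 : ∀ i j, i ≠ 3 → j ≠ 3 → q 3 * (q i * q j) = q i * q j * q 3 := fun i j hi hj => by
    rw [an 3 i _ hi.symm, f.anti 3 j hj.symm, ← cz, z2, mul_assoc]
  have h3 : q 0 * q 1 * (q 1 * q 2) = z * (q 1 * q 2 * (q 0 * q 1)) := by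
    rw [mul_assoc, sq, mul_assoc, an 1 2 _ (by decide), z2, an 1 0 _ (by decide), f.sq, mul_one, ← cz]
    exact f.anti 0 2 (by decide)
  have h4 := f.anti 3 0 (by decide)
  rcases h.q8c es.ne_one (h1 0 1 (by decide)) (h1 1 2 (by decide)) zz h3 (f.sq 3)
    (h2 0 1 (by decide) (by decide)) (h2 1 2 (by decide) (by decide)) with e | e
  · rw [e, one_mul, mul_one] at h4
    exact es.ne_one (mul_eq_right.1 h4.symm)
  · rw [e, es.comm_z _ (f.mem 0)] at h4
    exact es.ne_one (mul_eq_right.1 h4.symm)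

/-- addition in the field with eight elements -/
def kspX (v w : Fin 8) : Fin 8 := Fin.ofNat 8 (Nat.xor v.val w.val)

/-- multiplication by a root of `t³ + t + 1` -/
def kspD : Equiv.Perm (Fin 8) :=
  ⟨![0, 2, 4, 6, 3, 1, 7, 5], ![0, 5, 1, 4, 2, 7, 3, 6], by decide, by decide⟩

theorem kspX_X : ∀ p v, kspX (kspX p v) v = p := by decide

/-- translations -/
def kspT (v : Fin 8) : Equiv.Perm (Fin 8) :=
  ⟨fun p => kspX p v, fun p => kspX p v, fun p => kspX_X p v, fun p => kspX_X p v⟩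

theorem ksp_facts : (∀ v w, kspT v = kspT w → v = w) ∧ (∀ v w, kspT v * kspT w = kspT (kspX v w)) ∧
    (∀ v, kspD * kspT v * kspD⁻¹ = kspT (kspD v)) ∧ kspD ^ 7 = 1 := by decide +kernel

theorem Hy.ksp_cov (h : Hy ρ) {X Y : Type*} [Group X] [Group Y] (ι : X →* G)
    (hι : Function.Injective ι) (π : X →* Y) {z : X} (z1 : z ≠ 1) (zz : z * z = 1)
    (zc : ∀ x, x * z = z * x) (ker : ∀ x, π x = 1 → x = 1 ∨ x = z) (πz : π z = 1) (β : Fin 8 → Y)
    (d : Y) (inj : Function.Injective β) (mul : ∀ v w, β v * β w = β (kspX v w))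
    (cj : ∀ v, d * β v * d⁻¹ = β (kspD v)) (d7 : d ^ 7 = 1) (lb : ∀ v, ∃ x, π x = β v)
    (ld : ∃ c, π c = d) : False := by
  have b0 : β 0 = 1 := mul_eq_left.1 (mul 0 0)
  obtain ⟨c, hc, c7⟩ : ∃ c, π c = d ∧ c ^ 7 = 1 := by
    obtain ⟨c, hc⟩ := ld
    refine ⟨c ^ 8, by rw [map_pow, hc, pow_succ, d7, one_mul], ?_⟩
    rw [← pow_mul, mul_comm, pow_mul]
    rcases ker (c ^ 7) (by rw [map_pow, hc, d7]) with e | e
    · rw [e, one_pow]
    · rw [e, show 8 = 2 * 4 from rfl, pow_mul, pow_two, zz, one_pow]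
  have key : ∀ x x', π x = π x' → x' = x ∨ x' = x * z := fun x x' e => by
    rcases ker (x⁻¹ * x') (by rw [map_mul, map_inv, e, inv_mul_cancel]) with e | e
    · exact .inl (inv_mul_eq_one.1 e).symm
    · exact .inr (inv_mul_eq_iff_eq_mul.1 e)
  have xz : ∀ x y, x * z * (y * z) = x * y := fun x y => by
    rw [mul_assoc, ← mul_assoc z, ← zc y, mul_assoc y, zz, mul_one]
  have sqeq : ∀ x x', π x = π x' → x' * x' = x * x := fun x x' e => by
    rcases key x x' e with e | e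
    · rw [e]
    · rw [e, xz]
  have pc : ∀ x v, π x = β v → π (c * x * c⁻¹) = β (kspD v) := fun x v e => by
    rw [map_mul, map_mul, map_inv, hc, e, cj]
  have pm : ∀ x y v w, π x = β v → π y = β w → π (x * y) = β (kspX v w) := fun x y v w e e' => by
    rw [map_mul, e, e', mul]
  have czc : c * z * c⁻¹ = z := by rw [zc, mul_inv_cancel_right]
  obtain ⟨x₁, h₁⟩ := lb 1
  have s12 : x₁ * x₁ = 1 ∨ x₁ * x₁ = z := ker _ ((pm _ _ _ _ h₁ h₁).trans b0)
  have step : ∀ v, (∀ x, π x = β v → x * x = x₁ * x₁) → ∀ x, π x = β (kspD v) → x * x = x₁ * x₁ := by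
    intro v H x e
    obtain ⟨y, hy⟩ := lb v
    rw [sqeq _ x ((pc y v hy).trans e.symm),
      show c * y * c⁻¹ * (c * y * c⁻¹) = c * (y * y) * c⁻¹ by group, H y hy]
    rcases s12 with e | e
    · rw [e]; group
    · rw [e, czc]
  have a1 : ∀ x, π x = β 1 → x * x = x₁ * x₁ := fun x e => sqeq _ _ (h₁.trans e.symm)
  have a2 : ∀ x, π x = β 2 → x * x = x₁ * x₁ := step 1 a1
  have a4 : ∀ x, π x = β 4 → x * x = x₁ * x₁ := step 2 a2
  have a3 : ∀ x, π x = β 3 → x * x = x₁ * x₁ := step 4 a4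
  have a6 : ∀ x, π x = β 6 → x * x = x₁ * x₁ := step 3 a3
  have a7 : ∀ x, π x = β 7 → x * x = x₁ * x₁ := step 6 a6
  have a5 : ∀ x, π x = β 5 → x * x = x₁ * x₁ := step 7 a7
  have s1 : x₁ * x₁ = 1 := by
    refine s12.resolve_right fun e => z1 ?_
    rw [e] at a1 a2 a3 a4 a5 a6 a7
    have anti : ∀ x y, x * x = z → y * y = z → x * y * (x * y) = z → y * x = x * y * z := by
      intro x y hx hy hxy
      have i1 : x⁻¹ = x * z := inv_eq_of_mul_eq_one_right (by rw [← mul_assoc, hx, zz])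
      have i2 : y⁻¹ = y * z := inv_eq_of_mul_eq_one_right (by rw [← mul_assoc, hy, zz])
      calc y * x = x⁻¹ * (x * y * (x * y)) * y⁻¹ := by group
        _ = x * y * z := by rw [hxy, i1, i2, mul_assoc x z, zz, mul_one, mul_assoc]
    obtain ⟨x₂, h₂⟩ := lb 2
    obtain ⟨x₄, h₄⟩ := lb 4
    have e1 := anti x₁ x₂ e (a2 _ h₂) (a3 _ (pm _ _ _ _ h₁ h₂))
    have e2 := anti x₁ x₄ e (a4 _ h₄) (a5 _ (pm _ _ _ _ h₁ h₄))
    have e3 := anti x₁ (x₂ * x₄) e (a6 _ (pm _ _ _ _ h₂ h₄))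
      (a7 _ (pm _ _ _ _ h₁ (pm _ _ _ _ h₂ h₄)))
    rw [mul_assoc, e2, ← mul_assoc, ← mul_assoc, e1, mul_assoc _ x₄, xz, mul_assoc] at e3
    exact mul_eq_left.1 e3.symm
  have sq : ∀ x v, π x = β v → x * x = 1 := by
    intro x v e
    rw [s1] at a1 a2 a3 a4 a5 a6 a7
    fin_cases v
    · rcases ker x (e.trans b0) with e | e
      · rw [e, one_mul]
      · rw [e, zz]
    exacts [a1 x e, a2 x e, a3 x e, a4 x e, a5 x e, a6 x e, a7 x e]
  have cm : ∀ x y v w, π x = β v → π y = β w → x * y = y * x := fun x y v w e e' => by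
    have e1 := sq _ _ (pm _ _ _ _ e e')
    rw [eq_inv_of_mul_eq_one_left e1, mul_inv_rev, inv_eq_of_mul_eq_one_right (sq _ _ e),
      inv_eq_of_mul_eq_one_right (sq _ _ e')]
  let A : Subgroup X :=
    { carrier := {x | (∃ v, π x = β v) ∧ c * (c * (c * x * c⁻¹) * c⁻¹) * c⁻¹ = c * x * c⁻¹ * x}
      one_mem' := ⟨⟨0, by rw [map_one, b0]⟩, by group⟩
      mul_mem' := by
        rintro x y ⟨⟨v, hv⟩, hx⟩ ⟨⟨w, hw⟩, hy⟩
        refine ⟨⟨_, pm _ _ _ _ hv hw⟩, ?_⟩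
        calc _ = c * (c * (c * x * c⁻¹) * c⁻¹) * c⁻¹ * (c * (c * (c * y * c⁻¹) * c⁻¹) * c⁻¹) := by group
          _ = c * x * c⁻¹ * (x * (c * y * c⁻¹)) * y := by rw [hx, hy]; group
          _ = _ := by rw [cm _ _ _ _ hv (pc _ _ hw)]; group
      inv_mem' := by
        rintro x ⟨⟨v, hv⟩, hx⟩
        rw [inv_eq_of_mul_eq_one_right (sq _ _ hv)]
        exact ⟨⟨v, hv⟩, hx⟩ }
  have zA : z ∉ A := fun hz => z1 (by
    have e : c * (c * (c * z * c⁻¹) * c⁻¹) * c⁻¹ = c * z * c⁻¹ * z := hz.2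
    rwa [czc, czc, czc, zz] at e)
  have ex : ∀ v, ∃ x : A, π x = β v := fun v => by
    obtain ⟨x, hx⟩ := lb v
    have e : β (kspX (kspD v) v) = β (kspD (kspD (kspD v))) :=
      congrArg β ((by decide : ∀ v, kspX (kspD v) v = kspD (kspD (kspD v))) v)
    rcases key _ _ ((pm _ _ _ _ (pc _ _ hx) hx).trans
      (e.trans (pc _ _ (pc _ _ (pc _ _ hx))).symm)) with e1 | e1
    · exact ⟨⟨x, ⟨v, hx⟩, e1⟩, hx⟩
    · have e2 : π (x * z) = β v := by rw [map_mul, πz, mul_one, hx]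
      refine ⟨⟨x * z, ⟨v, e2⟩, ?_⟩, e2⟩
      have e3 : ∀ y, c * (y * z) * c⁻¹ = c * y * c⁻¹ * z := fun y => by
        rw [← mul_assoc, mul_assoc _ z, ← zc, ← mul_assoc]
      rw [e3, e3, e3, e1, xz, mul_assoc _ z, zz, mul_one]
  choose σ hσ using ex
  have hb : Function.Bijective σ := by
    refine ⟨fun v w e => inj (by rw [← hσ, e, hσ]), fun x => ?_⟩
    obtain ⟨v, hv⟩ := x.2.1
    refine ⟨v, Subtype.ext ?_⟩
    rcases key _ _ ((hσ v).trans hv.symm) with e | e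
    · exact e.symm
    · exact absurd ((mul_mem_cancel_left (σ v).2).1 (e ▸ x.2)) zA
  have h8 : Nat.card (A.map ι) = 8 := by
    rw [card_map_of_injective hι, ← Nat.card_eq_of_bijective σ hb, Nat.card_fin]
  refine z1 (hι ((h.e87 h8 ?_ (c := ι c) (by rw [← map_pow, c7, map_one]) ?_ ?_).2.2 (ι z) ?_ ?_ |>.trans
    (map_one ι).symm))
  · rintro _ ⟨x, ⟨⟨v, hv⟩, -⟩, rfl⟩
    rw [← map_mul, sq _ _ hv, map_one]
  · rintro _ ⟨x, ⟨⟨v, hv⟩, hx⟩, rfl⟩
    refine ⟨c * x * c⁻¹, ⟨⟨_, pc _ _ hv⟩, ?_⟩, by rw [map_mul, map_mul, map_inv]⟩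
    rw [hx]
    group
  · refine ⟨ι (σ 1), mem_map_of_mem ι (σ 1).2, fun e => ?_⟩
    rw [← map_mul, ← map_mul] at e
    have e1 := pc _ _ (hσ 1)
    rw [hι e, mul_inv_cancel_right, hσ] at e1
    exact absurd (inj e1) (by decide)
  · rintro _ ⟨x, -, rfl⟩
    rw [← map_mul, ← map_mul, zc]
  · rw [← map_mul, ← map_mul, zc]

theorem Hy.ksp_alt (h : Hy ρ) {X : Type*} [Group X] (ι : X →* G) (hι : Function.Injective ι) {n : ℕ}
    (hn : 8 ≤ n) (k : IsNonsplitDoubleCover X (alternatingGroup (Fin n))) : False := by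
  obtain ⟨k1, ⟨e⟩, -⟩ := k
  obtain ⟨z, z1, hz⟩ := (Nat.card_eq_two_iff' (1 : center X)).1 k1
  let π : X →* Equiv.Perm (Fin n) :=
    (alternatingGroup (Fin n)).subtype.comp (e.toMonoidHom.comp (QuotientGroup.mk' _))
  have hπ : ∀ x, π x = 1 ↔ x ∈ center X := fun x => by
    rw [← QuotientGroup.eq_one_iff, ← map_eq_one_iff e e.injective, ← OneMemClass.coe_eq_one]
    rfl
  have ker : ∀ x ∈ center X, x = 1 ∨ x = z := fun x hx => by
    by_cases h1 : (⟨x, hx⟩ : center X) = 1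
    · exact .inl (congrArg Subtype.val h1)
    · exact .inr (congrArg Subtype.val (hz _ h1))
  have z1' : (z : X) ≠ 1 := fun e => z1 (Subtype.ext e)
  have sj : ∀ y : Equiv.Perm (Fin n), Equiv.Perm.sign y = 1 → ∃ x, π x = y := fun y hy => by
    obtain ⟨x, hx⟩ := QuotientGroup.mk'_surjective (center X) (e.symm ⟨y, hy⟩)
    refine ⟨x, ?_⟩
    change ((e (QuotientGroup.mk' _ x) : alternatingGroup (Fin n)) : Equiv.Perm (Fin n)) = y
    rw [hx, MulEquiv.apply_symm_apply]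
  let f : Equiv.Perm (Fin 8) →* Equiv.Perm (Fin n) := Equiv.Perm.viaEmbeddingHom (Fin.castLEEmb hn)
  have hf : Function.Injective f := Equiv.Perm.viaEmbeddingHom_injective _
  obtain ⟨f1, f2, f3, f4⟩ := ksp_facts
  have d7 : f kspD ^ 7 = 1 := by rw [← map_pow, f4, map_one]
  have cj : ∀ v, f kspD * f (kspT v) * (f kspD)⁻¹ = f (kspT (kspD v)) := fun v => by
    rw [← f3, map_mul, map_mul, map_inv]
  refine h.ksp_cov ι hι π z1' ?_ (fun x => mem_center_iff.1 z.2 x) (fun x hx => ker x ((hπ x).1 hx))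
    ((hπ _).2 z.2) (fun v => f (kspT v)) (f kspD) (fun v w e => f1 v w (hf e))
    (fun v w => by rw [← map_mul, f2]) cj d7 (fun v => sj _ ?_) (sj _ ?_)
  · exact (ker _ (mul_mem z.2 z.2)).resolve_right fun e => z1' (mul_eq_left.1 e)
  · obtain ⟨w, rfl⟩ := (by decide : ∀ v, ∃ w, v = kspX (kspD w) w) v
    rw [← f2, map_mul, ← cj, map_mul, map_mul, map_mul, Equiv.Perm.sign_inv, mul_right_comm (Equiv.Perm.sign _),
      Int.units_mul_self, one_mul, Int.units_mul_self]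
  · have e1 : f kspD = f kspD ^ 4 * f kspD ^ 4 := by rw [← pow_add, pow_succ, d7, one_mul]
    rw [e1, map_mul, Int.units_mul_self]

theorem Hy.kJ2 (h : Hy ρ) (e : Spor.IsoJ2 G) : False := by
  obtain ⟨e⟩ := e
  obtain ⟨Q, q, u, n, y, r, A⟩ := HJC.amal_J2 (e.trans CfsgLib.J2.iso)
  exact h.ksp_five A

theorem Hy.kJ3 (h : Hy ρ) (e : Spor.IsoJ3 G) : False := by
  obtain ⟨F, _, _, ω, hF, hω, ⟨e⟩⟩ := e
  obtain ⟨Q, z, q, u, n, y, r, A⟩ :=
    HJC.amal_J3 (e.trans (CfsgLib.J3.Hyp.of_card hF hω).nonempty_equiv.some)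
  exact h.ksp_five A

theorem Hy.kMcL (h : Hy ρ) (e : Spor.IsoMcL G) : False := by
  obtain ⟨e⟩ := e
  obtain ⟨-, t, -, h1⟩ := Agent.S2132.result
  exact h.ksp_alt (e.symm.toMonoidHom.comp (Subgroup.subtype _))
    (e.symm.injective.comp (subtype_injective _)) le_rfl h1

theorem Hy.kLy (h : Hy ρ) (e : Spor.IsoLy G) : False := by
  obtain ⟨e⟩ := e
  exact h.ksp_alt (e.symm.toMonoidHom.comp (Subgroup.subtype _))
    (e.symm.injective.comp (subtype_injective _)) (by norm_num) Ly.nonsplit_t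

end CfsgLib.O7
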