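import Cfsg.Agent.Lib.O7.KU33
import Cfsg.Agent.Lib.O7.Tri
import Cfsg.Agent.Lib.GHE.Defs
import Cfsg.Agent.Lib.L3K.KUa
import Cfsg.Agent.Lib.SL2.Basic
import Cfsg.Agent.S2089

/-!
KU3: `U₃(r)`.  See `plans/O7B.md`.
-/

set_option autoImplicit false

namespace CfsgLib.O7

open CfsgLib.OrthE CfsgLib.OMax Module QuadraticMap Subgroup Cfsg
open scoped MatrixGroups

variable {K G : Type*} [Field K] [IsAlgClosed K] [Group G] [Finite G] {ρ : G →* G7 K}
  {E : Type} [Field E] [Fintype E]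

namespace KU3

open _root_.CfsgLib.Unitary _root_.CfsgLib.PhanU _root_.CfsgLib.L3K

variable {F : Type} [Field F] [Fintype F] {q : ℕ} [hF : Fact (Fintype.card F = q ^ 2)]

/-- `diag(a, a^q)` -/
def dg2 (a : F) (h : a * a ^ q = 1) : SU 2 F q := mk2 a 0 (by simpa using h)

theorem mat_dg2 (a : F) (h : a * a ^ q = 1) : mat (dg2 a h) = !![a, 0; 0, a ^ q] := by
  simp [dg2, mat_mk2, zero_pow_q hF.out]

theorem mat_cyc : mat (cycU F q) = !![0, 0, 1; 1, 0, 0; 0, 1, 0] := rfl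

theorem mat_b0 (a : F) (h : a * a ^ q = 1) :
    mat (blk 2 3 0 (dg2 a h)) = !![a, 0, 0; 0, a ^ q, 0; 0, 0, 1] := by
  rw [mat_blk0, mat_dg2]; simp

theorem mat_b1 (a : F) (h : a * a ^ q = 1) :
    mat (blk 2 3 1 (dg2 a h)) = !![1, 0, 0; 0, a, 0; 0, 0, a ^ q] := by
  rw [mat_blk1, mat_dg2]; simp

theorem mat_pow (a : F) (h : a * a ^ q = 1) (n : ℕ) :
    mat (dg2 a h ^ n) = !![a ^ n, 0; 0, (a ^ q) ^ n] := by
  induction n with
  | zero => rw [pow_zero, mat_one]; ext i j; fin_cases i <;> fin_cases j <;> simp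
  | succ n ih => rw [pow_succ, mat_mul, ih, mat_dg2]; simp [pow_succ]

theorem pow_eq_one (a : F) (h : a * a ^ q = 1) (n : ℕ) : dg2 a h ^ n = 1 ↔ a ^ n = 1 := by
  refine ⟨fun e => ?_, fun e => mat_ext ?_⟩
  · have := congrFun (congrFun ((mat_pow a h n).symm.trans (congrArg mat e)) 0) 0
    simpa [mat_one] using this
  · rw [mat_pow, ← pow_mul, mul_comm, pow_mul, e, one_pow, mat_one]
    ext i j; fin_cases i <;> fin_cases j <;> simp

theorem cyc_sU : cycU F q * sU F q * (cycU F q)⁻¹ = tU F q * sU F q := by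
  rw [mul_inv_eq_iff_eq_mul]
  exact mat_ext (by simp only [mat_mul, mat_cyc, mat_sU, mat_tU]; simp)

theorem cyc_cube : cycU F q ^ 3 = 1 := mat_ext (by
  rw [pow_three]
  simp only [mat_mul, mat_cyc, mat_one]
  ext i j; fin_cases i <;> fin_cases j <;> simp [Matrix.mul_apply, Fin.sum_univ_three])

theorem s_comm (a : F) (h : a * a ^ q = 1) :
    sU F q * blk 2 3 0 (dg2 a h) = blk 2 3 0 (dg2 a h) * sU F q :=
  mat_ext (by simp only [mat_mul, mat_b0, mat_sU]; simp)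

theorem b_comm (a : F) (h : a * a ^ q = 1) :
    blk 2 3 0 (dg2 a h) * blk 2 3 1 (dg2 a h) = blk 2 3 1 (dg2 a h) * blk 2 3 0 (dg2 a h) :=
  mat_ext (by simp only [mat_mul, mat_b0, mat_b1]; simp [mul_comm])

theorem b_prod (a : F) (h : a * a ^ q = 1) : blk 2 3 0 (dg2 a h) * blk 2 3 1 (dg2 a h) *
    ((cycU F q)⁻¹ * blk 2 3 0 (dg2 a h) * cycU F q) = 1 := by
  have e : blk 2 3 0 (dg2 a h) * cycU F q * (blk 2 3 0 (dg2 a h) * blk 2 3 1 (dg2 a h)) = cycU F q :=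
    mat_ext (by simp only [mat_mul, mat_b0, mat_b1, mat_cyc]; simp [h, mul_comm (a ^ q)])
  rw [mul_eq_one_comm, mul_assoc (cycU F q)⁻¹, mul_assoc (cycU F q)⁻¹, e, inv_mul_cancel]

theorem b_small (a : F) (h : a * a ^ q = 1) (h6 : a ^ 6 = 1) (y : SU 3 F q) :
    Commute (blk 2 3 0 (dg2 a h) ^ 2 * (blk 2 3 1 (dg2 a h) ^ 2)⁻¹) y := by
  have e : mat (blk 2 3 0 (dg2 a h) ^ 2) = (a ^ 2) • mat (blk 2 3 1 (dg2 a h) ^ 2) := by
    simp only [pow_two, mat_mul, mat_b0, mat_b1]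
    ext i j; fin_cases i <;> fin_cases j <;> simp
    · linear_combination (-(a ^ q) ^ 2) * h6 + a ^ 4 * (a * a ^ q + 1) * h
    · linear_combination (-(a * a ^ q + 1)) * h
  have e2 : mat (blk 2 3 0 (dg2 a h) ^ 2 * (blk 2 3 1 (dg2 a h) ^ 2)⁻¹) = (a ^ 2) • 1 := by
    rw [mat_mul, e, Matrix.smul_mul, ← mat_mul, mul_inv_cancel, mat_one]
  generalize blk 2 3 0 (dg2 a h) ^ 2 * (blk 2 3 1 (dg2 a h) ^ 2)⁻¹ = c at e2
  exact mat_ext (by rw [mat_mul, mat_mul, e2, Matrix.smul_mul, Matrix.mul_smul, one_mul, mul_one])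

theorem t_not (hq : Odd q) : tU F q ∉ center (SU 3 F q) := fun e =>
  (pairU hq).t_ne (mem_bot.1 (meetU.le ⟨⟨_, blk_jj⟩, e⟩))

/-- the data for `Hy.tri1` -/
theorem td (hq : Odd q) {k : Type} [Field k] [Fintype k] (hk : Fintype.card k = q)
    (f : SU 2 F q ≃* SL(2, k)) (η : SU 3 F q →* G) (hη : η.ker ≤ center _) :
    ∃ g, TD (η (tU F q)) (η (sU F q)) (η (cycU F q))
      (η.comp ((blk 2 3 0).comp f.symm.toMonoidHom)) g := by
  obtain ⟨a, ha⟩ := exists_prim (F := F) (q := q)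
  have h : a * a ^ q = 1 := by rw [← pow_succ', ha.pow_eq_one]
  have p := pairU (F := F) hq
  have e : (η.comp ((blk 2 3 0).comp f.symm.toMonoidHom)) (f (dg2 a h)) = η (blk 2 3 0 (dg2 a h)) := by
    simp
  have e1 : η (cycU F q) * η (blk 2 3 0 (dg2 a h)) * (η (cycU F q))⁻¹ = η (blk 2 3 1 (dg2 a h)) := by
    rw [← map_inv, ← map_mul, ← map_mul, cyc_blk]
  refine ⟨f (dg2 a h), ⟨fun e => t_not hq (hη e), by rw [← map_mul, p.tt, map_one],
    by rw [← map_mul, ← map_mul, p.comm], by rw [← map_inv, ← map_mul, ← map_mul, cyc_tU],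
    by rw [← map_inv, ← map_mul, ← map_mul, cyc_sU, map_mul], by rw [← map_pow, cyc_cube, map_one]⟩,
    ?_, fun x => ?_, Or.inr ?_, ?_, ?_, ?_, fun h6 x => ?_⟩
  · have h2 : (2 : k) ≠ 0 := two_ne (hk ▸ hq)
    have k1 : jU * jU * (jU * jU) = (1 : SU 2 F q) := blk_injective (n := 3) (i := 0) (by omega) (by
      rw [map_mul, blk_jj, p.tt, map_one])
    rcases (SL2.isScal_iff _).1 ((SL2.sq_eq_one_iff_isScal h2 (f (jU * jU))).1
      (by rw [← map_mul, k1, map_one])) with k2 | k2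
    · exact absurd (blk_jj.symm.trans (by rw [f.map_eq_one_iff.1 k2, map_one])) p.t_ne
    · rw [← k2, ← blk_jj]; simp
  · obtain ⟨y, hy⟩ := (mem_normalizer_iff.1 (norm_B hq (W2.mem_Cx.2 p.comm.symm)) _).1 ⟨f.symm x, rfl⟩
    refine ⟨f y, ?_⟩
    have : η (blk 2 3 0 y) = _ := congrArg η hy
    rw [map_mul, map_mul, map_inv] at this
    simpa using this.symm
  · rw [f.orderOf_eq, hk, ha.eq_orderOf]
    exact orderOf_eq_orderOf_iff.2 (pow_eq_one a h)
  · rw [e, ← map_mul, ← map_mul, s_comm]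
  · rw [e, e1, ← map_mul, ← map_mul, b_comm]
  · rw [e, e1, ← map_inv, ← map_mul, ← map_mul, ← map_mul, ← map_mul, b_prod, map_one]
  · rw [← map_pow, f.map_eq_one_iff, pow_eq_one] at h6
    rw [e, ← conj_pow, e1, ← map_pow η, ← map_pow η, ← map_inv, ← map_mul]
    exact (b_small a h h6 _).map η

theorem gen (h3 : 3 ≤ q) {k : Type} [Field k] (f : SU 2 F q ≃* SL(2, k)) (η : SU 3 F q →* G)
    (hη : Function.Surjective η) : (η.comp ((blk 2 3 0).comp f.symm.toMonoidHom)).range ⊔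
      closure {η (sU F q), η (cycU F q)} = ⊤ := by
  refine eq_top_iff.2 fun x _ => ?_
  obtain ⟨y, rfl⟩ := hη x
  have k0 : ∀ A, η (blk 2 3 0 A) ∈ (η.comp ((blk 2 3 0).comp f.symm.toMonoidHom)).range ⊔
      closure {η (sU F q), η (cycU F q)} := fun A => mem_sup_left ⟨f A, by simp⟩
  have k1 : η (cycU F q) ∈ (η.comp ((blk 2 3 0).comp f.symm.toMonoidHom)).range ⊔
      closure {η (sU F q), η (cycU F q)} := mem_sup_right (subset_closure (Or.inr rfl))
  refine mem_comap.1 (mem_of_two_blk (n := 2) le_rfl (Or.inl h3) _ (fun A => mem_comap.2 (k0 A))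
    (fun A => ?_) y)
  rw [mem_comap, ← cyc_blk, map_mul, map_mul, map_inv]
  exact mul_mem (mul_mem k1 (k0 A)) (inv_mem k1)

end KU3

theorem ku3_ker {X : Type*} [Group X] (e : G ≃* X ⧸ center X) :
    (e.symm.toMonoidHom.comp (QuotientGroup.mk' (center X))).ker ≤ center X := fun x hx =>
  (QuotientGroup.eq_one_iff x).1 (e.symm.map_eq_one_iff.1 hx)

theorem Hy.kU3 (h : Hy ρ) (e : GHE.IU 3 Odd G) : FixL ρ := by
  obtain ⟨F, _, _, q, hF, hq, ⟨e⟩⟩ := e
  have h2 := Unitary.two_le_q hF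
  have ho := Nat.odd_iff.1 hq
  by_cases h3 : q = 3
  · subst h3; exact h.kU33 hF e
  by_cases hp : ringChar K ≠ ringChar F
  · exact (h.u3_cross hF (by omega) hp _ (ku3_ker e)).elim
  have : Fact (ringChar F).Prime := ⟨CharP.char_is_prime F _⟩
  have : CharP K (ringChar F) := ringChar.of_eq (not_not.1 hp)
  have := Fact.mk hF
  obtain ⟨ψ, hψ⟩ := h.split e (Odd.of_dvd_nat (by decide : Odd 3) (Nat.gcd_dvd_left _ _))
    (Cfsg.Agent.S2089.result 3 q hF le_rfl (by omega) (by simp))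
  letI : Fintype (Unitary.fixedSubfield hF) := Fintype.ofFinite _
  have hk : Fintype.card (Unitary.fixedSubfield hF) = q := by
    rw [← Nat.card_eq_fintype_card, Unitary.card_fixedSubfield]
  obtain ⟨f⟩ := Unitary.nonempty_su2_equiv_sl2 hF hk
  obtain ⟨g, t⟩ := KU3.td hq hk f _ (ku3_ker e)
  exact h.tri1 (ringChar F) hψ (by omega) t (KU3.gen (by omega) f _
    (e.symm.surjective.comp (QuotientGroup.mk'_surjective _)))

theorem Hy.kU34 (h : Hy ρ) (e : GHE.IU 3 (· = 4) G) : False := by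
  obtain ⟨F, _, _, q, hF, rfl, ⟨e⟩⟩ := e
  refine h.u3_cross hF le_rfl (fun hp => h.two ?_) _ (ku3_ker e)
  have h4 := Unitary.natCast_q hF
  have h2 : ((2 : ℕ) : F) = 0 := by
    have : ((2 : ℕ) : F) * ((2 : ℕ) : F) = 0 := by rw [← h4]; push_cast; norm_num
    exact mul_self_eq_zero.1 this
  have := (ringChar.spec K 2).2 (hp ▸ (ringChar.spec F 2).1 h2)
  exact_mod_cast this

end CfsgLib.O7
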