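import Cfsg.Agent.Lib.O7.Tool
import Cfsg.Agent.Lib.O7.L28a
import Cfsg.Agent.Lib.GHE.Defs

/-!
L28: `L₂(8)`.  See `plans/O7B.md`.
-/

set_option autoImplicit false

namespace CfsgLib.O7

open CfsgLib.OrthE CfsgLib.OMax Module QuadraticMap Subgroup Cfsg
open scoped MatrixGroups

namespace L8

variable {K : Type*} [Field K] {ρ : S8 →* G7 K} {b : Basis (Fin 7) K (V7 K)}

/-- the frame permuted by the Borel subgroup -/
structure Fr (ρ : S8 →* G7 K) (b : Basis (Fin 7) K (V7 K)) : Prop where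
  two : (2 : K) ≠ 0
  hc : ∀ j, b j = (ρ (cp j)).1 (b 0)
  hu : ∀ t j, (ρ (u t)).1 (b j) = (D t j : K) • b j
  q0 : Q7 K (b 0) ≠ 0
  orth : ∀ i j, i ≠ j → polar (Q7 K) (b i) (b j) = 0

theorem ap (ρ : S8 →* G7 K) (g k : S8) (x : V7 K) : (ρ (g * k)).1 x = (ρ g).1 ((ρ k).1 x) := by
  rw [map_mul, O_mul_apply]

theorem exists_fr (h : Hy ρ) : ∃ b, Fr ρ b := by
  obtain ⟨b, d, b1, -, b2, -⟩ := exists_diag2 h.two (nondeg_Q7 h.two) (fun i => ρ (u i))
    (fun i j => by rw [← map_mul, u_comm, map_mul]) (fun i => by rw [← map_mul, uu, map_one]) finrank_V7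
  obtain ⟨j, hj⟩ : ∃ j, d 0 j = true := by
    by_contra H
    push Not at H
    refine u_ne 0 (h.inj (en_inj (b.ext fun j => ?_)))
    rw [en_apply, b2, if_neg (H j), map_one, en_apply, O_one_apply]
  have x0 : b j ≠ -b j := fun e => b.ne_zero j (by
    have : (2 : K) • b j = 0 := by rw [two_smul]; exact add_eq_zero_iff_eq_neg.2 e
    exact (smul_eq_zero.1 this).resolve_left h.two)
  obtain ⟨k, hk⟩ := ch_shift (fun i => d i j) hj fun i => by
    have e := ap ρ (u i) (u (i + 1)) (b j)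
    rw [u_add, b2, b2] at e
    have e1 := b2 i j
    cases h1 : d i j <;> cases h2 : d (i + 1) j <;> cases h3 : d (i + 3) j <;>
      simp only [h1, h2, h3, if_true, Bool.false_eq_true, if_false, map_neg, e1, neg_neg] at e e1 <;>
      first | rfl | exact absurd e x0 | exact absurd e.symm x0
  obtain ⟨v, hv⟩ : ∃ v, v = (ρ (cp k)).1 (b j) := ⟨_, rfl⟩
  have q0 : Q7 K v ≠ 0 := by rw [hv, O_map]; exact b1 j
  have a0 : ∀ t, (ρ (u t)).1 v = ((if e0 t then -1 else 1 : ℤ) : K) • v := fun t => by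
    rw [hv, ← ap, u_cp, ap, b2, hk t]
    cases e0 t <;> simp
  have a1 : ∀ t i, (ρ (u t)).1 ((ρ (cp i)).1 v) = (D t i : K) • (ρ (cp i)).1 v := fun t i => by
    rw [← ap, u_cp, ap, a0, map_smul, D]
  have a2 : ∀ i i', i ≠ i' → polar (Q7 K) ((ρ (cp i)).1 v) ((ρ (cp i')).1 v) = 0 := fun i i' hi => by
    obtain ⟨t, ht⟩ := D_sep i i' hi
    have e := O_polar (ρ (u t)) ((ρ (cp i)).1 v) ((ρ (cp i')).1 v)
    rw [a1, a1, polar_smul_left, polar_smul_right, smul_eq_mul, smul_eq_mul, ← mul_assoc,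
      ← Int.cast_mul, ht] at e
    refine (mul_eq_zero.1 ?_).resolve_left h.two
    push_cast at e
    linear_combination -e
  have hl : LinearIndependent K fun i => (ρ (cp i)).1 v :=
    Fintype.linearIndependent_iff.2 fun g hg i => by
      have e := congrArg (polar (Q7 K) ((ρ (cp i)).1 v)) hg
      rw [← polarBilin_apply_apply, map_sum, Finset.sum_eq_single i (fun i' _ hi => by
        rw [polarBilin_apply_apply, polar_smul_right, a2 i i' hi.symm, smul_zero]) (by simp),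
        polarBilin_apply_apply, polar_smul_right, polar_self', O_map, polar_zero_right] at e
      exact (smul_eq_zero.1 e).resolve_right (mul_ne_zero h.two q0)
  have hb := coe_basisOfLinearIndependentOfCardEqFinrank hl (by simp)
  refine ⟨basisOfLinearIndependentOfCardEqFinrank hl (by simp), h.two, fun j => ?_, ?_, ?_, ?_⟩
  all_goals simp only [hb]
  · rw [← ap, cp_zero, mul_one]
  · exact a1
  · rwa [O_map]
  · exact a2

namespace Fr

variable (f : Fr ρ b)
include f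

theorem cp_b (k j : Fin 7) : (ρ (cp k)).1 (b j) = b (j + k) := by
  rw [f.hc j, f.hc (j + k), ← ap, cp_cp]

theorem repr_cp (k i : Fin 7) (x : V7 K) : b.repr ((ρ (cp k)).1 x) (i + k) = b.repr x i :=
  LinearMap.congr_fun (b.ext (f₁ := b.coord (i + k) ∘ₗ en (ρ (cp k))) (f₂ := b.coord i) fun j => by
    simp [en_apply, f.cp_b, Finsupp.single_apply]) x

theorem repr_u (t i : Fin 7) (x : V7 K) : b.repr ((ρ (u t)).1 x) i = D t i * b.repr x i :=
  LinearMap.congr_fun (b.ext (f₁ := b.coord i ∘ₗ en (ρ (u t))) (f₂ := (D t i : K) • b.coord i)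
    fun j => by
      simp only [LinearMap.comp_apply, en_apply, f.hu, map_smul, LinearMap.smul_apply, Basis.coord_apply,
        Basis.repr_self, Finsupp.single_apply]
      split_ifs with e
      · rw [e]
      · simp) x

theorem repr_r (i : Fin 7) (x : V7 K) :
    b.repr ((refl (Q7 K) (b 0)).1 x) i = ((if i = 0 then -1 else 1 : ℤ) : K) * b.repr x i :=
  LinearMap.congr_fun (b.ext (f₁ := b.coord i ∘ₗ en (refl (Q7 K) (b 0)))
    (f₂ := ((if i = 0 then -1 else 1 : ℤ) : K) • b.coord i) fun j => by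
      simp only [LinearMap.comp_apply, en_apply, LinearMap.smul_apply]
      by_cases e : j = 0
      · subst e
        rw [refl_apply_self f.q0]
        by_cases e' : i = 0
        · simp [e']
        · simp [e']
      · rw [refl_apply_of_orth (f.orth j 0 e)]
        by_cases e' : i = 0
        · simp [e', e]
        · simp [e']) x

theorem repr_w (i j : Fin 7) : b.repr ((ρ w).1 (b j)) i = b.repr ((ρ w).1 (b 0)) (i + j) := by
  rw [← f.repr_cp j i, f.hc j, ← ap, ← ap, cp_w]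

theorem polar_zero (x : V7 K) : polar (Q7 K) (b 0) x = 2 * b.repr x 0 * Q7 K (b 0) :=
  LinearMap.congr_fun (b.ext (f₁ := polarBilin (Q7 K) (b 0)) (f₂ := (2 * Q7 K (b 0)) • b.coord 0)
    fun j => by
      by_cases e : j = 0
      · simp [e]
      · simp [e, f.orth 0 j (Ne.symm e)]) x |>.trans (by simp; ring)

/-- the matrix of the Weyl element -/
theorem mat_w (h6 : rk (ρ (w * u 0)) = 6) (k : Fin 7) : 2 * b.repr ((ρ w).1 (b 0)) k = m' k := by
  have h1 : finrank K (LinearMap.ker (en (ρ (w * u 0)) - 1)) = 1 := by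
    have := rk_add_fx (ρ (w * u 0))
    rw [finrank_V7, h6] at this
    exact (by omega : fx (ρ (w * u 0)) = 1)
  obtain ⟨⟨y, hy⟩, -, h2⟩ := finrank_eq_one_iff'.1 h1
  have h3 : ∀ j, ∃ x : K, x • y = b j + (ρ (w * u 0)).1 (b j) + (ρ (u 0 * w)).1 (b j) := fun j => by
    obtain ⟨x, hx⟩ := h2 ⟨b j + (ρ (w * u 0)).1 (b j) + (ρ (u 0 * w)).1 (b j), eig_mem.2 (by
      rw [map_add, map_add, ← ap, ← ap, wu.1, wu.2.1, map_one, O_one_apply]
      abel)⟩
    exact ⟨x, congrArg Subtype.val hx⟩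
  choose x hx using h3
  obtain ⟨m, hm⟩ : ∃ m : Fin 7 → K, m = b.repr ((ρ w).1 (b 0)) := ⟨_, rfl⟩
  have h4 : ∀ i j, x j * b.repr y i = (if j = i then 1 else 0) + (D 0 j + D 0 i) * m (i + j) :=
    fun i j => by
      have e := congrArg (fun z => b.repr z i) (hx j)
      simp only [map_smul, map_add, Finsupp.smul_apply, Finsupp.add_apply, smul_eq_mul, ap, f.hu,
        f.repr_u, f.repr_w i j, Basis.repr_self, Finsupp.single_apply, ← hm] at e
      rw [e]; ring
  have key : ∀ i j k l, ((if j = i then 1 else 0) + (D 0 j + D 0 i) * m (i + j)) *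
      ((if l = k then 1 else 0) + (D 0 l + D 0 k) * m (k + l)) =
      ((if l = i then 1 else 0) + (D 0 l + D 0 i) * m (i + l)) *
      ((if j = k then 1 else 0) + (D 0 j + D 0 k) * m (k + j)) := fun i j k l => by
    rw [← h4, ← h4, ← h4, ← h4]; ring
  obtain ⟨d0, d1, d2, d3, d4, d5, d6⟩ := D0
  have k1 := key 3 3 1 1
  have k2 := key 3 3 0 2
  have k3 := key 5 5 1 1
  have k4 := key 5 5 0 2
  have k5 := key 6 6 1 1
  have k6 := key 6 6 0 2
  have k7 := key 3 5 1 1
  have k8 := key 3 5 0 2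
  have k9 := key 3 6 1 1
  have k10 := key 3 6 0 2
  have k11 := key 5 6 1 1
  have k12 := key 5 6 0 2
  have k13 := key 0 0 1 1
  simp only [d0, d1, d2, d3, d5, d6, Fin.reduceAdd, Fin.reduceEq, if_true, if_false, Int.cast_neg,
    Int.cast_one] at k1 k2 k3 k4 k5 k6 k7 k8 k9 k10 k11 k12 k13
  have e6 : 2 * m 6 = -1 := by linear_combination k1 - k2
  have e3 : 2 * m 3 = -1 := by linear_combination k3 - k4
  have e5 : 2 * m 5 = -1 := by linear_combination k5 - k6
  have e1 : 2 * m 1 = 0 := by linear_combination k7 - k8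
  have e2 : 2 * m 2 = 0 := by linear_combination k9 - k10
  have e4 : 2 * m 4 = 0 := by linear_combination k11 - k12
  have e0 : 2 * m 0 = 1 := by linear_combination -k13 - (1 - 2 * m 0) * e2 - 2 * m 1 * e1
  rw [← hm]
  fin_cases k <;> simp [m', e0, e1, e2, e3, e4, e5, e6]

end Fr

/-- doubled coordinates -/
def Co (b : Basis (Fin 7) K (V7 K)) (x : V7 K) (z : Fin 7 → ℤ) : Prop := ∀ i, 2 * b.repr x i = z i

/-- the roots -/
def Ph (b : Basis (Fin 7) K (V7 K)) (x : V7 K) : Prop := ∃ t j, Co b x (zz t j) ∨ Co b (-x) (zz t j)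

theorem Co.ph {x : V7 K} {z : Fin 7 → ℤ} (h : Co b x z) {t : Fin 9} {j : Fin 7}
    (e : (∀ i, z i = zz t j i) ∨ ∀ i, z i = -zz t j i) : Ph b x := by
  refine ⟨t, j, e.imp (fun e i => by rw [h, e]) fun e i => ?_⟩
  rw [map_neg, Finsupp.neg_apply, mul_neg, h, e, Int.cast_neg, neg_neg]

theorem Ph.neg {x : V7 K} (h : Ph b x) : Ph b (-x) := by
  obtain ⟨t, j, h⟩ := h
  exact ⟨t, j, by rw [neg_neg]; exact h.symm⟩

theorem Ph.map {g : G7 K} (H : ∀ x t j, Co b x (zz t j) → Ph b (g.1 x)) {x : V7 K} (h : Ph b x) :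
    Ph b (g.1 x) := by
  obtain ⟨t, j, h | h⟩ := h
  · exact H x t j h
  · simpa using (H _ t j h).neg

theorem Co.uniq (h2 : (2 : K) ≠ 0) {x y : V7 K} {z z' : Fin 7 → ℤ} (h : Co b x z) (k : Co b y z')
    (e : ∀ i, z i = z' i) : x = y :=
  b.ext_elem fun i => mul_left_cancel₀ h2 (by rw [h, k, e])

theorem co_b (j : Fin 7) : Co b (b j) fun i => if j = i then 2 else 0 := fun i => by
  rw [Basis.repr_self, Finsupp.single_apply]
  by_cases e : j = i <;> simp [e]

namespace Fr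

variable (f : Fr ρ b) (hm : ∀ k, 2 * b.repr ((ρ w).1 (b 0)) k = m' k)
include f

theorem co_u {x : V7 K} {z : Fin 7 → ℤ} (h : Co b x z) (t : Fin 7) :
    Co b ((ρ (u t)).1 x) fun i => D t i * z i := fun i => by
  rw [f.repr_u, Int.cast_mul, ← h]; ring

theorem ph_r {x : V7 K} (h : Ph b x) : Ph b ((refl (Q7 K) (b 0)).1 x) :=
  h.map fun x t j k => by
    obtain ⟨t', e⟩ := zz_r t j
    refine Co.ph (z := fun i => (if i = 0 then -1 else 1) * zz t j i) (fun i => ?_) e
    rw [f.repr_r, Int.cast_mul, ← k]; ring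

include hm

theorem co_w (j : Fin 7) : Co b ((ρ w).1 (b j)) fun i => m' (i + j) := fun i => by rw [f.repr_w, hm]

theorem ph_w {x : V7 K} (h : Ph b x) : Ph b ((ρ w).1 x) :=
  h.map fun x t j k => by
    have a : ∀ i, 2 * (2 * b.repr ((ρ w).1 x) i) = ((∑ l, m' (i + l) * zz t j l : ℤ) : K) := fun i => by
      conv_lhs => rw [← b.sum_repr x]
      simp only [map_sum, map_smul, Finsupp.finsetSum_apply, Finsupp.smul_apply, smul_eq_mul,
        Finset.mul_sum, Int.cast_sum, Int.cast_mul]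
      refine Finset.sum_congr rfl fun l _ => ?_
      rw [← k l, ← f.co_w hm l i]; ring
    obtain ⟨t', j', e | e⟩ := zz_w t j
    · refine Co.ph (z := zz t' j') (fun i => mul_left_cancel₀ f.two ?_) (.inl fun _ => rfl)
      rw [a, e]; push_cast; rfl
    · refine Co.ph (z := fun i => -zz t' j' i) (fun i => mul_left_cancel₀ f.two ?_) (.inr fun _ => rfl)
      rw [a, e]; push_cast; rfl

theorem ph_all (g : S8) : Ph b ((ρ g).1 (b 0)) := by
  let H : Submonoid S8 :=
    { carrier := {g | ∀ x, Ph b x → Ph b ((ρ g).1 x)}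
      one_mem' := fun x hx => by rwa [map_one]
      mul_mem' := fun {g k} hg hk x hx => by rw [ap]; exact hg _ (hk x hx) }
  have hH : (⟨H, fun {g} hg => Submonoid.powers_le.2 hg
      (mem_powers_iff_mem_zpowers.2 (inv_mem (mem_zpowers g)))⟩ : Subgroup S8) = ⊤ := gen (fun t x hx => hx.map fun x t' j k => by
        obtain ⟨t'', e⟩ := zz_u t t' j
        exact (f.co_u k t).ph e) fun x hx => f.ph_w hm hx
  exact hH.ge (mem_top g) (b 0) ((co_b 0).ph (t := 8) (j := 0) (.inl fun _ => rfl))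

theorem of_ph {x : V7 K} (h : Ph b x) : ∃ g, x = (ρ g).1 (b 0) ∨ x = -(ρ g).1 (b 0) := by
  have key : ∀ x t j, Co b x (zz t j) → ∃ g, x = (ρ g).1 (b 0) := fun x t j k => by
    rcases zz_cases t j with e | e | ⟨r, e⟩
    · exact ⟨cp j, (k.uniq f.two (co_b j) e).trans (f.hc j)⟩
    · exact ⟨w * cp j, by rw [ap, ← f.hc]; exact k.uniq f.two (f.co_w hm j) e⟩
    · exact ⟨u r * (w * cp j), by rw [ap, ap, ← f.hc]; exact k.uniq f.two (f.co_u (f.co_w hm j) r) e⟩
  obtain ⟨t, j, h | h⟩ := h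
  · exact (key _ t j h).imp fun g => .inl
  · exact (key _ t j h).imp fun g e => .inr (neg_eq_iff_eq_neg.1 e)

omit hm in
theorem eg_iff {x : V7 K} : Eg ρ x ↔ ∃ (g : S8) (l : K), l ≠ 0 ∧ x = l • (ρ g).1 (b 0) := by
  obtain ⟨S, hS⟩ := exists_syl
  constructor
  · rintro ⟨q, T, hT⟩
    obtain ⟨g, rfl⟩ := MulAction.exists_smul_eq S8 S T
    obtain ⟨y, rfl⟩ := (ρ g).1.surjective x
    have a : ∀ t, (ρ (u t)).1 y = y ∨ (ρ (u t)).1 y = -y := fun t => by
      have := hT (g * u t * g⁻¹) 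
        ⟨u t, show u t ∈ (S : Subgroup S8) from hS ▸ u_mem t, rfl⟩
      rw [← ap, inv_mul_cancel_right, ap, ← map_neg] at this
      exact this.imp (fun e => (ρ g).1.injective e) fun e => (ρ g).1.injective e
    obtain ⟨i, hi⟩ : ∃ i, b.repr y i ≠ 0 := by
      by_contra H
      push Not at H
      rw [show y = 0 from b.ext_elem fun i => by rw [H, map_zero, Finsupp.zero_apply]] at q
      simp at q
    refine ⟨g * cp i, _, hi, ?_⟩
    rw [ap, ← f.hc, ← map_smul]
    refine congrArg _ (b.ext_elem fun j => ?_)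
    rw [map_smul, Basis.repr_self, Finsupp.smul_apply, Finsupp.single_apply]
    split_ifs with e
    · rw [e, smul_eq_mul, mul_one]
    obtain ⟨t, ht⟩ := D_sep i j e
    have h1 := f.repr_u t i y
    have h2 := f.repr_u t j y
    have h3 : (D t i : K) * D t j = -1 := by rw [← Int.cast_mul, ht]; simp
    rw [smul_zero]
    refine (mul_eq_zero.1 ?_).resolve_left (mul_ne_zero f.two hi)
    rcases a t with k | k <;> rw [k] at h1 h2
    · linear_combination b.repr y j * D t j * h1 + b.repr y i * h2 + b.repr y i * b.repr y j * h3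
    · simp only [map_neg, Finsupp.neg_apply] at h1 h2
      linear_combination b.repr y j * D t j * h1 - b.repr y i * h2 + b.repr y i * b.repr y j * h3
  · rintro ⟨g, l, hl, rfl⟩
    refine ⟨by rw [Q_smul, O_map]; exact mul_ne_zero (mul_ne_zero hl hl) f.q0, g • S, fun s hs => ?_⟩
    obtain ⟨a, ha, rfl⟩ := hs
    change (ρ (g * a * g⁻¹)).1 _ = _ ∨ (ρ (g * a * g⁻¹)).1 _ = _
    rw [map_smul, ← ap, inv_mul_cancel_right, ap]
    rcases mem_A (hS ▸ (show a ∈ (S : Subgroup S8) from ha)) with rfl | ⟨t, rfl⟩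
    · rw [map_one, O_one_apply]; exact .inl rfl
    · rw [f.hu, D]
      split_ifs <;> simp

theorem rig (h3 : (3 : K) ≠ 0) : Rig ρ := by
  have dec : ∀ g k : S8, (ρ k).1 (b 0) = (ρ g).1 ((ρ (g⁻¹ * k)).1 (b 0)) := fun g k => by
    rw [← ap, mul_inv_cancel_left]
  refine ⟨⟨b 0, f.eg_iff.2 ⟨1, 1, one_ne_zero, by rw [map_one, O_one_apply, one_smul]⟩⟩, ?_, ?_⟩
  all_goals
    intro x y hx hy
    obtain ⟨g, l, hl, rfl⟩ := f.eg_iff.1 hx
    obtain ⟨k, n, hn, rfl⟩ := f.eg_iff.1 hy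
    rw [dec g k]
  · rw [refl_smul hl, ← conj_refl, map_smul, O_mul_apply, O_mul_apply, O_inv_apply_apply]
    obtain ⟨s, e | e⟩ := f.of_ph hm (f.ph_r (f.ph_all hm (g⁻¹ * k))) <;> rw [e]
    · exact f.eg_iff.2 ⟨g * s, n, hn, by rw [ap]⟩
    · exact f.eg_iff.2 ⟨g * s, -n, neg_ne_zero.2 hn, by rw [ap, map_neg, smul_neg, neg_smul]⟩
  · intro e
    rw [polar_smul_left, polar_smul_right, O_polar, Q_smul, Q_smul, O_map, O_map, O_map, f.polar_zero,
      smul_eq_mul, smul_eq_mul] at e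
    have hp := f.ph_all hm (g⁻¹ * k)
    generalize (ρ (g⁻¹ * k)).1 (b 0) = x at e hp ⊢
    have e1 : 2 * b.repr x 0 * (2 * b.repr x 0) = 4 :=
      mul_left_cancel₀ (pow_ne_zero 2 (mul_ne_zero (mul_ne_zero hl hn) f.q0)) (by linear_combination e)
    have key : ∀ x t j, Co b x (zz t j) → 2 * b.repr x 0 * (2 * b.repr x 0) = 4 → x = b 0 :=
      fun x t j a e1 => by
        rw [a, ← Int.cast_mul] at e1
        rcases zz_zero t j with z | z | ⟨rfl, rfl⟩
        · rw [z] at e1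
          exact absurd (by push_cast at e1; linear_combination -e1) (mul_ne_zero f.two f.two)
        · rw [z] at e1
          exact absurd (by push_cast at e1; linear_combination -e1) h3
        · exact a.uniq f.two (co_b 0) fun _ => rfl
    obtain ⟨t, j, a | a⟩ := hp
    · exact ⟨n / l, by rw [key x t j a e1, smul_smul, div_mul_cancel₀ _ hl]⟩
    · refine ⟨-n / l, ?_⟩
      rw [← key _ t j a (by rw [map_neg, Finsupp.neg_apply, ← e1]; ring), smul_smul, div_mul_cancel₀ _ hl,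
        map_neg, neg_smul, smul_neg, neg_neg]

end Fr

theorem main [IsAlgClosed K] (h : Hy ρ) : FixL ρ ∨ Rig ρ := by
  obtain ⟨c1, c2, c3, c4, c5, c6, -⟩ := c'_facts
  obtain ⟨a1, a2, -⟩ := h.e87 card_A (fun a ha => by
      rcases mem_A ha with rfl | ⟨i, rfl⟩
      exacts [mul_one _, uu i]) c1 (fun a ha => by
      rcases mem_A ha with rfl | ⟨i, rfl⟩
      · rw [mul_one, mul_inv_cancel]; exact one_mem _
      · rw [c2, mul_inv_cancel_right]; exact u_mem _) ⟨u 0, u_mem 0, c3⟩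
  have r1 : rk (ρ w) = 4 :=
    (rk_isConj (isConj_iff.2 ⟨w * u 0, mul_inv_eq_iff_eq_mul.2 wu.2.2⟩)).trans (a1 _ (u_mem 0) (u_ne 0))
  have r2 : rk (ρ (w * c')) = rk (ρ (w * u 0)) :=
    rk_isConj (isConj_iff.2 ⟨c, mul_inv_eq_iff_eq_mul.2 c5⟩)
  by_cases H : rk (ρ (w * c')) = 4 ∨ (3 : K) = 0
  · exact .inl (h.hur1 gen2 ww r1 c4 H (by rwa [← mul_assoc, ww, one_mul]))
  rw [not_or] at H
  have e1 := Nat.even_iff.1 (even_rk h.two (nondeg_Q7 h.two) (h.det (w * c')))
  have e2 := rk_add_fx (ρ (w * c'))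
  have e3 := rk_add_fx (ρ w)
  have e4 : ¬ finrank K (V7 K) < fx (ρ w) + fx (ρ (w * c')) + fx (ρ w * ρ (w * c')) := fun k => by
    obtain ⟨y, y0, y1, y2⟩ := scottO (nondeg_Q7 h.two) _ _ k
    exact y0 (h.fix gen2 (by rintro _ (rfl | rfl); exacts [y1, y2]))
  rw [finrank_V7] at e2 e3 e4
  obtain ⟨b, f⟩ := exists_fr h
  exact .inr (f.rig (f.mat_w (by have := H.1; omega)) H.2)

end L8

variable {K G : Type*} [Field K] [IsAlgClosed K] [Group G] [Finite G] {ρ : G →* G7 K}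
  {E : Type} [Field E] [Fintype E]

omit [IsAlgClosed K] [Finite G] in
theorem Hy.l28_comp {X : Type*} [Group X] (h : Hy ρ) (e : X ≃* G) : Hy (ρ.comp e.toMonoidHom) where
  two := h.two
  simple := haveI := h.simple; e.isSimpleGroup
  ncomm k := h.ncomm ⟨⟨fun a b => by
    obtain ⟨a, rfl⟩ := e.surjective a
    obtain ⟨b, rfl⟩ := e.surjective b
    rw [← map_mul, ← map_mul, k.is_comm.comm]⟩⟩
  inj := h.inj.comp e.injective
  irr W hW := h.irr W fun g => by
    obtain ⟨g, rfl⟩ := e.surjective g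
    exact hW g
  nr := by
    rw [MonoidHom.range_comp, MonoidHom.range_eq_top.2 e.surjective, ← MonoidHom.range_eq_map]
    exact h.nr

omit [IsAlgClosed K] [Finite G] in
theorem l28_eg {X : Type*} [Group X] [Finite X] {σ : X →* G7 K} (e : X ≃* G) (he : ∀ x, ρ (e x) = σ x)
    {v : V7 K} (h : Eg σ v) : Eg ρ v := by
  obtain ⟨q, S, hS⟩ := h
  refine ⟨q, S.mapSurjective (f := e.toMonoidHom) e.surjective, ?_⟩
  rintro _ ⟨s, hs, rfl⟩
  exact (he s).symm ▸ hS s hs

theorem Hy.kL28 (h : Hy ρ) (e : GHE.IL 2 (· = 8) G) : FixL ρ ∨ Rig ρ := by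
  obtain ⟨F, _, _, hF, ⟨e⟩⟩ := e
  obtain ⟨η⟩ := L8.exists_equiv hF e
  have a : ∀ v, Eg (ρ.comp η.toMonoidHom) v ↔ Eg ρ v := fun v =>
    ⟨l28_eg η fun _ => rfl, l28_eg η.symm fun x => congrArg ρ (η.apply_symm_apply x)⟩
  refine (L8.main (h.l28_comp η)).imp ?_ fun r => ⟨?_, fun u v => ?_, fun u v => ?_⟩
  · rintro ⟨y, y0, hy⟩
    refine ⟨y, y0, fun g => ?_⟩
    obtain ⟨g, rfl⟩ := η.surjective g
    exact hy g
  · exact r.ne.imp fun v => (a v).1
  · rw [← a, ← a, ← a]; exact r.ref u v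
  · rw [← a, ← a]; exact r.par u v

end CfsgLib.O7
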