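import Cfsg.Agent.Lib.O7.L2X
import Cfsg.Agent.Lib.O7.Gr
import Cfsg.Agent.Lib.GHE.Defs

/-!
L2C: `L₂(r)` in the defining characteristic.  See `plans/O7B.md`.
-/

set_option autoImplicit false

namespace CfsgLib.O7

open CfsgLib.OrthE CfsgLib.OMax Module QuadraticMap Subgroup Cfsg
open scoped MatrixGroups

variable {K G : Type*} [Field K] [IsAlgClosed K] [Group G] [Finite G] {ρ : G →* G7 K}
  {E : Type} [Field E] [Fintype E]

section

omit [Fintype E]

theorem l2c_u (t : E) : (u2 t).1 = !![1, t; 0, 1] := rfl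

theorem l2c_w : (w2 E).1 = !![0, 1; -1, 0] := rfl

theorem l2c_add (s t : E) : u2 s * u2 t = u2 (s + t) := by
  ext i j; fin_cases i <;> fin_cases j <;> simp [l2c_u, Matrix.mul_apply, Fin.sum_univ_two, add_comm]

theorem l2c_pow (t : E) (n : ℕ) : u2 t ^ n = u2 (n * t) := by
  induction n with
  | zero => ext i j; fin_cases i <;> fin_cases j <;> simp [l2c_u]
  | succ n ih => rw [pow_succ, ih, l2c_add]; congr 1; push_cast; ring

theorem l2c_p (p : ℕ) [CharP E p] (t : E) : u2 t ^ p = 1 := by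
  rw [l2c_pow, CharP.cast_eq_zero, ← Nat.cast_zero, ← l2c_pow, pow_zero]

theorem l2c_winv : ((w2 E)⁻¹).1 = !![0, -1; 1, 0] := by
  rw [Matrix.SpecialLinearGroup.coe_inv, l2c_w, Matrix.adjugate_fin_two_of]; simp

/-- the word for the monomial matrix with entries `s`, `-r` -/
theorem l2c_n {s r : E} (e : s * r = 1) :
    (u2 s * (w2 E * u2 r * (w2 E)⁻¹) * u2 s).1 = !![0, s; -r, 0] := by
  simp only [Matrix.SpecialLinearGroup.coe_mul, l2c_winv, l2c_u, l2c_w]
  ext i j; fin_cases i <;> fin_cases j <;> simp [Matrix.mul_apply, Fin.sum_univ_two] <;>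
    first | linear_combination -e | exact .inl (by linear_combination -e)

theorem l2c_gen {H : Subgroup SL(2, E)} (hw : w2 E ∈ H) (hu : ∀ t, u2 t ∈ H) (g : SL(2, E)) :
    g ∈ H := by
  have key : ∀ g : SL(2, E), g.1 1 0 ≠ 0 → g ∈ H := fun g h0 => by
    have d := g.2
    rw [Matrix.det_fin_two] at d
    have e : -(g.1 1 0)⁻¹ * -(g.1 1 0) = 1 := by field_simp
    have : g = u2 (g.1 0 0 / g.1 1 0) * (u2 (-(g.1 1 0)⁻¹) * (w2 E * u2 (-(g.1 1 0)) * (w2 E)⁻¹) *
        u2 (-(g.1 1 0)⁻¹)) * u2 (g.1 1 1 / g.1 1 0) := by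
      ext i j
      rw [Matrix.SpecialLinearGroup.coe_mul, Matrix.SpecialLinearGroup.coe_mul, l2c_n e]
      fin_cases i <;> fin_cases j <;> simp [l2c_u, Matrix.mul_apply, Fin.sum_univ_two] <;> field_simp
      linear_combination -d
    rw [this]
    exact mul_mem (mul_mem (hu _) (mul_mem (mul_mem (hu _) (mul_mem (mul_mem hw (hu _)) (inv_mem hw)))
      (hu _))) (hu _)
  by_cases h0 : g.1 1 0 = 0
  · refine (mul_mem_cancel_left hw).1 (key _ fun e => ?_)
    have d := g.2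
    rw [Matrix.det_fin_two, h0] at d
    simp [l2c_w, Matrix.mul_apply, Fin.sum_univ_two] at e
    simp [e] at d
  · exact key g h0

end

section

variable {V : Type*} [AddCommGroup V] [Module K V] {Q : QuadraticForm K V} {σ : SL(2, E) →* O Q}
  {v : (Fin 2 → E) → V} {α : E →+* K} {c : K}

omit [IsAlgClosed K] [Fintype E]

theorem l2c_fixv (p : ℕ) [Fact p.Prime] [CharP K p] {g : O Q} (hg : g ^ p = 1) {S : Submodule K V}
    (hS : ∀ w ∈ S, g.1 w ∈ S) {x : V} (hx : x ∈ S) (h0 : x ≠ 0) : ∃ w ∈ S, w ≠ 0 ∧ g.1 w = w := by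
  by_contra! hh
  haveI : Nontrivial V := ⟨⟨x, 0, h0⟩⟩
  haveI : CharP (Module.End K V) p := charP_of_injective_algebraMap (algebraMap K _).injective p
  have h5 : (en g - 1) ^ p = 0 := by
    rw [sub_pow_char_of_commute _ (Commute.one_right _), ← en_pow, hg, en_one, one_pow, sub_self]
  have k : ∀ n : ℕ, ((en g - 1) ^ n : Module.End K V) x ∈ S ∧ ((en g - 1) ^ n : Module.End K V) x ≠ 0 := fun n => by
    induction n with
    | zero => exact ⟨hx, h0⟩
    | succ n ih =>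
      rw [pow_succ']
      exact ⟨sub_mem (hS _ ih.1) ih.1, sub_ne_zero.2 (hh _ ih.1 ih.2)⟩
  exact (k p).2 (by rw [h5]; rfl)

theorem l2c_ext (hQ : Nondeg Q) {f : E → K} (h : HW σ v f) {x y : V}
    (e : ∀ z, polar Q x (v z) = polar Q y (v z)) : x = y := by
  refine sub_eq_zero.1 (hQ _ fun z => ?_)
  have hz : z ∈ Submodule.span K (Set.range v) := h.span ▸ Submodule.mem_top
  induction hz using Submodule.span_induction with
  | mem _ hz => obtain ⟨z, rfl⟩ := hz; rw [polar_sub_left, e, sub_self]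
  | zero => exact polar_zero_right _ _
  | add _ _ _ _ h1 h2 => rw [polar_add_right, h1, h2, add_zero]
  | smul _ _ _ h1 => rw [polar_smul_right, h1, smul_zero]

theorem l2c_poly (h : HW σ v fun d => c * α d ^ 6) (w : V) : ∃ a : Fin 7 → K, ∀ y,
    polar Q w (v y) = ∑ j, a j * α (y 0) ^ (j : ℕ) * α (y 1) ^ (6 - j : ℕ) := by
  have hz : w ∈ Submodule.span K (Set.range v) := h.span ▸ Submodule.mem_top
  induction hz using Submodule.span_induction with
  | mem _ hz =>
    obtain ⟨x, rfl⟩ := hz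
    refine ⟨fun j => c * Nat.choose 6 j * α (x 0) ^ (6 - j : ℕ) * (-α (x 1)) ^ (j : ℕ), fun y => ?_⟩
    rw [h.gram]
    simp [Fin.sum_univ_seven, Nat.choose]
    ring
  | zero => exact ⟨0, fun y => by simp⟩
  | add _ _ _ _ h1 h2 =>
    obtain ⟨a, ha⟩ := h1
    obtain ⟨b, hb⟩ := h2
    exact ⟨a + b, fun y => by simp [ha, hb, add_mul, Finset.sum_add_distrib]⟩
  | smul r _ _ h1 =>
    obtain ⟨a, ha⟩ := h1
    exact ⟨r • a, fun y => by simp [ha, Finset.mul_sum, mul_assoc]⟩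

theorem l2c_m (h : HW σ v fun d => c * α d ^ 6) (s : E) (y : Fin 2 → E) :
    polar Q (v ![s, 0]) (v y) = c * (α s * α (y 1)) ^ 6 := by rw [h.gram]; simp

/-- the fixed space of the unipotent element is the highest weight line -/
theorem l2c_fix (p : ℕ) [CharP K p] (h7 : 7 ≤ p) (hQ : Nondeg Q) (hc : c ≠ 0)
    (h : HW σ v fun d => c * α d ^ 6) {w : V} (hw : (σ (u2 1)).1 w = w) :
    ∃ b : K, w = b • v ![1, 0] := by
  obtain ⟨a, ha⟩ := l2c_poly h w
  have inv : ∀ k : ℕ, polar Q w (v ![k, 1]) = polar Q w (v ![0, 1]) := fun k => by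
    induction k with
    | zero => rw [Nat.cast_zero]
    | succ k ih =>
      rw [← ih, ← O_polar (σ (u2 1)) w (v ![k, 1]), hw, h.equi]
      congr 2
      ext i; fin_cases i <;> simp [l2c_u, Matrix.mulVec, dotProduct, Fin.sum_univ_two]
  have z : a - Pi.single 0 (a 0) = 0 := Matrix.eq_zero_of_forall_index_sum_mul_pow_eq_zero
    (f := fun k : Fin 7 => ((k : ℕ) : K)) (fun i j e => Fin.ext ((CharP.natCast_injOn_Iio K p)
      (Set.mem_Iio.2 (by omega)) (Set.mem_Iio.2 (by omega)) e)) fun k => by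
      have := inv k
      rw [ha, ha] at this
      simp [Fin.sum_univ_seven] at this ⊢
      linear_combination this
  refine ⟨a 0 / c, l2c_ext hQ h fun y => ?_⟩
  rw [polar_smul_left, l2c_m h, ha, sub_eq_zero.1 z]
  simp [Fin.sum_univ_seven]
  field_simp

end

theorem l2c_60 {p : ℕ} (pp : p.Prime) (h7 : 7 ≤ p) : ¬ p ∣ 60 := fun e => by
  rcases (Nat.Prime.dvd_mul pp (m := 4) (n := 15)).1 e with k | k
  · have := Nat.le_of_dvd (by omega) k; omega
  · rcases (Nat.Prime.dvd_mul pp (m := 3) (n := 5)).1 k with k | k <;>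
      have := Nat.le_of_dvd (by omega) k <;> omega

theorem Hy.l2c (h : Hy ρ) {η : SL(2, E) →* G} (c : Cov2 η) (hp : ringChar K = ringChar E) :
    FixL ρ := by
  obtain ⟨p, hE⟩ := CharP.exists E
  have pp : p.Prime := CharP.char_is_prime E p
  haveI := Fact.mk pp
  haveI : CharP K p := ringChar.of_eq (hp.trans (ringChar.eq E p))
  have hQ := nondeg_Q7 h.two
  obtain ⟨h7, α, κ, v, κ0, hw⟩ := gr7 p h.two hQ (ρ.comp η)
    (fun W hW => h.irr W fun g => by obtain ⟨g, rfl⟩ := c.surj g; exact hW g) finrank_V7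
    (by rw [MonoidHom.comp_apply, (c.ker _).2 (.inr rfl), map_one])
  have eq : ∀ g x, (ρ (η g)).1 (v x) = v (Matrix.mulVec g.1 x) := hw.equi
  have po : Odd p := pp.odd_of_ne_two (by omega)
  have up : ∀ t : E, η (u2 t) ^ p = 1 := fun t => by rw [← map_pow, l2c_p, map_one]
  obtain ⟨y, y0, hy⟩ := h.l2h c (fun e => by
    have := Nat.le_of_dvd (by omega) ((CharP.cast_eq_zero_iff E p 3).1 e); omega)
    (.inl ⟨p, 1, pp, CharP.cast_eq_zero K p, by rw [pow_one, up]⟩)
  let H := (closure {η (w2 E), η (u2 1)}).comap η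
  have wH : w2 E ∈ H := subset_closure (.inl rfl)
  have uH : ∀ n : ℕ, u2 (n : E) ∈ H := fun n => by
    rw [← mul_one (n : E), ← l2c_pow]; exact pow_mem (show u2 1 ∈ H from subset_closure (.inr rfl)) n
  have u1 : u2 1 ∈ H := by simpa using uH 1
  set m := v ![1, 0] with hm
  have ann : ∀ g ∈ H, ∀ x, L x y = 0 → L ((ρ (η g)).1 x) y = 0 := fun g hg x e => by
    obtain ⟨s, hs⟩ := h.lift (η g)
    have := hs x y
    rw [e, map_zero] at this
    rcases hy _ hg s hs with k | k <;> rw [k] at this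
    · exact this.symm
    · rw [map_neg] at this; exact neg_eq_zero.1 this.symm
  have mw : polar (Q7 K) m ((ρ (η (w2 E))).1 m) = κ := by
    rw [hm, eq, l2c_m hw]
    simp [l2c_w, Matrix.mulVec, dotProduct, Fin.sum_univ_two]
    ring
  have m0 : m ≠ 0 := fun e => κ0 (by rw [← mw, e, polar_zero_left])
  have Ny : N8 K y ≠ 0 := fun e => by
    obtain ⟨x, x0, hx⟩ := exists_ann e
    obtain ⟨x, hx, x0, e⟩ := l2c_fixv p (g := ρ (η (u2 1))) (by rw [← map_pow, up, map_one])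
      (S := LinearMap.ker (L.flip y)) (ann _ u1) hx x0
    obtain ⟨b, rfl⟩ := l2c_fix p h7 hQ κ0 hw e
    have e1 : L m y = 0 := (smul_eq_zero.1 (((L.flip y).map_smul b m).symm.trans hx)).resolve_left
      (left_ne_zero_of_smul x0)
    have := L_anti m ((ρ (η (w2 E))).1 m) y
    rw [ann _ wH m e1, e1, map_zero, map_zero, add_zero, mw] at this
    exact smul_ne_zero κ0 y0 this.symm
  have z0 : L m y ≠ 0 := fun e => m0 (L_eq_zero Ny e)
  have mm : ∀ x, L m (L m x) = 0 := fun x => by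
    have := l2c_m hw 1 ![1, 0]
    rw [polar_self] at this
    rw [L_L, (smul_eq_zero.1 (show (2 : K) • Q7 K m = 0 by simpa using this)).resolve_left h.two, zero_smul]
  have um : ∀ t, (ρ (η (u2 t))).1 m = m := fun t => (hw.equi (u2 t) _).trans (congrArg v (by
    ext i; fin_cases i <;> simp [l2c_u, Matrix.mulVec, dotProduct, Fin.sum_univ_two]))
  obtain ⟨s₁, l₁, o₁⟩ := h.spb_odd po (up 1)
  have f₁ : s₁.1 y = y := (hy _ u1 _ l₁).resolve_right fun e => by
    have k : ∀ n, (s₁ ^ n).1 y = (-1 : K) ^ n • y := fun n => by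
      induction n with
      | zero => simp [O_one_apply]
      | succ n ih => rw [pow_succ, O_mul_apply, e, map_neg, ih, pow_succ, mul_neg_one, neg_smul]
    have := k p
    rw [o₁, po.neg_one_pow, O_one_apply, neg_one_smul] at this
    exact smul_ne_zero h.two y0 (by rw [two_smul]; exact add_eq_zero_iff_eq_neg.2 this)
  obtain ⟨n, hn⟩ := po
  have e2 : (2 : ℕ) * ((n + 1 : ℕ) : E) = 1 := by
    have := CharP.cast_eq_zero E p
    rw [hn] at this
    push_cast at this ⊢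
    linear_combination this
  obtain ⟨d, dH, hd⟩ : ∃ d ∈ H, d.1 = !![((2 : ℕ) : E), 0; 0, ((n + 1 : ℕ) : E)] :=
    ⟨_, mul_mem (mul_mem (mul_mem (uH 2) (mul_mem (mul_mem wH (uH (n + 1))) (inv_mem wH))) (uH 2))
      (inv_mem wH), by
      rw [Matrix.SpecialLinearGroup.coe_mul, l2c_n e2, l2c_winv]
      ext i j; fin_cases i <;> fin_cases j <;> simp [Matrix.mul_apply, Fin.sum_univ_two]⟩
  have dm : (ρ (η d)).1 m = (64 : K) • m := by
    rw [hm, eq, hd, show Matrix.mulVec _ _ = ![((2 : ℕ) : E), 0] by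
      ext i; fin_cases i <;> simp [Matrix.mulVec, dotProduct, Fin.sum_univ_two]]
    refine l2c_ext hQ hw fun x => ?_
    rw [polar_smul_left, l2c_m hw, l2c_m hw, map_natCast, map_one, smul_eq_mul]
    push_cast; ring
  have du : ∀ t : E, d * u2 t = u2 t ^ 4 * d := fun t => by
    ext i j
    rw [l2c_pow, Matrix.SpecialLinearGroup.coe_mul, Matrix.SpecialLinearGroup.coe_mul, hd]
    push_cast at e2
    fin_cases i <;> fin_cases j <;> simp [l2c_u, Matrix.mul_apply, Fin.sum_univ_two]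
    linear_combination -2 * t * e2
  obtain ⟨sd, ld⟩ := h.lift (η d)
  obtain ⟨ε, ε0, hε⟩ : ∃ ε : K, ε ≠ 0 ∧ sd.1 y = ε • y := by
    rcases hy _ dH sd ld with k | k
    exacts [⟨1, one_ne_zero, by rw [k, one_smul]⟩, ⟨-1, by simp, by rw [k, neg_one_smul]⟩]
  refine fixL_of_gen h.two (S := {η (w2 E)} ∪ Set.range fun t => η (u2 t)) (eq_top_iff.2 fun g _ => ?_)
    y0 ?_
  · obtain ⟨g, rfl⟩ := c.surj g
    exact l2c_gen (H := (closure ({η (w2 E)} ∪ Set.range fun t => η (u2 t))).comap η)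
      (subset_closure (.inl rfl)) (fun t => subset_closure (.inr ⟨t, rfl⟩)) g
  rintro _ (rfl | ⟨t, rfl⟩)
  · obtain ⟨s, hs⟩ := h.lift (η (w2 E))
    rcases hy _ wH s hs with k | k
    exacts [⟨s, hs, 1, by rw [k, one_smul]⟩, ⟨s, hs, -1, by rw [k, neg_one_smul]⟩]
  obtain ⟨s, ls, os⟩ := h.spb_odd ⟨n, hn⟩ (up t)
  have c1 : s * s₁ * s⁻¹ = s₁ := Lf.odd_uniq h.two (by
      have := (ls.mul l₁).mul ls.inv
      rwa [← map_mul, ← map_mul, l2c_add, add_comm, ← l2c_add, map_mul, map_mul,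
        mul_inv_cancel_right] at this) l₁ ⟨n, hn⟩ (by rw [conj_pow, o₁, mul_one, mul_inv_cancel]) o₁
  have c2 : sd * s * sd⁻¹ = s ^ 4 := Lf.odd_uniq h.two (by
      have := (ld.mul ls).mul ld.inv
      rwa [← map_mul, ← map_mul, du, map_mul, map_mul, mul_inv_cancel_right, map_pow, map_pow] at this)
    (ls.pow 4) ⟨n, hn⟩ (by rw [conj_pow, os, mul_one, mul_inv_cancel])
    (by rw [← pow_mul, mul_comm, pow_mul, os, one_pow])
  obtain ⟨a, x, e⟩ := exists_L h.two Ny (s.1 y)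
  obtain ⟨b, rfl⟩ : ∃ b : K, x = b • m := l2c_fix p h7 hQ κ0 hw (sub_eq_zero.1 (L_eq_zero Ny (by
    have k : s₁.1 (s.1 y) = s.1 y := by
      rw [← O_mul_apply, ← mul_inv_eq_iff_eq_mul.1 c1, O_mul_apply, f₁]
    rw [e, map_add, map_smul, l₁, f₁] at k
    rw [map_sub, LinearMap.sub_apply]
    exact sub_eq_zero.2 (add_left_cancel k))))
  rw [map_smul, LinearMap.smul_apply] at e
  have ez : s.1 (L m y) = a • L m y := by
    rw [ls, um, e, map_add, map_smul, map_smul, mm, smul_zero, add_zero]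
  have a0 : a ≠ 0 := fun k => O_apply_ne_zero s z0 (by rw [ez, k, zero_smul])
  have k1 : sd.1 (s.1 y) = s.1 (s.1 (s.1 (s.1 (sd.1 y)))) :=
    congrArg (fun g : G8 K => g.1 y) (mul_inv_eq_iff_eq_mul.1 c2)
  rw [e, map_add, map_smul, map_smul, ld, dm, hε] at k1
  simp only [map_add, map_smul, LinearMap.smul_apply, e, ez] at k1
  have k2 : (ε * a * (1 - a ^ 3)) • y + (ε * b * (64 - 4 * a ^ 3)) • L m y = 0 := by
    linear_combination (norm := module) k1
  have k3 := congrArg (L m) k2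
  rw [map_add, map_smul, map_smul, mm, smul_zero, add_zero, map_zero] at k3
  have k4 := (smul_eq_zero.1 k3).resolve_right z0
  rw [k4, zero_smul, zero_add] at k2
  have k5 := (mul_eq_zero.1 k4).resolve_left (mul_ne_zero ε0 a0)
  have k6 : (60 : K) ≠ 0 := fun e => l2c_60 pp h7 ((CharP.cast_eq_zero_iff K p 60).1 e)
  have k7 : b = 0 := mul_left_cancel₀ (mul_ne_zero k6 ε0) (by
    linear_combination (smul_eq_zero.1 k2).resolve_right z0 - 4 * ε * b * k5)
  exact ⟨s, ls, a, by rw [e, k7, zero_smul, add_zero]⟩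

theorem Hy.kL2 (h : Hy ρ) (e : GHE.IL 2 (fun q => Odd q ∧ 5 ≤ q) G) : FixL ρ := by
  obtain ⟨E, _, _, ⟨ho, h5⟩, ⟨e⟩⟩ := e
  obtain ⟨η, c⟩ := exists_cov2 ho h5 e
  by_cases hp : ringChar K = ringChar E
  exacts [h.l2c c hp, h.l2x c hp]

end CfsgLib.O7
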