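import Cfsg.Agent.Lib.O7.Tool
import Cfsg.Agent.Lib.Symp.Basic
import Cfsg.Agent.Lib.Classical.SmallIso

/-!
K43, first part: `PSp₄(3)` is generated by two elements `a, b` with `a, b, a b` of order five.  See `plans/O7B.md`.
-/

set_option autoImplicit false

namespace CfsgLib.O7

open CfsgLib.OrthE CfsgLib.OMax Module QuadraticMap Subgroup Cfsg Matrix CfsgLib.Symp
open scoped MatrixGroups

namespace K43a

abbrev Sp3 : Type := symplecticGroup (Fin 2) (ZMod 3)

/-- the two generators -/
def gn (x : Bool) : Sp3 := cond x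
  ⟨fromBlocks !![2, 2; 2, 0] !![2, 0; 0, 2] !![1, 1; 1, 0] !![1, 2; 2, 2], by
    rw [SymplecticGroup.mem_iff]; decide +kernel⟩
  ⟨fromBlocks !![2, 2; 2, 2] !![2, 1; 0, 0] !![2, 1; 2, 0] !![0, 0; 1, 1], by
    rw [SymplecticGroup.mem_iff]; decide +kernel⟩

def tb (T n : ℕ) : ℕ := Nat.land (Nat.shiftRight T (Nat.mul 7 n)) 127

/-- the action on the numbers of the vectors -/
def pn (x : Bool) (n : ℕ) : ℕ := tb (cond x 0x2a033511484d44ba7abc650481229c2e69f9f1edd907949e428110101870c080a76cc14b564a1a33a5632d1af92859c0e7a62d1cd8e78b98916ca43493c660c4424dcb41731600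
  0x3e12c6404590cd1b4300bae763d4ce021d34b287a30c68e11412abdc904f3c108493091f8e35ab678299490aaa21838192cd268228e66dde8b61281ab8464ea37e596ba22a2800) n

def dp (n : ℕ) : ℕ := tb 0x108183830a183860c142830a1830608083040c143870c1c28506143050c103810e083060e1c20606182060a182060a0c1860a142040a1c2860e143060a082820610304081c000 n

def vec (n : ℕ) : Fin 2 ⊕ Fin 2 → ZMod 3 := Sum.elim ![(n : ZMod 3), (n / 3 : ℕ)] ![((n / 9 : ℕ) : ZMod 3), (n / 27 : ℕ)]

theorem pn_ok : ∀ x, ∀ n < 81, pn x n < 81 ∧ gn x • vec n = vec (pn x n) := by decide +kernel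

theorem exists_vec (w : Fin 2 ⊕ Fin 2 → ZMod 3) : ∃ n < 81, vec n = w := by
  have k : ∀ a b c d : ZMod 3, a.val + 3 * b.val + 9 * c.val + 27 * d.val < 81 ∧
      vec (a.val + 3 * b.val + 9 * c.val + 27 * d.val) = Sum.elim ![a, b] ![c, d] := by decide +kernel
  refine ⟨_, (k (w (.inl 0)) (w (.inl 1)) (w (.inr 0)) (w (.inr 1))).1, (k _ _ _ _).2.trans (funext fun i => ?_)⟩
  rcases i with i | i <;> fin_cases i <;> rfl

def wd (l : List Bool) : Sp3 := (l.map gn).prod
def act (l : List Bool) (n : ℕ) : ℕ := l.foldr pn n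

theorem act_ok (l : List Bool) (n : ℕ) (hn : n < 81) : act l n < 81 ∧ wd l • vec n = vec (act l n) := by
  induction l with
  | nil => exact ⟨hn, one_smul _ _⟩
  | cons x l ih =>
    refine ⟨(pn_ok x _ ih.1).1, ?_⟩
    rw [wd, List.map_cons, List.prod_cons, mul_smul, ← wd, ih.2]
    exact (pn_ok x _ ih.1).2

theorem wd_eq {l l' : List Bool} (h : ∀ n < 81, act l n = act l' n) : wd l = wd l' := sp_ext fun v => by
  obtain ⟨n, hn, rfl⟩ := exists_vec v
  rw [(act_ok l n hn).2, (act_ok l' n hn).2, h n hn]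

theorem wd_append (l l' : List Bool) : wd (l ++ l') = wd l * wd l' := by rw [wd, List.map_append, List.prod_append]; rfl

theorem wd_mem (l : List Bool) : wd l ∈ Subgroup.closure {gn true, gn false} := Subgroup.list_prod_mem _ fun x hx => by
  obtain ⟨b, -, rfl⟩ := List.mem_map.1 hx
  cases b <;> exact Subgroup.subset_closure (by simp)

theorem five (l c : List Bool) (h : (∀ n < 81, act (l ++ l ++ l ++ l ++ l) n = act [] n) ∧
    ∀ n < 81, act (c ++ l) n = act (l ++ l ++ c) n) : wd l ^ 5 = 1 ∧ IsConj (wd l) (wd l ^ 2) := by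
  have h1 := wd_eq h.1
  have h2 := wd_eq h.2
  simp only [wd_append] at h1 h2
  exact ⟨by rw [← show wd [] = 1 from rfl, ← h1]; simp only [pow_succ, pow_zero, one_mul],
    isConj_iff.2 ⟨wd c, by rw [h2, mul_inv_cancel_right, pow_two]⟩⟩

theorem gen : Subgroup.closure {gn true, gn false} = ⊤ := by
  have h0 : spT (vec 1) 1 = wd [true, true, false, true, true, true, true, false, true, true] := sp_ext fun v => by
    obtain ⟨n, hn, rfl⟩ := exists_vec v
    rw [(act_ok _ n hn).2]
    revert n
    decide +kernel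
  have h1 : ∀ n < 81, n = 0 ∨ n = 1 ∨ ∃ m < 81, dp m < dp n ∧ ∃ x, pn x m = n := by decide +kernel
  have h2 : ∀ k n, n < 81 → dp n < k → spT (vec n) 1 ∈ Subgroup.closure {gn true, gn false} := fun k => by
    induction k with
    | zero => exact fun n _ h => absurd h (Nat.not_lt_zero _)
    | succ k ih =>
      intro n hn h
      rcases h1 n hn with rfl | rfl | ⟨m, hm, e, x, rfl⟩
      · rw [show vec 0 = 0 by decide +kernel, spT_zero_left]; exact one_mem _
      · exact h0 ▸ wd_mem _
      · have g : gn x ∈ Subgroup.closure {gn true, gn false} := by cases x <;> exact Subgroup.subset_closure (by simp)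
        rw [← (pn_ok x m hm).2, ← conj_spT]
        exact mul_mem (mul_mem g (ih m hm (by omega))) (inv_mem g)
  refine eq_top_of_spT_mem _ fun w c _ => ?_
  obtain ⟨n, hn, rfl⟩ := exists_vec w
  have k := h2 _ n hn (Nat.lt_succ_self _)
  rcases (by decide : ∀ c : ZMod 3, c = 0 ∨ c = 1 ∨ c = 1 + 1) c with rfl | rfl | rfl
  · rw [spT_zero]; exact one_mem _
  · exact k
  · rw [spT_add]; exact mul_mem k k

theorem fa : gn true ^ 5 = 1 ∧ IsConj (gn true) (gn true ^ 2) := by
  simpa [wd] using five [true] [false, false, false, true, false, true, true, false, true, false, true, true, true, false] (by decide +kernel)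

theorem fb : gn false ^ 5 = 1 ∧ IsConj (gn false) (gn false ^ 2) := by
  simpa [wd] using five [false] [true, false, false, true, false, true, false, false, false, true, true, false, true, false, true] (by decide +kernel)

theorem fab : (gn true * gn false) ^ 5 = 1 ∧ IsConj (gn true * gn false) ((gn true * gn false) ^ 2) := by
  simpa [wd] using five [true, false] [false, true, false, true, false, false, false, true, true] (by decide +kernel)

end K43a

variable {K G : Type*} [Field K] [IsAlgClosed K] [Group G] [Finite G] {ρ : G →* G7 K}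
  {E : Type} [Field E] [Fintype E]

open K43a in
theorem Hy.k43s (h : Hy ρ) (hE : Fintype.card E = 3) (e : G ≃* PSp 2 E) : False := by
  let e' : PSp 2 (ZMod 3) ≃* PSp 2 E := Classical.centerQuotEquiv (Classical.spMapEquiv
    (FiniteField.ringEquivOfCardEq (K := ZMod 3) (by rw [hE, ZMod.card])))
  let f : Sp3 →* G := (e'.trans e.symm).toMonoidHom.comp (QuotientGroup.mk' _)
  have hf : Function.Surjective f := (e'.trans e.symm).surjective.comp (QuotientGroup.mk'_surjective _)
  have k : ∀ x : Sp3, x ^ 5 = 1 ∧ IsConj x (x ^ 2) → 3 ≤ fx (ρ (f x)) := fun x hx =>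
    h.fx_five (by rw [← map_pow, hx.1, map_one]) (by rw [← map_pow]; exact f.map_isConj hx.2)
  refine h.sc3 (a := f (gn true)) (b := f (gn false)) ?_ (k _ fa) (k _ fb) (map_mul f _ _ ▸ k _ fab)
  rw [← Set.image_pair, ← MonoidHom.map_closure, gen, map_top_of_surjective f hf]

end CfsgLib.O7
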