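import Cfsg.Agent.Lib.O7.Tool
import Cfsg.Agent.Lib.Classical.SmallIso

/-!
K43L: `L₄(3)` is `(2,5,5)`-generated.  See `plans/O7B.md`.
-/

set_option autoImplicit false
set_option Elab.async false

namespace CfsgLib.O7

open CfsgLib.OrthE CfsgLib.OMax Module QuadraticMap Subgroup Cfsg
open scoped MatrixGroups

namespace K43l

abbrev L4 := SL(4, ZMod 3)

def a : L4 := ⟨!![0, 2, 2, 2; 1, 1, 2, 2; 0, 2, 2, 1; 1, 0, 2, 0], by decide +kernel⟩
def b : L4 := ⟨!![0, 0, 0, 2; 1, 0, 0, 2; 0, 1, 0, 2; 0, 0, 1, 2], by decide +kernel⟩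
def c : L4 := ⟨!![0, 1, 1, 0; 1, 1, 2, 0; 2, 1, 0, 1; 0, 2, 0, 2], by decide +kernel⟩
def d : L4 := ⟨!![2, 0, 2, 0; 2, 0, 0, 0; 1, 2, 2, 1; 1, 0, 1, 2], by decide +kernel⟩

theorem facts : a * a = 1 ∧ b ^ 5 = 1 ∧ (a * b) ^ 5 = 1 ∧ c * b = b ^ 2 * c ∧
    d * (a * b) = (a * b) ^ 2 * d := by
  decide +kernel

def wd (l : List ℕ) : L4 := (l.map fun k => a * b ^ k).prod

theorem words : ∀ (i j : Fin 4) (h : i ≠ j), Matrix.SpecialLinearGroup.transvection h (1 : ZMod 3) ∈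
    [wd [2, 3, 4, 2, 3, 4, 2, 3, 3, 1] * a, a * wd [2, 1, 4, 2, 1, 2, 3, 3, 4, 1, 4],
      a * wd [4, 2, 2, 3, 3, 2, 4, 2, 4, 2, 1, 2, 2] * a, wd [1, 3, 1, 2, 3, 1, 4, 3, 3, 4, 3, 4] * a,
      a * wd [4, 2, 3, 4, 1, 3, 1, 4, 3, 1, 1], wd [3, 2, 3, 4, 3, 4, 2, 2, 4, 1, 2, 1],
      wd [3, 4, 1, 3, 2, 4, 3, 4, 1, 3, 2, 4], a * wd [3, 4, 1, 2, 2, 3, 4, 3, 1, 4, 1],
      wd [2, 2, 3, 4, 1, 3, 1, 4, 3, 1, 3] * a, wd [3, 3, 3, 4, 3, 2, 4, 1, 2, 4, 2, 3, 3],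
      a * wd [1, 4, 2, 1, 4, 2, 4, 1, 2, 3, 4], wd [4, 3, 2, 1, 2, 3, 3, 4] * a] := by
  decide +kernel

theorem gen : Subgroup.closure {a, b} = (⊤ : Subgroup L4) := by
  have ha : a ∈ Subgroup.closure {a, b} := Subgroup.subset_closure (by simp)
  have hb : b ∈ Subgroup.closure {a, b} := Subgroup.subset_closure (by simp)
  have hw : ∀ l, wd l ∈ Subgroup.closure {a, b} := fun l => list_prod_mem fun x hx => by
    obtain ⟨k, -, rfl⟩ := List.mem_map.1 hx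
    exact mul_mem ha (pow_mem hb k)
  rw [eq_top_iff, ← Classical.sl_closure_transvection_of_addClosure (ι := Fin 4) ({1} : Set (ZMod 3))
    (Classical.zmod_addClosure_one 3), closure_le]
  rintro _ ⟨i, j, hij, c, rfl, rfl⟩
  have := words i j hij
  simp only [List.mem_cons, List.not_mem_nil, or_false] at this
  rcases this with e | e | e | e | e | e | e | e | e | e | e | e <;> rw [e]
  exacts [mul_mem (hw _) ha, mul_mem ha (hw _), mul_mem (mul_mem ha (hw _)) ha, mul_mem (hw _) ha,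
    mul_mem ha (hw _), hw _, hw _, mul_mem ha (hw _), mul_mem (hw _) ha, hw _, mul_mem ha (hw _),
    mul_mem (hw _) ha]

end K43l

variable {K G : Type*} [Field K] [IsAlgClosed K] [Group G] [Finite G] {ρ : G →* G7 K}
  {E : Type} [Field E] [Fintype E]

open K43l in
theorem Hy.k43l (h : Hy ρ) (hE : Fintype.card E = 3) (e : G ≃* PSL(4, E)) : False := by
  let f : ZMod 3 ≃+* E := FiniteField.ringEquivOfCardEq ((ZMod.card 3).trans hE.symm)
  let φ : PSL(4, ZMod 3) ≃* G := (Classical.pslMapEquiv f).trans e.symm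
  let η : L4 →* G := φ.toMonoidHom.comp (QuotientGroup.mk' _)
  have hη : Function.Surjective η := φ.surjective.comp (QuotientGroup.mk'_surjective _)
  obtain ⟨f1, f2, f3, f4, f5⟩ := facts
  have cj : ∀ {g x : L4}, g * x = x ^ 2 * g → IsConj (η x) (η x ^ 2) := fun {g x} k =>
    isConj_iff.2 ⟨η g, by rw [← map_mul, k, map_mul, map_pow, mul_inv_cancel_right]⟩
  refine h.sc3 (a := η a) (b := η b) ?_ (h.fx_two (by rw [← map_mul, f1, map_one]))
    (h.fx_five (by rw [← map_pow, f2, map_one]) (cj f4)) ?_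
  · have := congrArg (Subgroup.map η) gen
    rwa [MonoidHom.map_closure, Set.image_pair, ← MonoidHom.range_eq_map, MonoidHom.range_eq_top.2 hη] at this
  · rw [← map_mul]
    exact h.fx_five (by rw [← map_pow, f3, map_one]) (cj f5)

end CfsgLib.O7
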