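import Cfsg.Agent.Lib.O7.A4L
import Cfsg.Agent.Lib.A10S.RU43F

/-!
K43U: `U₄(3)` contains `A₄ × A₄` with conjugate elements of order three.  See `plans/O7B.md`.
-/

set_option autoImplicit false

namespace CfsgLib.O7

open CfsgLib.OrthE CfsgLib.OMax Module QuadraticMap Subgroup Cfsg
open scoped MatrixGroups

namespace K43u
open Matrix CfsgLib.Classical CfsgLib.Unitary CfsgLib.A10S.U4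

/-- the matrices `z₁, z₂, σ, u, x, a, b` -/
def ms : Fin 7 → M4 := ![
  !![⟨1, 0⟩, ⟨0, 0⟩, ⟨0, 0⟩, ⟨0, 0⟩; ⟨0, 0⟩, ⟨1, 0⟩, ⟨0, 0⟩, ⟨0, 0⟩; ⟨0, 0⟩, ⟨0, 0⟩, ⟨2, 0⟩, ⟨0, 0⟩; ⟨0, 0⟩, ⟨0, 0⟩, ⟨0, 0⟩, ⟨2, 0⟩],
  !![⟨0, 0⟩, ⟨0, 0⟩, ⟨0, 2⟩, ⟨0, 0⟩; ⟨0, 0⟩, ⟨0, 0⟩, ⟨0, 0⟩, ⟨0, 2⟩; ⟨0, 1⟩, ⟨0, 0⟩, ⟨0, 0⟩, ⟨0, 0⟩; ⟨0, 0⟩, ⟨0, 1⟩, ⟨0, 0⟩, ⟨0, 0⟩],
  !![⟨1, 1⟩, ⟨0, 0⟩, ⟨1, 1⟩, ⟨0, 0⟩; ⟨0, 0⟩, ⟨1, 1⟩, ⟨0, 0⟩, ⟨1, 1⟩; ⟨2, 1⟩, ⟨0, 0⟩, ⟨1, 2⟩, ⟨0, 0⟩; ⟨0, 0⟩, ⟨2, 1⟩, ⟨0, 0⟩, ⟨1, 2⟩],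
  !![⟨1, 0⟩, ⟨0, 0⟩, ⟨0, 0⟩, ⟨0, 0⟩; ⟨0, 0⟩, ⟨0, 0⟩, ⟨0, 1⟩, ⟨0, 0⟩; ⟨0, 0⟩, ⟨1, 0⟩, ⟨0, 0⟩, ⟨0, 0⟩; ⟨0, 0⟩, ⟨0, 0⟩, ⟨0, 0⟩, ⟨0, 1⟩],
  !![⟨1, 1⟩, ⟨1, 2⟩, ⟨0, 0⟩, ⟨0, 0⟩; ⟨2, 2⟩, ⟨1, 2⟩, ⟨0, 0⟩, ⟨0, 0⟩; ⟨0, 0⟩, ⟨0, 0⟩, ⟨1, 1⟩, ⟨1, 2⟩; ⟨0, 0⟩, ⟨0, 0⟩, ⟨2, 2⟩, ⟨1, 2⟩],
  !![⟨1, 0⟩, ⟨0, 0⟩, ⟨0, 0⟩, ⟨0, 0⟩; ⟨0, 0⟩, ⟨1, 0⟩, ⟨0, 0⟩, ⟨0, 0⟩; ⟨0, 0⟩, ⟨0, 0⟩, ⟨0, 1⟩, ⟨0, 0⟩; ⟨0, 0⟩, ⟨0, 0⟩, ⟨0, 0⟩, ⟨0, 2⟩],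
  !![⟨1, 0⟩, ⟨0, 0⟩, ⟨0, 0⟩, ⟨0, 0⟩; ⟨0, 0⟩, ⟨1, 0⟩, ⟨0, 0⟩, ⟨0, 0⟩; ⟨0, 0⟩, ⟨0, 0⟩, ⟨0, 0⟩, ⟨1, 0⟩; ⟨0, 0⟩, ⟨0, 0⟩, ⟨2, 0⟩, ⟨0, 0⟩]]

theorem ms_mem : ∀ k, (ms k).det = 1 ∧ (ms k)ᵀ * (ms k).map (fun t => t * t * t) = 1 := by
  intro k
  rw [Matrix.det_succ_row_zero]
  simp only [Matrix.det_fin_three]
  revert k
  decide +kernel

theorem ms_rel : (∀ c : GF9, ms 0 ≠ c • 1) ∧ ms 0 * ms 0 = 1 ∧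
    ms 1 * ms 0 = (⟨2, 0⟩ : GF9) • (ms 0 * ms 1) ∧ ms 2 * ms 0 = ms 1 * ms 2 ∧
    ms 0 * ms 1 * ms 2 = (⟨0, 2⟩ : GF9) • (ms 2 * ms 1) ∧ ms 2 * ms 2 * ms 2 = 1 ∧
    ms 4 * ms 0 = ms 0 * ms 4 ∧ ms 4 * ms 2 = ms 2 * ms 4 ∧ ms 3 * ms 2 = ms 4 * ms 3 ∧
    ms 5 * ms 5 = ms 0 ∧ ms 6 * ms 6 = ms 0 ∧ ms 5 * ms 6 = ms 0 * (ms 6 * ms 5) := by
  decide +kernel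

/-- the elements of `SU₄(3)` -/
def gs (k : Fin 7) : SU 4 GF9 3 := mk (ms k) (ms_mem k)

theorem eqv {g h : SU 4 GF9 3} (e : co g = co h) :
    (QuotientGroup.mk g : PSU 4 GF9 3) = QuotientGroup.mk h :=
  congrArg _ (Subtype.ext (Subtype.ext e))

theorem eqs {g h : SU 4 GF9 3} {c : GF9} (e : co h = c • co g) :
    (QuotientGroup.mk g : PSU 4 GF9 3) = QuotientGroup.mk h :=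
  (psu_mk_eq_mk_iff Cfsg.Agent.S5513.hGF9 (by norm_num) g h).2 ⟨c, e⟩

theorem main : ∃ p : Fin 7 → PSU 4 GF9 3, p 0 ≠ 1 ∧ p 0 * p 0 = 1 ∧ p 0 * p 1 = p 1 * p 0 ∧
    p 2 * p 0 = p 1 * p 2 ∧ p 2 * p 1 = p 0 * p 1 * p 2 ∧ p 2 * p 2 * p 2 = 1 ∧
    p 4 * p 0 = p 0 * p 4 ∧ p 4 * p 2 = p 2 * p 4 ∧ p 3 * p 2 = p 4 * p 3 ∧
    p 5 * p 5 = p 0 ∧ p 6 * p 6 = p 0 ∧ p 5 * p 6 = p 0 * (p 6 * p 5) := by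
  obtain ⟨r0, r1, r2, r3, r4, r5, r6, r7, r8, r9, r10, r11⟩ := ms_rel
  refine ⟨fun k => QuotientGroup.mk (gs k), fun e => ?_, eqv (g := gs 0 * gs 0) (h := 1) r1,
    eqs (g := gs 0 * gs 1) (h := gs 1 * gs 0) r2, eqv (g := gs 2 * gs 0) (h := gs 1 * gs 2) r3,
    eqs (g := gs 2 * gs 1) (h := gs 0 * gs 1 * gs 2) r4, eqv (g := gs 2 * gs 2 * gs 2) (h := 1) r5,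
    eqv (g := gs 4 * gs 0) (h := gs 0 * gs 4) r6, eqv (g := gs 4 * gs 2) (h := gs 2 * gs 4) r7,
    eqv (g := gs 3 * gs 2) (h := gs 4 * gs 3) r8, eqv (g := gs 5 * gs 5) (h := gs 0) r9,
    eqv (g := gs 6 * gs 6) (h := gs 0) r10, eqv (g := gs 5 * gs 6) (h := gs 0 * (gs 6 * gs 5)) r11⟩
  obtain ⟨c, hc⟩ := (one_iff _).1 e
  exact r0 c hc

end K43u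

variable {K G : Type*} [Field K] [IsAlgClosed K] [Group G] [Finite G] {ρ : G →* G7 K}
  {E : Type} [Field E] [Fintype E]

theorem Hy.kU43 (h : Hy ρ) (hE : Fintype.card E = 3 ^ 2) (e : G ≃* PSU 4 E 3) : False := by
  obtain ⟨f⟩ := A10S.U43.equiv (X := G) ⟨E, _, _, hE, ⟨e⟩⟩
  obtain ⟨p, r0, r1, r2, r3, r4, r5, r6, r7, r8, r9, r10, r11⟩ := K43u.main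
  have n0 : f.symm (p 0) ≠ 1 := by rwa [Ne, map_eq_one_iff _ f.symm.injective]
  have s0 : f.symm (p 0) * f.symm (p 0) = 1 := by rw [← map_mul, r1, map_one]
  refine h.a4X (z₁ := f.symm (p 0)) (z₂ := f.symm (p 1)) (σ := f.symm (p 2)) (x := f.symm (p 4))
    ⟨n0, s0, ?_, ?_, ?_, ?_⟩
    (h.q8 (a := f.symm (p 5)) (b := f.symm (p 6)) n0 ?_ ?_ s0 ?_) ?_ ?_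
    (isConj_iff.2 ⟨f.symm (p 3), ?_⟩)
  · rw [← map_mul, r2, map_mul]
  · rw [mul_inv_eq_iff_eq_mul, ← map_mul, r3, map_mul]
  · rw [mul_inv_eq_iff_eq_mul, ← map_mul, r4, map_mul, map_mul]
  · rw [pow_three', ← map_mul, ← map_mul, r5, map_one]
  · rw [← map_mul, r9]
  · rw [← map_mul, r10]
  · rw [← map_mul, r11, map_mul, map_mul]
  · rw [← map_mul, r6, map_mul]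
  · rw [← map_mul, r7, map_mul]
  · rw [mul_inv_eq_iff_eq_mul, ← map_mul, r8, map_mul]

end CfsgLib.O7
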