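import Cfsg.Agent.Lib.O7.Tool
import Cfsg.Agent.Lib.O7.KG23a
import Cfsg.Prelude.Def_LieTwisted

/-!
KG23: `G₂(3)` in characteristic three.  See `plans/O7B.md`.
-/

set_option autoImplicit false

namespace CfsgLib.O7

open CfsgLib.OrthE CfsgLib.OMax Module QuadraticMap Subgroup Cfsg
open scoped MatrixGroups

variable {K G : Type*} [Field K] [IsAlgClosed K] [Group G] [Finite G] {ρ : G →* G7 K}
  {E : Type} [Field E] [Fintype E]

theorem Hy.kG23 (h : Hy ρ) (h3 : (3 : K) = 0) (hE : Fintype.card E = 3)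
    (e : G ≃* Lie.chevG2.group E) : FixL ρ := by
  obtain ⟨f⟩ := KG23.exists_equiv hE e
  obtain ⟨f1, f2, f3, f4, f5, f6, f7, f8⟩ := KG23.facts
  have ha : f KG23.a * f KG23.a = 1 := by rw [← map_mul, f2, map_one]
  refine h.hur (a := f KG23.a) (b := f KG23.b) ?_ ha
    (h.q8 (a := f KG23.i) (b := f KG23.j) (fun e => f1 (f.map_eq_one_iff.1 e)) (by rw [← map_mul, f6])
      (by rw [← map_mul, f7]) ha (by rw [← map_mul, f8, map_mul, map_mul]))
    (by rw [← map_pow, f3, map_one]) (Or.inr h3) (Or.inr (Or.inr ⟨by rw [← map_mul, ← map_pow, f4, map_one], ?_⟩))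
  · have := congrArg (Subgroup.map f.toMonoidHom) KG23.gen
    rwa [MonoidHom.map_closure, Set.image_pair, map_top_of_surjective _ f.surjective] at this
  · rw [← map_mul, ← map_pow]
    exact f.toMonoidHom.map_isConj f5

end CfsgLib.O7
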