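import Cfsg.Agent.Lib.O7.Tool
import Cfsg.Agent.Lib.LieModel.U33.Iso
import Cfsg.Agent.Lib.Comput.Transfer2
import Cfsg.Agent.S2089

/-!
KU33: `U₃(3)` in any odd characteristic.  The group is generated by two conjugate elements of order three
lying in an `A₄` whose product has order seven; Scott's lemma on the spin module, `4 + 4 + 2 > 8`.
-/

set_option autoImplicit false

namespace CfsgLib.O7

open CfsgLib.OrthE CfsgLib.OMax Module QuadraticMap Subgroup Cfsg
open scoped MatrixGroups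

variable {K G : Type*} [Field K] [IsAlgClosed K] [Group G] [Finite G] {ρ : G →* G7 K}
  {E : Type} [Field E] [Fintype E]

set_option maxRecDepth 100000 in
open CfsgLib.Comput CfsgLib.LieModel.U33 in
theorem ku33_chk : allL (eqChk (stepT 28 5 P.W) (idTab 28 5)) [(List.replicate 3 0x3030203, []),
    ([0x20303030301, 0x20303030301], []),
    ([0x20303030301, 0x10104040204040103], [0x10104040204040103, 0x20303030301]),
    ([0x3030203, 0x20303030301], [0x10104040204040103, 0x3030203]),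
    ([0x3030203, 0x10104040204040103], [0x20303030301, 0x10104040204040103, 0x3030203]),
    ([0x103020402, 0x3030203], [0x30203, 0x103020402]),
    ([0x3030203030203], [0x3030203, 0x30203]), (List.replicate 7 0x3030203030203, []),
    ([0x2030104040401, 0x3030203030203], List.replicate 2 0x3030203030203 ++ [0x2030104040401]),
    ([3], [0x3030203, 0x30203, 0x30203]), ([1], [0x3030203, 0x30203, 3])] = true := by decide +kernel

omit [Finite G] in
open CfsgLib.Comput CfsgLib.LieModel.U33 in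
theorem ku33_gen (hE : Fintype.card E = 3 ^ 2) (e : G ≃* PSU 3 E 3) : ∃ z₁ z₂ a b k u : G,
    A4 z₁ z₂ a ∧ k * a * k⁻¹ = b ∧ (a * b) ^ 7 = 1 ∧ u * (a * b) * u⁻¹ = (a * b) ^ 2 ∧ closure {a, b} = ⊤ := by
  let f := e.trans (iso hE).some
  have hm : ∀ m, permG 28 P.W m ∈ PG := permG_mem (P.inA_top P.E) (by decide +kernel)
  let _ := pullAct f
  have M := SM.pull f P.W_ok hm (by norm_num)
  have R := (WM.pull f P.W_ok hm (k := 5) (by norm_num)).allHold ku33_chk
  simp only [AllHold, List.mem_cons, List.not_mem_nil, or_false, forall_eq_or_imp, forall_eq,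
    Eqn.Holds, evL_append, evL_replicate, evL_nil, evL_one, evL_two, evL_three] at R
  obtain ⟨r1, r2, r3, r4, r5, r6, r7, r8, r9, r10, r11⟩ := R
  rw [r7] at r8 r9
  refine ⟨_, _, _, _, _, _, ⟨fun k => M.smul_pt_ne (w := 0x20303030301) (a := 0) (by norm_num) (by decide +kernel) (by rw [k, one_smul]),
    r2, r3, mul_inv_eq_iff_eq_mul.2 r4, mul_inv_eq_iff_eq_mul.2 r5, r1⟩, mul_inv_eq_iff_eq_mul.2 r6, r8,
    mul_inv_eq_iff_eq_mul.2 r9, eq_top_iff.2 ((cl_pull_top f hm (ws := P.top) le_rfl).ge.trans (cl_le.2 ?_))⟩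
  have ha : ev (pullG f hm) 0x3030203 ∈ closure {ev (pullG f hm) 0x3030203, ev (pullG f hm) 0x30203} :=
    subset_closure (.inl rfl)
  have hb : ev (pullG f hm) 0x30203 ∈ closure {ev (pullG f hm) 0x3030203, ev (pullG f hm) 0x30203} :=
    subset_closure (.inr rfl)
  have h3 := r10 ▸ mul_mem (mul_mem ha hb) hb
  simp only [P.top, List.forall_mem_cons]
  exact ⟨r11 ▸ mul_mem (mul_mem ha hb) h3, h3, List.forall_mem_nil _⟩

theorem Hy.kU33 (h : Hy ρ) (hE : Fintype.card E = 3 ^ 2) (e : G ≃* PSU 3 E 3) : FixL ρ := by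
  obtain ⟨z₁, z₂, a, b, k, u, a4, hk, h7, hu, hg⟩ := ku33_gen hE e
  obtain ⟨ψ, hψ⟩ := h.split e (by decide) (Cfsg.Agent.S2089.result 3 3 hE le_rfl (by decide) (by decide))
  obtain ⟨h4, d0, f0, -⟩ := h.a4O hψ a4
  have k1 := (Lf.inv4 h.two (by rw [← map_mul, a4.sq, map_one]) h4 (hψ z₁)).2
  have k2 := rk_add_fx (ψ z₁)
  rw [finrank_Oc] at k2
  have k3 := (a4l_gen h.two ψ a4 (by omega)).2.2.2.2.1
  rw [inf_eq_right.2 fun y hy => a4l_ker.2 (f0 y hy), d0] at k3
  have k4 : fx (ψ b) = fx (ψ a) := by rw [← hk, map_mul, map_mul, map_inv, fx_conj]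
  have k5 : 2 ≤ fx (ψ (a * b)) := by
    have e7 : ψ (a * b) ^ 7 = 1 := by rw [← map_pow, h7, map_one]
    by_cases c : (7 : K) = 0
    · have := Fact.mk (by norm_num : Nat.Prime 7)
      have : CharP K 7 := (CharP.charP_iff_prime_eq_zero this.out).2 (by exact_mod_cast c)
      exact fx_unip h.two nondeg_N8 (by rw [finrank_Oc]; decide) (by rw [finrank_Oc]; decide) 7 (k := 1) e7
    · obtain ⟨m, hm⟩ := six_dvd nondeg_N8 (c := ψ u) (.inl ⟨c, e7, by
        rw [← map_inv, ← map_mul, ← map_mul, hu, map_pow]⟩)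
      have := rk_add_fx (ψ (a * b))
      rw [finrank_Oc] at this
      omega
  obtain ⟨y, y0, y1, y2⟩ := scottO nondeg_N8 (ψ a) (ψ b) (by rw [finrank_Oc, ← map_mul]; omega)
  refine fixL_of_gen h.two hg y0 ?_
  rintro g (rfl | rfl)
  exacts [⟨_, hψ _, 1, by rw [y1, one_smul]⟩, ⟨_, hψ _, 1, by rw [y2, one_smul]⟩]

end CfsgLib.O7
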