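import Cfsg.Agent.Lib.O7.Tool
import Cfsg.Agent.Lib.SL2.Basic

/-!
L2W: weights in `L₂(r)`, `r` odd.  See `plans/O7B.md`.
-/

set_option autoImplicit false
set_option linter.unusedSectionVars false

namespace CfsgLib.O7

open CfsgLib.OrthE CfsgLib.OMax Module QuadraticMap Subgroup Cfsg
open CfsgLib.SL2 (uu ll dg ww mk2 ext2 mul_ap inv_00 inv_01 inv_10 inv_11 one_00 one_01 one_10 one_11 neg_ap
  det_eq)
open scoped MatrixGroups

variable {K G : Type*} [Field K] [IsAlgClosed K] [Group G] [Finite G] {ρ : G →* G7 K}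
  {E : Type} [Field E] [Fintype E]

/-- the upper unitriangular matrix -/
def u2 (t : E) : SL(2, E) := ⟨!![1, t; 0, 1], by simp⟩

/-- the Weyl element -/
def w2 (E : Type) [Field E] : SL(2, E) := ⟨!![0, 1; -1, 0], by simp⟩

/-- `η : SL₂(E) → G` is onto with kernel `±1` -/
structure Cov2 (η : SL(2, E) →* G) : Prop where
  odd : Odd (Fintype.card E)
  five : 5 ≤ Fintype.card E
  surj : Function.Surjective η
  ker : ∀ g, η g = 1 ↔ g = 1 ∨ g = -1

theorem exists_cov2 (ho : Odd (Fintype.card E)) (h5 : 5 ≤ Fintype.card E) (e : G ≃* PSL(2, E)) :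
    ∃ η : SL(2, E) →* G, Cov2 η := by
  refine ⟨e.symm.toMonoidHom.comp (QuotientGroup.mk' _), ho, h5,
    e.symm.surjective.comp (QuotientGroup.mk'_surjective _), fun g => ?_⟩
  rw [← SL2.mem_center_iff, ← QuotientGroup.eq_one_iff]
  exact e.symm.map_eq_one_iff

theorem l2w_ul {M : Subgroup SL(2, E)} (hu : ∀ b, uu b ∈ M) (hl : ∀ c, ll c ∈ M) : M = ⊤ := by
  have key : ∀ g : SL(2, E), g 1 0 ≠ 0 → g ∈ M := fun g h => by
    have hd := det_eq g
    have : g = uu ((g 0 0 - 1) / g 1 0) * ll (g 1 0) * uu ((g 1 1 - 1) / g 1 0) := by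
      apply ext2 <;> simp only [mul_ap, SL2.uu_00, SL2.uu_01, SL2.uu_10, SL2.uu_11, SL2.ll_00,
        SL2.ll_01, SL2.ll_10, SL2.ll_11]
      · field_simp; ring
      · field_simp; linear_combination -hd
      · ring
      · field_simp; ring
    rw [this]
    exact M.mul_mem (M.mul_mem (hu _) (hl _)) (hu _)
  rw [eq_top_iff]
  intro g _
  by_cases h : g 1 0 = 0
  · have h0 : g 0 0 ≠ 0 := fun h0 => by simpa [h, h0] using det_eq g
    have := M.mul_mem (M.inv_mem (hl 1)) (key (ll 1 * g) (by simp [mul_ap, h, h0]))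
    rwa [inv_mul_cancel_left] at this
  · exact key g h

theorem l2w_top (h2 : (2 : E) ≠ 0) {M : Subgroup SL(2, E)} (hw : ww ∈ M) (hd : ∀ a, dg a ∈ M)
    {g : SL(2, E)} (hg : g ∈ M) (h10 : g 1 0 = 0) (h01 : g 0 1 ≠ 0) : M = ⊤ := by
  have d := det_eq g
  rw [h10, mul_zero, sub_zero] at d
  have t0 : g 1 1 * g 0 1 ≠ 0 := mul_ne_zero (right_ne_zero_of_mul_eq_one d) h01
  have h1 : uu (g 1 1 * g 0 1) ∈ M := by
    have := M.mul_mem (hd (Units.mkOfMulEqOne (g 0 0) (g 1 1) d)⁻¹) hg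
    convert this using 1
    apply ext2 <;> simp [mul_ap, h10, Units.mkOfMulEqOne, d, mul_comm]
  generalize g 1 1 * g 0 1 = t at t0 h1
  have h3 : ∀ s, uu (s * s * t) ∈ M := fun s => by
    by_cases s0 : s = 0
    · rw [s0, zero_mul, zero_mul, SL2.uu_zero]; exact M.one_mem
    · have := M.mul_mem (M.mul_mem (hd (Units.mk0 s s0)) h1) (hd (Units.mk0 s s0)⁻¹)
      convert this using 1
      apply ext2 <;> simp [mul_ap, s0]
      ring
  have h4 : ∀ b, uu b ∈ M := fun b => by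
    have := M.mul_mem (h3 ((b / t + 1) / 2)) (M.inv_mem (h3 ((b / t - 1) / 2)))
    rw [← SL2.uu_neg, ← SL2.uu_add] at this
    convert this using 2
    field_simp
    ring
  refine l2w_ul h4 fun c => ?_
  have := M.mul_mem (M.mul_mem hw (h4 (-c))) (M.inv_mem hw)
  convert this using 1
  apply ext2 <;> simp [mul_ap, inv_00, inv_01, inv_10, inv_11]

/-- `SL₂(E)` is generated by three elements of trace zero -/
theorem l2w_gen (h2 : (2 : E) ≠ 0) (h5 : 5 ≤ Fintype.card E) :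
    ∃ b c : SL(2, E), SL2.tr b = 0 ∧ SL2.tr c = 0 ∧ closure {ww, b, c} = ⊤ := by
  classical
  obtain ⟨l, hl⟩ := IsCyclic.exists_generator (α := Eˣ)
  have k : ∀ c : SL(2, E), (ww : SL(2, E)) ∈ closure {ww, ww * dg l, c} ∧
      c ∈ closure {ww, ww * dg l, c} ∧ ∀ a, dg a ∈ closure {ww, ww * dg l, c} := fun c => by
    have k1 : (ww : SL(2, E)) ∈ closure {ww, ww * dg l, c} := subset_closure (by simp)
    refine ⟨k1, subset_closure (by simp), fun a => ?_⟩
    obtain ⟨n, rfl⟩ := hl a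
    have k2 : dg l ∈ closure {ww, ww * dg l, c} :=
      (mul_mem_cancel_left k1).1 (subset_closure (by simp))
    rw [show dg ((fun x => l ^ x) n) = dg l ^ n from map_zpow SL2.dgHom l n]
    exact zpow_mem k2 n
  have tb : SL2.tr (ww * dg l : SL(2, E)) = 0 := by simp [SL2.tr_def, mul_ap]
  by_cases hi : ∃ i : E, i * i = -1
  · obtain ⟨i, hi⟩ := hi
    obtain ⟨k1, k2, k3⟩ := k (mk2 i 1 0 (-i) (by linear_combination -hi))
    exact ⟨_, _, tb, by simp [SL2.tr_def], l2w_top h2 k1 k3 k2 rfl one_ne_zero⟩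
  obtain ⟨r, hr⟩ : ∃ r : E, r ∉ ({0, 1, -1} : Finset E) := by
    by_contra H
    push Not at H
    have := (Finset.card_le_card (s := Finset.univ) fun r _ => H r).trans Finset.card_le_three
    rw [Finset.card_univ] at this
    omega
  simp only [Finset.mem_insert, Finset.mem_singleton, not_or] at hr
  obtain ⟨μ, x, μ0, hx⟩ : ∃ μ x : E, μ ≠ 0 ∧ x * x * (μ * μ) = 1 + x * x := by
    have r1 : r * r - 1 ≠ 0 := fun e => by
      rcases mul_self_eq_one_iff.1 (sub_eq_zero.1 e) with e | e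
      exacts [hr.2.1 e, hr.2.2 e]
    have ha := mul_inv_cancel₀ r1
    have hb := mul_inv_cancel₀ (mul_ne_zero h2 hr.1)
    refine ⟨(r * r + 1) * (2 * r)⁻¹, 2 * r * (r * r - 1)⁻¹, mul_ne_zero (fun e => hi ⟨r, ?_⟩)
      (inv_ne_zero (mul_ne_zero h2 hr.1)), ?_⟩
    · linear_combination e
    · generalize (r * r - 1)⁻¹ = a at ha
      generalize (2 * r)⁻¹ = b at hb
      linear_combination a * a * (r * r + 1) ^ 2 * (2 * r * b + 1) * hb + ((r * r - 1) * a + 1) * ha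
  have hμ := mul_inv_cancel₀ μ0
  obtain ⟨k1, k2, k3⟩ := k (mk2 x (-(1 + x * x)) 1 (-x) (by ring))
  refine ⟨_, _, tb, by simp [SL2.tr_def], l2w_top h2 k1 k3
    (mul_mem k1 (mul_mem (mul_mem k2 (k3 (Units.mk0 μ μ0))) (inv_mem k2))) ?_ ?_⟩
  all_goals
    simp only [mul_ap, inv_00, inv_01, inv_10, inv_11, SL2.mk2_00, SL2.mk2_01, SL2.mk2_10, SL2.mk2_11,
      SL2.ww_00, SL2.ww_01, SL2.ww_10, SL2.ww_11, SL2.dg_00, SL2.dg_01, SL2.dg_10, SL2.dg_11,
      Units.val_inv_eq_inv_val, Units.val_mk0]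
  · linear_combination (-μ⁻¹) * hx + x * x * μ * hμ
  · intro e
    have x0 : x ≠ 0 := fun e => by simp [e] at hx
    have e1 : (μ * μ - 1) * (μ * μ + 1) = 0 := mul_left_cancel₀ (mul_ne_zero x0 x0) (by
      linear_combination μ * μ * hx - μ * e + x * x * hμ)
    rcases mul_eq_zero.1 e1 with e2 | e2
    · exact one_ne_zero (α := E) (by linear_combination x * x * e2 - hx)
    · exact hi ⟨μ, by linear_combination e2⟩

theorem l2w_cube {g : SL(2, E)} (h : SL2.tr g = 1) : g ^ 3 = -1 := by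
  have d := det_eq g
  rw [SL2.tr_def] at h
  rw [pow_succ, pow_two]
  apply ext2 <;> simp only [mul_ap, neg_ap, one_00, one_01, one_10, one_11]
  · linear_combination (g 0 0 * (g 0 0 + g 1 1 + 1) - 1) * h - (2 * g 0 0 + g 1 1) * d
  · linear_combination g 0 1 * (g 0 0 + g 1 1 + 1) * h - g 0 1 * d
  · linear_combination g 1 0 * (g 0 0 + g 1 1 + 1) * h - g 1 0 * d
  · linear_combination (g 1 1 * (g 0 0 + g 1 1 + 1) - 1) * h - (2 * g 1 1 + g 0 0) * d

theorem l2w_tr3 {g : SL(2, E)} (hg : ¬ SL2.IsScal g) (h : SL2.IsScal (g ^ 3)) :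
    SL2.tr g = 1 ∨ SL2.tr g = -1 := by
  have d := det_eq g
  rw [pow_succ, pow_two] at h
  obtain ⟨h1, h2, h3⟩ := h
  simp only [mul_ap] at h1 h2 h3
  rw [← mul_self_eq_one_iff, ← sub_eq_zero, SL2.tr_def]
  by_contra e
  exact hg ⟨mul_left_cancel₀ e (by linear_combination h1 + g 0 1 * d),
    mul_left_cancel₀ e (by linear_combination h2 + g 1 0 * d),
    mul_left_cancel₀ e (by linear_combination h3 + (g 0 0 - g 1 1) * d)⟩

variable {η : SL(2, E) →* G}

theorem Cov2.two (c : Cov2 η) : (2 : E) ≠ 0 := SL2.two_ne_zero_of_odd c.odd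

theorem Cov2.neg_one (c : Cov2 η) : η (-1) = 1 := (c.ker _).2 (.inr rfl)

theorem Cov2.neg (c : Cov2 η) (g : SL(2, E)) : η (-g) = η g := by
  rw [← neg_one_mul, map_mul, c.neg_one, one_mul]

theorem Cov2.scal (c : Cov2 η) {g : SL(2, E)} : η g = 1 ↔ SL2.IsScal g :=
  (c.ker g).trans (SL2.isScal_iff g).symm

theorem Cov2.ww_ne (c : Cov2 η) : η ww ≠ 1 := fun e => by simpa using (c.scal.1 e).2.1

theorem Cov2.ww_sq (c : Cov2 η) : η ww * η ww = 1 := by
  rw [← map_mul, c.scal]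
  refine ⟨?_, ?_, ?_⟩ <;> simp [mul_ap]

theorem Cov2.conj0 (c : Cov2 η) {g : SL(2, E)} (h : SL2.tr g = 0) : IsConj (η ww) (η g) := by
  have e : SL2.tr (ww : SL(2, E)) = 0 := by simp [SL2.tr_def]
  exact η.map_isConj (SL2.isConj_of_tr_eq (by
    rw [e]; exact fun k => mul_ne_zero c.two c.two (by linear_combination -k)) (e.trans h.symm))

theorem Cov2.a4' (c : Cov2 η) : ∃ z σ : SL(2, E), SL2.tr σ = 1 ∧ A4 (η ww) (η z) (η σ) := by
  have h2 := c.two
  obtain ⟨s, t, hst⟩ := SL2.exists_binary_form_eq (1 : E) 0 1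
    (fun k => mul_ne_zero h2 h2 (by linear_combination -k)) (-1)
  obtain ⟨u, hu⟩ : ∃ u : E, 2 * u = 1 := ⟨2⁻¹, mul_inv_cancel₀ h2⟩
  let J : SL(2, E) := mk2 s t t (-s) (by linear_combination -hst)
  let σ : SL(2, E) := mk2 (u * (1 + s - t)) (u * (-1 + t + s)) (u * (1 + t + s)) (u * (1 - s + t))
    (by linear_combination (2 * u + 1) * hu - 2 * u * u * hst)
  have t1 : SL2.tr σ = 1 := by
    simp only [SL2.tr_def, σ, SL2.mk2_00, SL2.mk2_11]
    linear_combination hu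
  have e1 : σ * ww = J * σ := by
    apply ext2 <;> simp [mul_ap, σ, J]
    all_goals first | ring1 | linear_combination u * hst | linear_combination (-u) * hst
  have e2 : σ * J = ww * J * σ := by
    apply ext2 <;> simp [mul_ap, σ, J]
    all_goals ring1
  have e3 : ww * J = -(J * ww) := by
    apply ext2 <;> simp [mul_ap, J, neg_ap]
  refine ⟨J, σ, t1, c.ww_ne, c.ww_sq, ?_, ?_, ?_, ?_⟩
  · rw [← map_mul, e3, c.neg, map_mul]
  · rw [← map_mul, e1, map_mul, mul_inv_cancel_right]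
  · rw [← map_mul, e2, map_mul, mul_inv_cancel_right, map_mul]
  · rw [← map_pow, l2w_cube t1, c.neg_one]

theorem Hy.l2w (h : Hy ρ) (c : Cov2 η) {t : G} (h1 : t ≠ 1) (ht : t * t = 1) : rk (ρ t) = 4 := by
  obtain ⟨g, rfl⟩ := c.surj t
  obtain ⟨x, y, hx, hy, e⟩ := l2w_gen c.two c.five
  rw [← rk_isConj (c.conj0 (SL2.sq_eq_neg_one_of_isScal_sq (fun k => h1 (c.scal.2 k))
    (c.scal.1 (by rw [map_mul, ht]))).1)]
  refine h.w4 ?_ c.ww_ne c.ww_sq (c.conj0 hx) (c.conj0 hy)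
  rw [← Set.image_singleton, ← Set.image_insert_eq, ← Set.image_insert_eq, ← MonoidHom.map_closure, e,
    map_top_of_surjective _ c.surj]

theorem Cov2.a4 (c : Cov2 η) : ∃ z₁ z₂ σ : G, A4 z₁ z₂ σ := by
  obtain ⟨z, σ, -, a⟩ := c.a4'
  exact ⟨_, _, _, a⟩

theorem Hy.l2b (h : Hy ρ) (c : Cov2 η) (h3 : (3 : E) ≠ 0) {b : G} (h1 : b ≠ 1) (hb : b ^ 3 = 1) :
    rk (ρ b) = 4 := by
  obtain ⟨z, σ, t1, a⟩ := c.a4'
  have k : ∀ g, SL2.tr g = 1 → rk (ρ (η g)) = 4 := fun g hg => by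
    rw [← rk_isConj (η.map_isConj (SL2.isConj_of_tr_eq (by
      rw [t1]; exact fun k => h3 (by linear_combination -k)) (t1.trans hg.symm)))]
    exact (h.a4V a (h.l2w c a.ne a.sq)).1
  obtain ⟨g, rfl⟩ := c.surj b
  rcases l2w_tr3 (fun k => h1 (c.scal.2 k)) (c.scal.1 (by rw [map_pow, hb])) with e | e
  · exact k g e
  · rw [← c.neg]
    exact k _ (by rw [SL2.tr_neg, e, neg_neg])

/-- the lifts of the prime field subgroup fix a spinor up to sign -/
theorem Hy.l2h (h : Hy ρ) (c : Cov2 η) (h3 : (3 : E) ≠ 0) (hc : Third K (η (u2 1))) :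
    ∃ y, y ≠ 0 ∧ ∀ g ∈ closure {η (w2 E), η (u2 1)}, ∀ s, Lf (ρ g) s → s.1 y = y ∨ s.1 y = -y := by
  rw [show u2 (1 : E) = uu 1 from rfl] at hc ⊢
  have e0 : w2 E = -ww := by apply ext2 <;> simp [w2, neg_ap]
  have e1 : η (w2 E) = η ww := by rw [e0, c.neg]
  have t1 : SL2.tr (ww * uu 1 : SL(2, E)) = 1 := by simp [SL2.tr_def, mul_ap]
  have b3 : η (ww * uu 1) ^ 3 = 1 := by rw [← map_pow, l2w_cube t1, c.neg_one]
  have e2 : η ww * η (ww * uu 1) = η (uu 1) := by rw [map_mul, ← mul_assoc, c.ww_sq, one_mul]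
  obtain ⟨y, y0, hy⟩ := h.hur0 c.ww_sq (h.l2w c c.ww_ne c.ww_sq) b3 (.inl (h.l2b c h3 (fun e => by
    simpa [mul_ap] using (c.scal.1 e).2.1) b3)) (e2 ▸ hc)
  refine ⟨y, y0, fun g hg => hy g ((closure_le _).2 ?_ hg)⟩
  rw [e1, ← e2]
  rintro _ (rfl | rfl)
  · exact subset_closure (by simp)
  · exact mul_mem (subset_closure (by simp)) (subset_closure (by simp))

end CfsgLib.O7
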