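import Cfsg.Agent.Lib.O7.L2W
import Cfsg.Agent.Lib.ZStar.Main

/-!
L2X: `L₂(r)` in cross characteristic.  See `plans/O7B.md`.
-/

set_option autoImplicit false
set_option linter.unusedSectionVars false

namespace CfsgLib.O7

open CfsgLib.OrthE CfsgLib.OMax Module QuadraticMap Subgroup Cfsg
open scoped MatrixGroups

variable {K G : Type*} [Field K] [IsAlgClosed K] [Group G] [Finite G] {ρ : G →* G7 K}
  {E : Type} [Field E] [Fintype E]

variable {η : SL(2, E) →* G}

theorem l2x_mul (a b : E) : u2 a * u2 b = u2 (a + b) := (SL2.uu_add a b).symm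

theorem l2x_inv (a : E) : (u2 a)⁻¹ = u2 (-a) := (SL2.uu_neg a).symm

theorem l2x_pow (a : E) (n : ℕ) : u2 a ^ n = u2 (n * a) := by
  induction n with
  | zero => rw [pow_zero, Nat.cast_zero, zero_mul]; exact SL2.uu_zero.symm
  | succ n ih => rw [pow_succ, ih, l2x_mul, Nat.cast_succ, add_one_mul]

theorem l2x_one {n : ℕ} (hE : Fintype.card E = n) : η (u2 1) ^ n = 1 := by
  rw [← map_pow, l2x_pow, ← hE, FiniteField.cast_card_eq_zero, zero_mul]
  exact (congrArg η SL2.uu_zero).trans (map_one η)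

theorem l2x_conj {s : E} (hs : s ≠ 0) {k : ℕ} (e : s * s = k) : IsConj (η (u2 1)) (η (u2 1) ^ k) := by
  refine isConj_iff.2 ⟨η (SL2.dg (Units.mk0 s hs)), ?_⟩
  rw [← map_pow, l2x_pow, ← e, ← map_inv, ← map_mul, ← map_mul, mul_inv_eq_iff_eq_mul.2]
  change _ * SL2.uu _ = SL2.uu _ * _
  apply SL2.ext2 <;> simp [SL2.mul_ap, hs]

theorem l2x_char {p : ℕ} (hp : p.Prime) (h : ringChar K ≠ ringChar E) (hE : (p : E) = 0) : (p : K) ≠ 0 :=
  fun e => h ((CharP.ringChar_of_prime_eq_zero hp e).trans (CharP.ringChar_of_prime_eq_zero hp hE).symm)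

theorem l2x_two (h : Odd (Fintype.card E)) : (2 : E) ≠ 0 := fun e => by
  have := FiniteField.even_card_of_char_two (F := E) (CharP.ringChar_of_prime_eq_zero Nat.prime_two e)
  rw [Nat.odd_iff] at h
  omega

theorem Cov2.l2x_ne (c : Cov2 η) {g : SL(2, E)} (hg : g 0 1 ≠ 0) : η g ≠ 1 := fun e => by
  rcases (c.ker g).1 e with rfl | rfl
  · exact hg rfl
  · exact hg (by rw [SL2.neg_ap, SL2.one_01, neg_zero])

theorem Cov2.l2x_neg (c : Cov2 η) (g : SL(2, E)) : η (-g) = η g := by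
  rw [← neg_one_mul, map_mul, (c.ker _).2 (.inr rfl), one_mul]

theorem Cov2.l2x_gen (c : Cov2 η) {p : ℕ} (hp : p.Prime) (hE : Fintype.card E = p) :
    closure {η (w2 E), η (u2 1)} = ⊤ := by
  have := Fact.mk hp
  set H := (closure {η (w2 E), η (u2 1)}).comap η with hH
  have hw : w2 E ∈ H := subset_closure (.inl rfl)
  have hu : ∀ t : E, u2 t ∈ H := fun t => by
    obtain ⟨x, rfl⟩ := (ZMod.ringEquivOfPrime E hp hE).surjective t
    rw [← ZMod.natCast_zmod_val x, map_natCast, ← mul_one (x.val : E), ← l2x_pow]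
    exact pow_mem (show u2 1 ∈ H from subset_closure (.inr rfl)) _
  have h1 := Dickson.sl_eq_top_of_uu_ll H hu fun t => by
    rw [show SL2.ll t = w2 E * u2 (-t) * (w2 E)⁻¹ from eq_mul_inv_of_mul_eq (by
      change _ * SL2.mk2 0 1 (-1) 0 (by ring) = SL2.mk2 0 1 (-1) 0 (by ring) * SL2.uu _
      apply SL2.ext2 <;> simp [SL2.mul_ap])]
    exact mul_mem (mul_mem hw (hu _)) (inv_mem hw)
  refine eq_top_iff.2 fun g _ => ?_
  obtain ⟨x, rfl⟩ := c.surj g
  exact (h1 ▸ mem_top x : x ∈ H)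

theorem Hy.l2x_idx (h : Hy ρ) {H : Subgroup G} {v : V7 K} (h0 : v ≠ 0) (hv : ∀ g ∈ H, (ρ g).1 v = v) :
    7 ≤ H.index := by
  have := Fintype.ofFinite (G ⧸ H)
  have h1 := finrank_range_le_card (R := K) fun q : G ⧸ H => (ρ q.out).1 v
  have h2 : ∀ g, (ρ g).1 v ∈ Submodule.span K (Set.range fun q : G ⧸ H => (ρ q.out).1 v) := fun g => by
    obtain ⟨k, e⟩ := QuotientGroup.mk_out_eq_mul H g
    exact Submodule.subset_span ⟨(g : G ⧸ H), by simp only [e, map_mul, O_mul_apply, hv k k.2]⟩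
  rcases h.irr (Submodule.span K (Set.range fun q : G ⧸ H => (ρ q.out).1 v)) (fun g w hw => by
    induction hw using Submodule.span_induction with
    | mem x hx =>
      obtain ⟨q, rfl⟩ := hx
      rw [← O_mul_apply, ← map_mul]
      exact h2 _
    | zero => rw [map_zero]; exact Submodule.zero_mem _
    | add x y _ _ hx hy => rw [map_add]; exact Submodule.add_mem _ hx hy
    | smul a x _ hx => rw [map_smul]; exact Submodule.smul_mem _ a hx) with e | e
  · have := h2 1
    rw [e, map_one, O_one_apply] at this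
    exact absurd this h0
  · rwa [Set.finrank, e, finrank_top, finrank_V7, ← Nat.card_eq_fintype_card] at h1

theorem Hy.l2_5 (h : Hy ρ) (c : Cov2 η) (hE : Fintype.card E = 5) : False := by
  obtain ⟨z₁, z₂, σ, a⟩ := c.a4
  obtain ⟨-, h1, h2, -⟩ := h.a4V a (h.l2w c a.ne a.sq)
  obtain ⟨v, hv, h0⟩ := Submodule.exists_mem_ne_zero_of_ne_bot (p := J2 (ρ z₁) (ρ z₂) 1 1)
    (fun e => by rw [e, finrank_bot] at h1; exact zero_ne_one h1)
  let H : Subgroup G :=
    { carrier := {g | (ρ g).1 v = v}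
      one_mem' := by simp only [Set.mem_ofPred_eq, map_one, O_one_apply]
      mul_mem' := fun {a b} (ha : _ = _) (hb : _ = _) => by
        simp only [Set.mem_ofPred_eq, map_mul, O_mul_apply, ha, hb]
      inv_mem' := fun {a} (ha : _ = _) => by
        rw [Set.mem_ofPred_eq, map_inv]; exact O_inv_apply_eq _ ha }
  have h3 := h.l2x_idx (H := H) h0 fun g hg => hg
  have m1 : z₁ ∈ H := (mem_J2.1 hv).1.trans (one_smul K v)
  have m2 : z₂ ∈ H := (mem_J2.1 hv).2.trans (one_smul K v)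
  have n1 : z₁ ≠ z₂ := fun e => a.ne (by
    have := a.c₂
    rw [← e, a.c₁, a.sq] at this
    exact e.trans this)
  have n2 : z₂ ≠ 1 := fun e => a.ne (by simpa using a.c₁.trans e)
  have n3 : σ ≠ 1 := fun e => n1 (by simpa [e] using a.c₁)
  have := Fact.mk Nat.prime_three
  have d4 := ZStar.four_dvd_card_of_commute (G := H) (s := ⟨z₁, m1⟩) (t := ⟨z₂, m2⟩)
    (by rw [orderOf_mk]; exact orderOf_eq_prime (by rw [pow_two, a.sq]) a.ne)
    (by rw [orderOf_mk]; exact orderOf_eq_prime (by rw [pow_two, a.sq2]) n2)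
    (fun e => n1 (congrArg Subtype.val e)) (Subtype.ext a.comm)
  have d3 := orderOf_dvd_natCard H (show σ ∈ H from h2 v hv)
  rw [orderOf_eq_prime a.cube n3] at d3
  have d12 := Nat.le_of_dvd Nat.card_pos (Nat.Coprime.mul_dvd_of_dvd_of_dvd (by norm_num) d4 d3)
  have k1 := η.ker.card_mul_index
  rw [index_ker, MonoidHom.range_eq_top.2 c.surj, card_top, SL2.card_SL2, hE, ← H.card_mul_index] at k1
  have k2 : 1 < Nat.card η.ker := (one_lt_card_iff_ne_bot _).2 fun e =>
    SL2.neg_one_ne_one (F := E) (l2x_two c.odd) (mem_bot.1 (e ▸ (c.ker _).2 (.inr rfl)))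
  have := Nat.mul_le_mul k2 (Nat.mul_le_mul d12 h3)
  omega

theorem Hy.l2x_nine (h : Hy ρ) (c : Cov2 η) (h3 : (3 : E) = 0) {t : E} (ht : t ≠ 0) : rk (ρ (η (u2 t))) = 4 := by
  obtain ⟨s, hs⟩ : ∃ s, t * s = 1 := ⟨_, mul_inv_cancel₀ ht⟩
  let w : SL(2, E) := SL2.mk2 0 t (-s) 0 (by linear_combination hs)
  let x : SL(2, E) := SL2.mk2 (-1) (-t) (-s) 1 (by linear_combination -hs - h3)
  have e : w * w = -1 ∧ x * w = -(w * x) ∧ SL2.uu t * w = x * SL2.uu t ∧ SL2.uu t * x = -(w * x) * SL2.uu t := by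
    refine ⟨?_, ?_, ?_, ?_⟩ <;> apply SL2.ext2 <;>
      simp only [w, x, SL2.mul_ap, SL2.neg_ap, SL2.one_00, SL2.one_01, SL2.one_10, SL2.one_11, SL2.mk2_00, SL2.mk2_01,
        SL2.mk2_10, SL2.mk2_11, SL2.uu_00, SL2.uu_01, SL2.uu_10, SL2.uu_11] <;> grind
  have a : A4 (η w) (η x) (η (u2 t)) :=
    ⟨c.l2x_ne ht, by rw [← map_mul, e.1, c.l2x_neg, map_one], by rw [← map_mul, ← map_mul, e.2.1, c.l2x_neg],
      mul_inv_eq_iff_eq_mul.2 (by rw [← map_mul, ← map_mul]; exact congrArg η e.2.2.1),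
      mul_inv_eq_iff_eq_mul.2 (by rw [← map_mul, ← map_mul, ← c.l2x_neg (w * x), ← map_mul]; exact congrArg η e.2.2.2),
      by rw [← map_pow, l2x_pow, Nat.cast_ofNat, h3, zero_mul]; exact (congrArg η SL2.uu_zero).trans (map_one η)⟩
  exact (h.a4V a (h.l2w c a.ne a.sq)).1

theorem Hy.l2_9 (h : Hy ρ) (c : Cov2 η) (hE : Fintype.card E = 9) (h3 : (3 : K) ≠ 0) : False := by
  classical
  have e3 : (3 : E) = 0 := (pow_eq_zero_iff two_ne_zero).1 (by
    have := FiniteField.cast_card_eq_zero E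
    rw [hE] at this
    rw [← this]
    norm_num)
  obtain ⟨γ, -, hγ⟩ := Finset.exists_mem_notMem_of_card_lt_card (s := ({0, 1, -1} : Finset E)) (t := Finset.univ)
    (Finset.card_le_three.trans_lt (by rw [Finset.card_univ, hE]; norm_num))
  simp only [Finset.mem_insert, Finset.mem_singleton, not_or] at hγ
  have k := fun t ht => h.l2x_nine c e3 (t := t) ht
  have p3 : ∀ t : E, ρ (η (u2 t)) ^ 3 = 1 := fun t => by
    rw [← map_pow, ← map_pow, l2x_pow, Nat.cast_ofNat, e3, zero_mul, show u2 (0 : E) = 1 from SL2.uu_zero,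
      map_one, map_one]
  have := enine (nondeg_Q7 h.two) finrank_V7 h3 (p3 1) (p3 γ)
    (by simp only [← map_mul, l2x_mul, add_comm]) ((k _ hγ.1).trans (k _ one_ne_zero).symm)
    (by rw [← map_mul, ← map_mul, l2x_mul, k _ one_ne_zero]
        exact k _ fun e => hγ.2.2 (by linear_combination e))
    (by rw [← map_inv, ← map_inv, ← map_mul, ← map_mul, l2x_inv, l2x_mul, k _ one_ne_zero]
        exact k _ fun e => hγ.2.1 (by linear_combination -e))
  have h4 := k _ one_ne_zero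
  rw [this, a4l_rk1] at h4
  exact absurd h4 (by norm_num)

theorem Hy.l2x_fix (h : Hy ρ) (c : Cov2 η) {p : ℕ} (hp : p.Prime) (hE : Fintype.card E = p) (h3 : p ≠ 3)
    (hc : Third K (η (u2 1))) : FixL ρ := by
  have e : (p : E) = 0 := hE ▸ FiniteField.cast_card_eq_zero E
  obtain ⟨y, h0, hy⟩ := h.l2h c (fun e3 => h3 ((CharP.ringChar_of_prime_eq_zero hp e).symm.trans
    (CharP.ringChar_of_prime_eq_zero Nat.prime_three e3))) hc
  refine ⟨y, h0, fun g s hs => ?_⟩
  rcases hy g (c.l2x_gen hp hE ▸ mem_top g) s hs with e | e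
  exacts [⟨1, by rw [e, one_smul]⟩, ⟨-1, by rw [e, neg_one_smul]⟩]

theorem Hy.l2x (h : Hy ρ) (c : Cov2 η) (hp : ringChar K ≠ ringChar E) : FixL ρ := by
  have h1 := h.l2_cross c.odd hp η fun g hg => (SL2.mem_center_iff g).2 ((c.ker g).1 hg)
  have h2 := c.five
  have h3 := Nat.odd_iff.1 c.odd
  have h4 := FiniteField.cast_card_eq_zero E
  have h5 := FiniteField.isPrimePow_card E
  obtain e | e | e | e | e | e : Fintype.card E = 5 ∨ Fintype.card E = 7 ∨ Fintype.card E = 9 ∨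
    Fintype.card E = 11 ∨ Fintype.card E = 13 ∨ Fintype.card E = 15 := by omega
  all_goals rw [e, Nat.cast_ofNat] at h4
  · exact (h.l2_5 c e).elim
  · exact h.l2x_fix c (by norm_num) e (by norm_num) (.inr (.inl ⟨l2x_one e, l2x_conj (s := 3)
      (fun e => one_ne_zero (α := E) (by linear_combination h4 - 2 * e)) (by push_cast; linear_combination h4)⟩))
  · exact (h.l2_9 c e (l2x_char Nat.prime_three hp ((pow_eq_zero_iff two_ne_zero).1 (by
      push_cast; linear_combination h4)))).elim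
  · obtain ⟨d, hd⟩ := isConj_iff.1 (l2x_conj (η := η) (s := 5) (k := 3)
      (fun e => one_ne_zero (α := E) (by linear_combination h4 - 2 * e)) (by push_cast; linear_combination 2 * h4))
    have h6 := ten_dvd (nondeg_Q7 h.two) (g := ρ (η (u2 1))) (c := ρ d) (l2x_char (p := 11) (by norm_num) hp h4)
      (by rw [← map_pow, l2x_one e, map_one]) (by rw [← map_inv, ← map_mul, ← map_mul, hd, map_pow])
    have h7 := rk_add_fx (ρ (η (u2 1)))
    rw [finrank_V7] at h7
    exact absurd (h.inj ((rk_eq_zero (g := ρ (η (u2 1))) (by omega)).trans (map_one ρ).symm))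
      (c.l2x_ne (g := u2 1) one_ne_zero)
  · exact h.l2x_fix c (by norm_num) e (by norm_num) (.inr (.inr ⟨l2x_one e, l2x_conj (s := 4)
      (fun e => one_ne_zero (α := E) (by linear_combination h4 - 3 * e)) (by push_cast; linear_combination h4)⟩))
  · rw [e] at h5
    exact absurd h5 (by decide +kernel)

end CfsgLib.O7
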