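import Cfsg.Agent.Lib.O7.Tool
import Cfsg.Agent.Lib.O7.SrA
import Cfsg.Agent.Lib.RootSub.QuadAlg

/-!
QUAD: two interchanged commuting copies of `SL₂` with the same centre.  See `plans/O7B.md`.
-/

set_option autoImplicit false

namespace CfsgLib.O7

open CfsgLib.OrthE CfsgLib.OMax Module QuadraticMap Subgroup Cfsg
open scoped MatrixGroups commutatorElement

variable {K G : Type*} [Field K] [IsAlgClosed K] [Group G] [Finite G] {ρ : G →* G7 K}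
  {E : Type} [Field E] [Fintype E]

/-- two commuting `SL₂` with common centre `z`, interchanged by `τ` -/
structure QD (z : G) (φ₁ φ₂ : SL(2, E) →* G) : Prop where
  ne : z ≠ 1
  c₁ : φ₁ (-1) = z
  c₂ : φ₂ (-1) = z
  comm : ∀ x y, Commute (φ₁ x) (φ₂ y)
  swap : ∃ τ : G, (∀ x, τ * φ₁ x * τ⁻¹ ∈ φ₂.range) ∧ ∀ x, τ * φ₂ x * τ⁻¹ ∈ φ₁.range

section gen

variable {V : Type*} [AddCommGroup V] [Module K V] {Q : QuadraticForm K V} {Γ : Type*} [Group Γ]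

omit [IsAlgClosed K] in
/-- the stabiliser of a line -/
def qdL (σ : Γ →* O Q) (e : V) : Subgroup Γ where
  carrier := {x | ∃ c : K, (σ x).1 e = c • e}
  one_mem' := ⟨1, by rw [map_one, one_smul]; rfl⟩
  mul_mem' := by
    rintro x y ⟨c, hc⟩ ⟨d, hd⟩
    exact ⟨d * c, by rw [map_mul, O_mul_apply, hd, map_smul, hc, smul_smul]⟩
  inv_mem' := by
    rintro x ⟨c, hc⟩
    by_cases h : c = 0
    · obtain rfl : e = 0 := by_contra fun h0 => O_apply_ne_zero (σ x) h0 (by rw [hc, h, zero_smul])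
      exact ⟨0, by rw [map_zero, smul_zero]⟩
    · exact ⟨c⁻¹, by
        rw [map_inv]
        exact O_inv_apply_eq _ (by rw [map_smul, hc, smul_smul, inv_mul_cancel₀ h, one_smul])⟩

omit [IsAlgClosed K] in
/-- the pointwise stabiliser -/
def qdF (σ : Γ →* O Q) (W : Set V) : Subgroup Γ where
  carrier := {x | ∀ w ∈ W, (σ x).1 w = w}
  one_mem' := fun w _ => by rw [map_one]; rfl
  mul_mem' := fun hx hy w hw => by rw [map_mul, O_mul_apply, hy w hw, hx w hw]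
  inv_mem' := fun hx w hw => by rw [map_inv]; exact O_inv_apply_eq _ (hx w hw)

omit [IsAlgClosed K] in
theorem qd_line (hΓ : commutator Γ = ⊤) (σ : Γ →* O Q) {e : V} (h : ∀ x, ∃ c : K, (σ x).1 e = c • e) (x : Γ) :
    (σ x).1 e = e := by
  have k : ∀ a b, (σ a).1 ((σ b).1 e) = (σ b).1 ((σ a).1 e) := fun a b => by
    obtain ⟨c, hc⟩ := h a
    obtain ⟨d, hd⟩ := h b
    rw [hc, hd, map_smul, map_smul, hc, hd, smul_comm]
  refine (hΓ.ge.trans (commutator_le.2 fun a _ b _ => ?_) : ⊤ ≤ qdF σ {e}) (mem_top x) e rfl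
  rintro _ rfl
  rw [commutatorElement_def, sr_mul, sr_mul, k, sr_mul, sr_inv', sr_inv']

omit [IsAlgClosed K] in
theorem qd_hyp (hΓ : commutator Γ = ⊤) (σ : Γ →* O Q) {e f : V} (hf : Q f = 0) (hef : polar Q e f = 1)
    (h1 : ∀ x, (∃ a : K, (σ x).1 e = a • e) ∨ ∃ a : K, (σ x).1 e = a • f)
    (h2 : ∀ x, (∃ a : K, (σ x).1 f = a • e) ∨ ∃ a : K, (σ x).1 f = a • f) (x : Γ) : (σ x).1 e = e := by
  have k : ∀ a, a * a ∈ qdL σ e := fun a => by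
    rcases h1 a with m | ⟨c, hc⟩
    · exact mul_mem m m
    rcases h2 a with ⟨d, hd⟩ | ⟨d, hd⟩
    · exact ⟨c * d, by rw [sr_mul, hc, map_smul, hd, smul_smul]⟩
    · have := O_polar (σ a) e f
      rw [hc, hd, hef, polar_smul_left, polar_smul_right, polar_self, hf] at this
      simp at this
  refine qd_line hΓ σ (fun y => (hΓ.ge.trans (commutator_le.2 fun a _ b _ => ?_) : ⊤ ≤ qdL σ e) (mem_top y)) x
  rw [show ⁅a, b⁆ = (a * b) * (a * b) * ((b⁻¹ * a⁻¹ * b) * (b⁻¹ * a⁻¹ * b)) * (b⁻¹ * b⁻¹) by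
    rw [commutatorElement_def]; group]
  exact mul_mem (mul_mem (k _) (k _)) (k _)

variable [FiniteDimensional K V]

/-- a perfect group acts trivially on a non-degenerate subspace of dimension at most two -/
theorem qd_triv (h2 : (2 : K) ≠ 0) (hΓ : commutator Γ = ⊤) (σ : Γ →* O Q) {W : Submodule K V} (hW : ND Q W)
    (hd : finrank K W ≤ 2) (hi : ∀ x, ∀ w ∈ W, (σ x).1 w ∈ W) (x : Γ) : ∀ w ∈ W, (σ x).1 w = w := by
  intro w hw
  rcases hd.lt_or_eq with hd | hd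
  · obtain ⟨u, hu, k⟩ := sr_line (W := W) (by omega)
    obtain ⟨c, rfl⟩ := k w hw
    rw [map_smul, qd_line hΓ σ (fun y => k _ (hi y u hu))]
  · obtain ⟨e, he, f, hf, q1, q2, q3, k1, k2⟩ := sr_hyp h2 hW hd
    have a1 := fun y => k2 _ (hi y e he) (by rw [O_map, q1])
    have a2 := fun y => k2 _ (hi y f hf) (by rw [O_map, q2])
    obtain ⟨a, b, rfl⟩ := k1 w hw
    rw [map_add, map_smul, map_smul, qd_hyp hΓ σ q2 q3 a1 a2,
      qd_hyp hΓ σ q1 (by rw [polar_comm, q3]) (fun y => (a2 y).symm) fun y => (a1 y).symm]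

omit [IsAlgClosed K] [FiniteDimensional K V] in
theorem qd_neg {g : O Q} {v : V} : v ∈ LinearMap.ker (en (ng Q * g) - 1) ↔ g.1 v = -v := by
  rw [eig_mem, O_mul_apply, ng_apply, neg_eq_iff_eq_neg]

omit [IsAlgClosed K] in
theorem qd_nd (h2 : (2 : K) ≠ 0) (hQ : Nondeg Q) {g : O Q} (hg : g ^ 4 = 1) :
    ND Q (LinearMap.ker (en g - 1)) ∧ ND Q (LinearMap.ker (en (ng Q * g) - 1)) := by
  have h4 : ((4 : ℕ) : K) ≠ 0 := by
    rw [show ((4 : ℕ) : K) = 2 * 2 by norm_num]; exact mul_ne_zero h2 h2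
  refine ⟨nd_fix hQ h4 hg, nd_fix hQ h4 ?_⟩
  rw [Commute.mul_pow (ng_comm g), hg, mul_one, show 4 = 2 * 2 from rfl, pow_mul, pow_two (ng Q), ng_mul_ng, one_pow]

theorem qd_step (h2 : (2 : K) ≠ 0) (hQ : Nondeg Q) (h5 : 5 ≤ Fintype.card E) (σ₁ σ₂ : SL(2, E) →* O Q)
    (hc : ∀ x y, Commute (σ₁ x) (σ₂ y)) (h3 : fx (σ₁ (-1)) = 3) :
    (∀ x v, (σ₁ (-1)).1 v = v → (σ₁ x).1 v = v) ∨ ∀ x v, (σ₁ (-1)).1 v = v → (σ₂ x).1 v = v := by
  have h4 : 3 < ENat.card E := by rw [ENat.card_eq_coe_fintype_card]; exact_mod_cast h5.trans_lt' (by norm_num)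
  obtain ⟨a, ha, y, hy⟩ : ∃ a : SL(2, E), a * a = -1 ∧ ∃ y, a * y * a⁻¹ * y⁻¹ ∉ center _ := by
    obtain ⟨a, ha⟩ : ∃ a : SL(2, E), a.1 = !![0, -1; 1, 0] := ⟨⟨_, by simp⟩, rfl⟩
    obtain ⟨y, hy⟩ : ∃ y : SL(2, E), y.1 = !![1, 1; 0, 1] := ⟨⟨_, by simp⟩, rfl⟩
    refine ⟨a, ?_, y, fun h => ?_⟩
    · ext i j; fin_cases i <;> fin_cases j <;> simp [ha]
    · obtain ⟨r, -, e⟩ := Matrix.SpecialLinearGroup.mem_center_iff.1 h
      have := congrFun (congrFun e 0) 1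
      simp [ha, hy, Matrix.adjugate_fin_two] at this
  have a2 : ∀ v, (σ₁ a).1 ((σ₁ a).1 v) = (σ₁ (-1)).1 v := fun v => by rw [← sr_mul, ha]
  obtain ⟨n1, n2⟩ := qd_nd h2 hQ (g := σ₁ a) (by
    rw [← map_pow, show 4 = 2 * 2 from rfl, pow_mul, pow_two a, ha, neg_one_sq, map_one])
  have cm : ∀ x v, (σ₁ a).1 ((σ₂ x).1 v) = (σ₂ x).1 ((σ₁ a).1 v) := fun x => a4l_cm (hc a x)
  have inv : ∀ x v, (σ₁ (-1)).1 v = v → (σ₁ (-1)).1 ((σ₁ x).1 v) = (σ₁ x).1 v := fun x v hv => by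
    rw [← sr_mul, neg_one_mul, ← mul_neg_one, sr_mul, hv]
  have sc : ∀ c : K, (∀ v, (σ₁ (-1)).1 v = v → (σ₁ a).1 v = c • v) →
      ∀ x v, (σ₁ (-1)).1 v = v → (σ₁ x).1 v = v := fun c k x v hv => by
    rcases RootSub.sl2_normal h4 (qdF σ₁ {v | (σ₁ (-1)).1 v = v}) ⟨fun n hn g w hw => by
      rw [sr_mul, sr_mul, hn _ (inv _ w hw), sr_inv']⟩ with e | e
    · exact e.ge (mem_top x) v hv
    · refine absurd (e fun w hw => ?_) hy
      have m := inv a⁻¹ _ (inv y⁻¹ w hw)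
      rw [sr_mul, sr_mul, sr_mul, k _ (inv y _ m), ← map_smul, ← k _ m, sr_inv', sr_inv']
  have eq : ∀ {U : Submodule K V}, (∀ v ∈ U, (σ₁ (-1)).1 v = v) → ¬ finrank K U ≤ 2 →
      ∀ v, (σ₁ (-1)).1 v = v → v ∈ U := fun {U} k1 k2 v hv =>
    (Submodule.eq_of_le_of_finrank_le (S₁ := U) (S₂ := LinearMap.ker (en (σ₁ (-1)) - 1))
      (fun u hu => eig_mem.2 (k1 u hu)) (by rw [fx] at h3; omega)).ge (eig_mem.2 hv)
  by_cases d1 : finrank K (LinearMap.ker (en (σ₁ a) - 1)) ≤ 2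
  swap
  · exact .inl (sc 1 fun v hv => by
      rw [one_smul, ← eig_mem]
      exact eq (fun u hu => by rw [← a2, eig_mem.1 hu, eig_mem.1 hu]) d1 v hv)
  by_cases d2 : finrank K (LinearMap.ker (en (ng Q * σ₁ a) - 1)) ≤ 2
  swap
  · exact .inl (sc (-1) fun v hv => by
      rw [neg_one_smul, ← qd_neg]
      exact eq (fun u hu => by rw [← a2, qd_neg.1 hu, map_neg, qd_neg.1 hu, neg_neg]) d2 v hv)
  refine .inr fun x v hv => a4l_two h2 ?_
  have t1 := qd_triv h2 (RootSub.sl2_perfect h4) σ₂ n1 d1 (fun y w hw => eig_mem.2 (by rw [cm, eig_mem.1 hw])) x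
    (v + (σ₁ a).1 v) (eig_mem.2 (by rw [map_add, a2, hv, add_comm]))
  have t2 := qd_triv h2 (RootSub.sl2_perfect h4) σ₂ n2 d2
    (fun y w hw => qd_neg.2 (by rw [cm, qd_neg.1 hw, map_neg])) x
    (v - (σ₁ a).1 v) (qd_neg.2 (by rw [map_sub, a2, hv, neg_sub]))
  rw [map_add] at t1
  rw [map_sub] at t2
  linear_combination (norm := module) t1 + t2

end gen

omit [Finite G] [Fintype E] in
theorem QD.symm {z : G} {φ₁ φ₂ : SL(2, E) →* G} (q : QD z φ₁ φ₂) : QD z φ₂ φ₁ :=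
  ⟨q.ne, q.c₂, q.c₁, fun x y => (q.comm y x).symm, q.swap.imp fun _ => And.symm⟩

omit [Finite G] [Fintype E] in
theorem QD.sq {z : G} {φ₁ φ₂ : SL(2, E) →* G} (q : QD z φ₁ φ₂) : z * z = 1 := by
  rw [← q.c₁, ← map_mul, neg_mul_neg, one_mul, map_one]

omit [IsAlgClosed K] [Fintype E] in
theorem QD.tr {z : G} {φ₁ φ₂ : SL(2, E) →* G} (q : QD z φ₁ φ₂)
    (h : ∀ x v, (ρ z).1 v = v → (ρ (φ₁ x)).1 v = v) (x : SL(2, E)) (v : V7 K) (hv : (ρ z).1 v = v) :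
    (ρ (φ₂ x)).1 v = v := by
  obtain ⟨τ, -, h2⟩ := q.swap
  have k : ∀ y w, (ρ z).1 w = w → (ρ (φ₂ y)).1 ((ρ τ⁻¹).1 w) = (ρ τ⁻¹).1 w := fun y w hw => by
    obtain ⟨y', e⟩ := h2 y
    conv_rhs => rw [← h y' w hw, e, sr_mul, sr_mul, sr_inv]
  have k' : ∀ n, (ρ z).1 ((ρ (τ⁻¹ ^ n)).1 v) = (ρ (τ⁻¹ ^ n)).1 v := fun n => by
    induction n with
    | zero => rw [pow_zero, sr_one, hv]
    | succ n ih => rw [pow_succ', sr_mul, ← q.c₂]; exact k _ _ ih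
  obtain ⟨n, hn⟩ := (mem_powers_iff_mem_zpowers.2 (zpowers_inv.ge (mem_zpowers τ)) : τ ∈ Submonoid.powers τ⁻¹)
  have := k x _ (k' n)
  rwa [show τ⁻¹ ^ n = τ from hn, sr_inv] at this

omit [Finite G] in
theorem Hy.qd_rk (h : Hy ρ) (h5 : 5 ≤ Fintype.card E) {z : G} {φ₁ φ₂ : SL(2, E) →* G} (q : QD z φ₁ φ₂) :
    rk (ρ z) = 4 := by
  refine (h.wt q.ne q.sq).resolve_left fun h2 => ?_
  have h4 : 3 < ENat.card E := by rw [ENat.card_eq_coe_fintype_card]; exact_mod_cast h5.trans_lt' (by norm_num)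
  have z2 : ρ z * ρ z = 1 := by rw [← map_mul, q.sq, map_one]
  have d : finrank K (LinearMap.ker (en (ng (Q7 K) * ρ z) - 1)) = 2 := by
    rw [← h2, a4l_rk h.two z2, show LinearMap.ker (en (ng (Q7 K) * ρ z) - 1) = Module.End.eigenspace (en (ρ z)) (-1)
      from Submodule.ext fun v => by rw [qd_neg, a4l_eig, neg_one_smul]]
  obtain ⟨v, hv, v0⟩ := Submodule.exists_mem_ne_zero_of_ne_bot
    (p := LinearMap.ker (en (ng (Q7 K) * ρ z) - 1)) fun e => by rw [e, finrank_bot] at d; omega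
  have t := qd_triv h.two (RootSub.sl2_perfect h4) (ρ.comp φ₁) (qd_nd h.two (nondeg_Q7 h.two) (g := ρ z) (by
    rw [show 4 = 2 * 2 from rfl, pow_mul, pow_two (ρ z), z2, one_pow])).2 d.le (fun y w hw => qd_neg.2 (by
      rw [MonoidHom.comp_apply, ← sr_mul, ← q.c₂, ← (q.comm y _).eq, sr_mul, q.c₂, qd_neg.1 hw, map_neg])) (-1) v hv
  rw [MonoidHom.comp_apply, q.c₁, qd_neg.1 hv] at t
  exact v0 (a4l_two h.two (by linear_combination (norm := module) -t))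

theorem Hy.quad (h : Hy ρ) (ho : Odd (Fintype.card E)) (h5 : 5 ≤ Fintype.card E) {z : G}
    {φ₁ φ₂ : SL(2, E) →* G} (q : QD z φ₁ φ₂) {v : V7 K} (hv : (ρ z).1 v = v) (x : SL(2, E)) :
    (ρ (φ₁ x)).1 v = v ∧ (ρ (φ₂ x)).1 v = v := by
  have h3 := rk_add_fx (ρ z)
  rw [h.qd_rk h5 q, finrank_V7] at h3
  have := qd_step h.two (nondeg_Q7 h.two) h5 (ρ.comp φ₁) (ρ.comp φ₂) (fun x y => (q.comm x y).map ρ)
    (by rw [MonoidHom.comp_apply, q.c₁]; omega)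
  simp only [MonoidHom.comp_apply, q.c₁] at this
  rcases this with k | k
  exacts [⟨k x v hv, q.tr k x v hv⟩, ⟨q.symm.tr k x v hv, k x v hv⟩]

theorem Hy.quad2 (h : Hy ρ) (ho : Odd (Fintype.card E)) (h5 : 5 ≤ Fintype.card E) {z z' : G}
    {φ₁ φ₂ φ₃ φ₄ : SL(2, E) →* G} (q : QD z φ₁ φ₂) (q' : QD z' φ₃ φ₄) (hc : z * z' = z' * z)
    (hg : φ₁.range ⊔ φ₂.range ⊔ (φ₃.range ⊔ φ₄.range) = ⊤) : False := by
  obtain ⟨d1, d2, d3, d4⟩ := a4l_dims h.two (a := ρ z) (b := ρ z') (by rw [← map_mul, q.sq, map_one])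
    (by rw [← map_mul, q'.sq, map_one]) (by rw [← map_mul, hc, map_mul])
  have d5 : rk (ρ (z * z')) ≤ 4 := by
    by_cases e : z * z' = 1
    · rw [e, map_one, a4l_rk1]; omega
    · rcases h.wt e (by rw [mul_assoc, ← mul_assoc z', ← hc, mul_assoc z, q'.sq, mul_one, q.sq]) with k | k <;> omega
  rw [finrank_V7] at d1
  rw [h.qd_rk h5 q] at d2
  rw [h.qd_rk h5 q'] at d3
  rw [map_mul] at d5
  obtain ⟨v, hv, v0⟩ := Submodule.exists_mem_ne_zero_of_ne_bot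
    (p := J2 (ρ z) (ρ z') 1 1) fun e => by rw [e, finrank_bot] at d1; omega
  rw [mem_J2, one_smul] at hv
  have k : ∀ {φ : SL(2, E) →* G}, (∀ x, (ρ (φ x)).1 v = v) → φ.range ≤ closure {g | (ρ g).1 v = v} := by
    rintro φ k _ ⟨x, rfl⟩
    exact subset_closure (k x)
  exact v0 (h.fix (S := {g | (ρ g).1 v = v}) (eq_top_iff.2 (hg.ge.trans (sup_le
    (sup_le (k fun x => (h.quad ho h5 q hv.1 x).1) (k fun x => (h.quad ho h5 q hv.1 x).2))
    (sup_le (k fun x => (h.quad ho h5 q' hv.2 x).1) (k fun x => (h.quad ho h5 q' hv.2 x).2))))) fun _ => id)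

end CfsgLib.O7
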