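import Cfsg.Agent.Lib.O7.SpinB
import Cfsg.Agent.Lib.O7.SrA
import Cfsg.Agent.Lib.GHE.Defs

/-!
SR: sectional 2-rank at most four.  See `plans/O7B.md`.
-/

set_option autoImplicit false

namespace CfsgLib.O7

open CfsgLib.OrthE CfsgLib.OMax Module QuadraticMap Subgroup
open scoped MatrixGroups

variable {K G : Type*} [Field K] [Group G] {ρ : G →* G7 K}

/-- 2-subgroups of `O₄` -/
theorem sr_four {V : Type*} [AddCommGroup V] [Module K V] [IsAlgClosed K] {Q : QuadraticForm K V}
    (h2 : (2 : K) ≠ 0) (hQ : Nondeg Q) (h4 : finrank K V ≤ 4) [FiniteDimensional K V] {S : Type*}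
    [Group S] [Finite S] (hS : IsPGroup 2 S) (σ : S →* O Q) (hσ : Function.Injective σ) :
    Sect.SR 16 (⊤ : Subgroup S) :=
  sr_main h2 hQ 3 le_rfl (σ := σ) hS (nd_top hQ) (by rwa [finrank_top]) (fun _ _ _ => trivial)
    fun g h => hσ (by rw [map_one]; exact O_ext fun x => h x trivial)

/-- the commutator space of an involution -/
theorem sr_neg {V : Type*} [AddCommGroup V] [Module K V] {Q : QuadraticForm K V} (h2 : (2 : K) ≠ 0) {t : O Q}
    (ht : t * t = 1) {x : V} : x ∈ LinearMap.range (en t - 1) ↔ t.1 x = -x := by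
  constructor
  · rintro ⟨y, rfl⟩
    show t.1 (t.1 y - y) = -(t.1 y - y)
    rw [map_sub, ← O_mul_apply, ht, O_one_apply, neg_sub]
  · refine fun h => ⟨-(2 : K)⁻¹ • x, ?_⟩
    show t.1 (-(2 : K)⁻¹ • x) - -(2 : K)⁻¹ • x = x
    rw [map_smul, h, show -(2 : K)⁻¹ • -x - -(2 : K)⁻¹ • x = ((2 : K)⁻¹ * 2) • x by module,
      inv_mul_cancel₀ h2, one_smul]

theorem sr_neg_nd {V : Type*} [AddCommGroup V] [Module K V] {Q : QuadraticForm K V} (h2 : (2 : K) ≠ 0)
    (hQ : Nondeg Q) {t : O Q} (ht : t * t = 1) : ND Q (LinearMap.range (en t - 1)) :=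
  nd_iff.2 fun x hx h => hQ x fun y => by
    have e1 := h _ ⟨y, rfl⟩
    have e2 := O_polar t x (t.1 y)
    rw [(sr_neg h2 ht).1 hx, ← O_mul_apply, ht, O_one_apply, polar_neg_left] at e2
    replace e1 : polar Q x (t.1 y - y) = 0 := e1
    rw [polar_sub_right] at e1
    exact mul_left_cancel₀ h2 (by linear_combination -e1 - e2)

theorem Hy.ctx [Finite G] [IsAlgClosed K] (h : Hy ρ) : GHE.Ctx G := by
  refine ⟨h.simple, h.ncomm, ?_⟩
  obtain ⟨S⟩ : Nonempty (Sylow 2 G) := inferInstance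
  refine Sect.sr_of_sylow S (sr_sub ?_)
  have hS := S.isPGroup'
  let σ : S →* G7 K := ρ.comp (S : Subgroup G).subtype
  by_cases h1 : Nat.card (⊤ : Subgroup S) ≤ 1
  · exact (Sect.SR.of_card _).le (by omega)
  have sq : ∀ {z : S}, z * z = 1 → σ z * σ z = 1 := fun e => by rw [← map_mul, e, map_one]
  have wt : ∀ {z : S}, z ≠ 1 → z * z = 1 → rk (σ z) = 2 ∨ rk (σ z) = 4 := fun {z} z1 zz =>
    h.wt (t := z) (fun e => z1 (Subtype.ext e)) (congrArg Subtype.val zz)
  have key : ∀ z : S, z ≠ 1 → z * z = 1 → (∀ g, g * z = z * g) → Sect.SR 16 (⊤ : Subgroup S) ∨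
      ∃ t : S, t ≠ 1 ∧ t * t = 1 ∧ (∀ g, g * t = t * g) ∧ rk (σ z) + 2 ≤ rk (σ t) := fun z z1 zz zc => by
    have inv : ∀ {z : S}, z * z = 1 → (∀ g, g * z = z * g) → ∀ g, ∀ x ∈ LinearMap.range (en (σ z) - 1),
        (σ g).1 x ∈ LinearMap.range (en (σ z) - 1) := fun {z} zz zc g x hx => by
      rw [sr_neg h.two (sq zz)] at hx ⊢
      rw [← sr_mul, ← zc, sr_mul, hx, map_neg]
    let N : Subgroup S :=
      { carrier := {g | ∀ x ∈ LinearMap.range (en (σ z) - 1), (σ g).1 x = x}
        one_mem' := fun x _ => sr_one σ x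
        mul_mem' := fun {a b} ha hb x hx => by rw [sr_mul, hb x hx, ha x hx]
        inv_mem' := fun {a} ha x hx => by conv_lhs => rw [← ha x hx, sr_inv] }
    have : N.Normal := ⟨fun n hn g x hx => by rw [sr_mul, sr_mul, hn _ (inv zz zc _ x hx), sr_inv']⟩
    have wz := wt z1 zz
    by_cases hN : 1 < Nat.card N
    · obtain ⟨t, tN, t1, tt, tc⟩ := Sect.exists_central hS N hN
      have wt' := wt t1 tt
      have e : z * t * (z * t) = 1 := by rw [mul_assoc, ← mul_assoc t, zc t, mul_assoc, tt, mul_one, zz]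
      have dis : Disjoint (LinearMap.range (en (σ z) - 1)) (LinearMap.range (en (σ t) - 1)) :=
        Submodule.disjoint_def.2 fun x hx hx' => by
          have e1 := (sr_neg h.two (sq tt)).1 hx'
          rw [tN x hx, eq_neg_iff_add_eq_zero, ← two_smul K, smul_eq_zero] at e1
          exact e1.resolve_left h.two
      have le : LinearMap.range (en (σ z) - 1) ⊔ LinearMap.range (en (σ t) - 1) ≤
          LinearMap.range (en (σ (z * t)) - 1) := sup_le (fun x hx => by
        rw [sr_neg h.two (sq e), sr_mul, tN x hx, (sr_neg h.two (sq zz)).1 hx]) fun x hx => by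
          have e1 : (σ z).1 x - x = 0 := Submodule.disjoint_def.1 dis _ ⟨x, rfl⟩
            (Submodule.sub_mem _ (inv tt tc z x hx) hx)
          rw [sr_neg h.two (sq e), sr_mul, (sr_neg h.two (sq tt)).1 hx, map_neg, sub_eq_zero.1 e1]
      have d1 := Submodule.finrank_sup_add_finrank_inf_eq (LinearMap.range (en (σ z) - 1))
        (LinearMap.range (en (σ t) - 1))
      have d2 := Submodule.finrank_mono le
      rw [dis.eq_bot, finrank_bot] at d1
      have d3 : rk (σ z) + 2 ≤ rk (σ (z * t)) := by unfold rk at *; omega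
      refine Or.inr ⟨z * t, fun e1 => ?_, e, fun g => by rw [← mul_assoc, zc, mul_assoc, tc, mul_assoc], d3⟩
      have : rk (1 : G7 K) = 0 := by rw [rk, en_one, sub_self, LinearMap.range_zero, finrank_bot]
      rw [e1, map_one] at d3
      omega
    · have nb : N = ⊥ := card_eq_one.1 (by have := Nat.card_pos (α := N); omega)
      exact Or.inl (sr_main h.two (nondeg_Q7 h.two) 3 le_rfl (σ := σ) hS (sr_neg_nd h.two (nondeg_Q7 h.two) (sq zz))
        (by unfold rk at wz; omega) (inv zz zc) fun g hg => mem_bot.1 (nb ▸ (hg : g ∈ N)))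
  obtain ⟨z, -, z1, zz, zc⟩ := Sect.exists_central hS (⊤ : Subgroup S) (by omega)
  rcases key z z1 zz zc with r | ⟨t, t1, tt, tc, d⟩
  · exact r
  rcases key t t1 tt tc with r | ⟨s, s1, ss, -, d'⟩
  · exact r
  have := wt z1 zz
  have := wt s1 ss
  omega

end CfsgLib.O7
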