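import Cfsg.Agent.Lib.O7.A4L
import Cfsg.Agent.Lib.D5.KU3x
import Cfsg.Agent.Lib.Classical.SmallIso
import Cfsg.Agent.S0244

/-!
TOOL: small criteria.  See `plans/O7B.md`.
-/

set_option autoImplicit false

namespace CfsgLib.O7

open CfsgLib.OrthE CfsgLib.OMax Module QuadraticMap Subgroup Cfsg
open scoped MatrixGroups

section gen

variable {K G V : Type*} [Field K] [Group G] [AddCommGroup V] [Module K V] [FiniteDimensional K V]
  {Q : QuadraticForm K V}

theorem tl_per {X : Type*} (f : ℕ → X) (h7 : ∀ n, f (n + 7) = f n) {j : ℕ} (h0 : 0 < j) (h1 : j < 7)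
    (hj : ∀ n, f (n + j) = f n) : f 1 = f 0 := by
  have a : ∀ m, f (j * m) = f 0 := fun m => by
    induction m with
    | zero => rfl
    | succ m ih => rw [Nat.mul_succ, hj, ih]
  have b : ∀ r, f (1 + 7 * r) = f 1 := fun r => by
    induction r with
    | zero => rfl
    | succ r ih => rw [Nat.mul_succ, ← add_assoc, h7, ih]
  obtain ⟨m, r, e⟩ : ∃ m r, j * m = 1 + 7 * r := by
    interval_cases j
    exacts [⟨1, 0, rfl⟩, ⟨4, 1, rfl⟩, ⟨5, 2, rfl⟩, ⟨2, 1, rfl⟩, ⟨3, 2, rfl⟩, ⟨6, 5, rfl⟩]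
  rw [← b r, ← e, a]

theorem tl_cm {E : Subgroup G} (h2 : ∀ a ∈ E, a * a = 1) : ∀ a ∈ E, ∀ b ∈ E, a * b = b * a :=
  fun a ha b hb => by
    have k := h2 _ (mul_mem ha hb)
    rw [← mul_one (b * a), ← k, ← mul_assoc, mul_assoc b a, ← mul_assoc a a, h2 a ha, one_mul, h2 b hb, one_mul]

/-- the characters of an elementary abelian 2-group -/
theorem tl_ch (two : (2 : K) ≠ 0) (hQ : Nondeg Q) {n : ℕ} (hn : finrank K V = n) (τ : G →* O Q)
    {E : Subgroup G} [Finite E] (h2 : ∀ a ∈ E, a * a = 1) :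
    ∃ (b : Basis (Fin n) K V) (χ : Fin n → E →* ℤ),
      (∀ (a : E) i, (τ a).1 (b i) = (χ i a : K) • b i) ∧ (∀ i a, χ i a = 1 ∨ χ i a = -1) ∧
      ∀ a : E, ∑ i, χ i a = n - 2 * (rk (τ a) : ℤ) := by
  obtain ⟨b, d, -, -, k2, k3⟩ := exists_diag2 two hQ (fun a : E => τ a)
    (fun a b => by rw [← map_mul, tl_cm h2 _ a.2 _ b.2, map_mul]) (fun a => by rw [← map_mul, h2 _ a.2, map_one]) hn
  have ne : ∀ i, b i ≠ -b i := fun i e => b.ne_zero i (a4l_two two (by linear_combination (norm := module) e))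
  refine ⟨b, fun i => ⟨⟨fun a => if d a i then -1 else 1, ?_⟩, fun x y => ?_⟩, fun a i => ?_, fun i a => ?_,
    fun a => ?_⟩
  · have := k2 1 i
    rw [OneMemClass.coe_one, map_one, O_one_apply] at this
    exact if_neg fun e => ne i (by rwa [if_pos e] at this)
  · have := k2 (x * y) i
    rw [Subgroup.coe_mul, map_mul, O_mul_apply, k2, apply_ite (τ x).1, map_neg, k2] at this
    exact a4l_sgn (ne i) this
  · rw [k2]; cases e : d a i <;> simp [e]
  · cases e : d a i <;> simp [e]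
  · rw [k3, Finset.card_filter]
    push_cast
    rw [Finset.mul_sum, show (n : ℤ) = ∑ _i : Fin n, 1 by simp, ← Finset.sum_sub_distrib]
    refine Finset.sum_congr rfl fun i _ => ?_
    cases e : d a i <;> simp [e]

theorem tl_five (h5 : (5 : K) = 0) {g : O Q} (hg : g ^ 5 = 1) : finrank K V ≤ 5 * fx g := by
  rw [fx]
  have h0 : en g ^ 5 = 1 := by rw [← en_pow, hg, en_one]
  generalize en g = f at h0
  have h4 : (f - 1) * (f - 1) * (f - 1) * (f - 1) * (f - 1) = 0 := by
    have : (f - 1) * (f - 1) * (f - 1) * (f - 1) * (f - 1) = f ^ 5 - 1 -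
        (5 : Module.End K V) * (f ^ 4 - 2 * f ^ 3 + 2 * f ^ 2 - f) := by
      noncomm_ring
    rw [this, h0, show (5 : Module.End K V) = algebraMap K _ 5 from (map_ofNat _ 5).symm, h5, map_zero,
      zero_mul, sub_zero, sub_self]
  have h1 := eig_ker_mul_le ((f - 1) * (f - 1) * (f - 1) * (f - 1)) (f - 1)
  have h2 := eig_ker_mul_le ((f - 1) * (f - 1) * (f - 1)) (f - 1)
  have h3 := eig_ker_mul_le ((f - 1) * (f - 1)) (f - 1)
  have h6 := eig_ker_mul_le (f - 1) (f - 1)
  rw [h4, LinearMap.ker_zero, finrank_top] at h1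
  omega

/-- an element of order seven acting on commuting involutions fixes a vector -/
theorem tl_fix (two : (2 : K) ≠ 0) (hQ : Nondeg Q) {s t : O Q} (h7 : s ^ 7 = 1) (ht : t * t = 1)
    (hc : ∀ i : ℕ, Commute t (s ^ i * t * (s ^ i)⁻¹)) (hn : s * t * s⁻¹ ≠ t) :
    ∃ y, y ≠ 0 ∧ s.1 y = y := by
  set U : ℕ → O Q := fun i => s ^ i * t * (s ^ i)⁻¹ with hU
  have U7 : ∀ n, U (n + 7) = U n := fun n => by simp only [hU, pow_add, h7, mul_one]
  have Ua : ∀ n j, U (j + n) = s ^ j * U n * (s ^ j)⁻¹ := fun n j => by simp only [hU, pow_add]; group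
  have Uc : ∀ i j, U i * U j = U j * U i := by
    have k : ∀ i j, i ≤ j → U i * U j = U j * U i := fun i j hij => by
      obtain ⟨d, rfl⟩ := Nat.exists_eq_add_of_le hij
      have := hc d
      rw [Ua d i]
      calc U i * (s ^ i * U d * (s ^ i)⁻¹) = s ^ i * (t * U d) * (s ^ i)⁻¹ := by simp only [hU]; group
        _ = _ := by rw [this.eq]; simp only [hU]; group
    exact fun i j => (le_total i j).elim (k i j) fun e => (k j i e).symm
  have Us : ∀ i, U i * U i = 1 := fun i => by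
    calc U i * U i = s ^ i * (t * t) * (s ^ i)⁻¹ := by simp only [hU]; group
      _ = 1 := by rw [ht]; group
  obtain ⟨b, d, k1, -, k2, -⟩ := exists_diag2 two hQ (fun i : Fin 7 => U i) (fun i j => Uc i j) (fun i => Us i) rfl
  have Um : ∀ n, U n = U (n % 7) := fun n => by
    simp only [hU]
    rw [← pow_eq_pow_mod n h7]
  have k3 : ∀ n k, (U n).1 (b k) = b k ∨ (U n).1 (b k) = -b k := fun n k => by
    have := k2 ⟨n % 7, Nat.mod_lt _ (by norm_num)⟩ k
    rw [Um]
    split_ifs at this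
    exacts [Or.inr this, Or.inl this]
  obtain ⟨k, hk⟩ : ∃ k, (U 1).1 (b k) ≠ (U 0).1 (b k) := by
    by_contra! e
    refine hn ?_
    have : U 1 = U 0 := en_inj (b.ext e)
    simpa [hU] using this
  have orth : ∀ j, 0 < j → j < 7 → polar Q (b k) ((s ^ j).1 (b k)) = 0 := fun j h0 h1 => by
    by_contra e
    refine hk (tl_per (fun n => (U n).1 (b k)) (fun n => by simp only [U7]) h0 h1 fun n => ?_)
    have e1 : (U (n + j)).1 ((s ^ j).1 (b k)) = (s ^ j).1 ((U n).1 (b k)) := by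
      rw [add_comm, Ua, O_mul_apply, O_mul_apply, O_inv_apply_apply]
    have e2 := O_polar (U (n + j)) (b k) ((s ^ j).1 (b k))
    rw [e1] at e2
    rcases k3 (n + j) k with a | a <;> rcases k3 n k with a' | a' <;> simp only [a, a'] at e2 ⊢
    · rw [map_neg, polar_neg_right] at e2
      exact absurd (mul_left_cancel₀ two (by linear_combination -e2)) e
    · rw [polar_neg_left] at e2
      exact absurd (mul_left_cancel₀ two (by linear_combination -e2)) e
  refine ⟨∑ j ∈ Finset.range 7, (s ^ j).1 (b k), fun e => ?_, ?_⟩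
  · have := congrArg (polar Q (b k)) e
    simp only [Finset.sum_range_succ, Finset.sum_range_zero, zero_add, polar_add_right, polar_zero_right,
      orth 1 (by norm_num) (by norm_num), orth 2 (by norm_num) (by norm_num), orth 3 (by norm_num) (by norm_num),
      orth 4 (by norm_num) (by norm_num), orth 5 (by norm_num) (by norm_num), orth 6 (by norm_num) (by norm_num),
      pow_zero, O_one_apply, add_zero, polar_self] at this
    rw [two_smul, ← two_mul] at this
    exact k1 k ((mul_eq_zero.1 this).resolve_left two)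
  · rw [map_sum]
    simp only [← O_mul_apply, ← pow_succ']
    rw [Finset.sum_range_succ, Finset.sum_range_succ' _ 6, show 6 + 1 = 7 from rfl, h7, pow_zero]

/-- `Sp₂ = SL₂` -/
noncomputable def tlSp (K : Type*) [Field K] : Matrix.symplecticGroup (Fin 1) K ≃* SL(2, K) where
  toFun A := ⟨Matrix.reindex finSumFinEquiv finSumFinEquiv A.1, by
    rw [Matrix.det_reindex_self]; exact (Cfsg.Agent.S0244.result _).1 A.2⟩
  invFun B := ⟨Matrix.reindex (finSumFinEquiv (m := 1) (n := 1)).symm finSumFinEquiv.symm B.1,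
    (Cfsg.Agent.S0244.result _).2 (by rw [Matrix.det_reindex_self]; exact B.2)⟩
  left_inv A := Subtype.ext (by simp)
  right_inv B := Subtype.ext (by simp)
  map_mul' A B := Subtype.ext (by
    change Matrix.reindex _ _ (A.1 * B.1) = Matrix.reindex _ _ A.1 * Matrix.reindex _ _ B.1
    simp [Matrix.submatrix_mul_equiv])

theorem tl_center {X Y : Type*} [Group X] [Group Y] (e : X ≃* Y) {g : X} (h : e g ∈ center Y) :
    g ∈ center X :=
  mem_center_iff.2 fun k => e.injective (by rw [map_mul, map_mul, mem_center_iff.1 h])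

/-- an element of order seven is transitive on the involutions of an eight-group -/
theorem tl_trans {A : Subgroup G} (h8 : Nat.card A = 8) {c : G} (h7 : c ^ 7 = 1)
    (hn : ∀ a ∈ A, c * a * c⁻¹ ∈ A) {a₀ : G} (h0 : a₀ ∈ A) (hc : c * a₀ ≠ a₀ * c) :
    ∀ a ∈ A, a ≠ 1 → ∃ n : ℕ, a = c ^ n * a₀ * (c ^ n)⁻¹ := by
  have fin : Finite A := Nat.finite_of_card_ne_zero (by omega)
  have m : ∀ n : ℕ, c ^ n * a₀ * (c ^ n)⁻¹ ∈ A := fun n => by
    induction n with
    | zero => simpa using h0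
    | succ n ih =>
      have := hn _ ih
      rwa [show c * (c ^ n * a₀ * (c ^ n)⁻¹) * c⁻¹ = c ^ (n + 1) * a₀ * (c ^ (n + 1))⁻¹ by
        rw [pow_succ']; group] at this
  have ne : ∀ n : ℕ, c ^ n * a₀ * (c ^ n)⁻¹ ≠ 1 := fun n e => hc (by
    rw [conj_eq_one_iff.1 e, mul_one, one_mul])
  have lt : ∀ i j : ℕ, i < j → j < 7 → c ^ i * a₀ * (c ^ i)⁻¹ ≠ c ^ j * a₀ * (c ^ j)⁻¹ := fun i j hij hj e => by
    obtain ⟨d, rfl⟩ := Nat.exists_eq_add_of_le hij.le
    have e1 : c ^ d * a₀ * (c ^ d)⁻¹ = a₀ := by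
      calc c ^ d * a₀ * (c ^ d)⁻¹ = (c ^ i)⁻¹ * (c ^ (i + d) * a₀ * (c ^ (i + d))⁻¹) * c ^ i := by
            rw [pow_add]; group
        _ = a₀ := by rw [← e]; group
    have := tl_per (fun n => c ^ n * a₀ * (c ^ n)⁻¹) (fun n => by simp only [pow_add, h7, mul_one])
      (j := d) (by omega) (by omega) fun n => by
        calc c ^ (n + d) * a₀ * (c ^ (n + d))⁻¹ = c ^ n * (c ^ d * a₀ * (c ^ d)⁻¹) * (c ^ n)⁻¹ := by
              rw [pow_add]; group
          _ = _ := by rw [e1]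
    simp only [pow_one, pow_zero, one_mul, inv_one, mul_one] at this
    exact hc (mul_inv_eq_iff_eq_mul.1 this)
  let f : Option (Fin 7) → A := fun o => o.elim 1 fun i => ⟨_, m i⟩
  have inj : Function.Injective f := by
    rintro (_ | i) (_ | j) e
    · rfl
    · exact absurd (congrArg Subtype.val e).symm (ne j)
    · exact absurd (congrArg Subtype.val e) (ne i)
    · have e' := congrArg Subtype.val e
      rcases lt_trichotomy i j with k | k | k
      exacts [absurd e' (lt i j k j.2), congrArg some k, absurd e'.symm (lt j i k i.2)]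
  have sur := ((Nat.bijective_iff_injective_and_card f).2 ⟨inj, by simp [h8]⟩).2
  intro a ha h1
  obtain ⟨_ | i, e⟩ := sur ⟨a, ha⟩
  · exact absurd (congrArg Subtype.val e).symm h1
  · exact ⟨i, (congrArg Subtype.val e).symm⟩

end gen

variable {K G : Type*} [Field K] [IsAlgClosed K] [Group G] [Finite G] {ρ : G →* G7 K}
  {E : Type} [Field E] [Fintype E]

set_option linter.unusedSectionVars false

/-- HUR with an explicit lift of the product -/
theorem Hy.hur1 (h : Hy ρ) {a b : G} (hg : closure {a, b} = ⊤) (ha : a * a = 1)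
    (h4 : rk (ρ a) = 4) (hb : b ^ 3 = 1) (h3 : rk (ρ b) = 4 ∨ (3 : K) = 0)
    (hc : ∃ s, Lf (ρ (a * b)) s ∧ 2 ≤ fx s) : FixL ρ := by
  obtain ⟨sb, lb, b3⟩ := h.spb_odd (by decide) hb
  obtain ⟨sc, lc, c2⟩ := hc
  have la := lc.mul lb.inv
  rw [map_mul, mul_inv_cancel_right] at la
  obtain ⟨y, y0, ya, yb⟩ := scottO nondeg_N8 (sc * sb⁻¹) sb (by
    have := lb.cube h.two b3 h3
    rw [(la.inv4 h.two (by rw [← map_mul, ha, map_one]) h4).2, inv_mul_cancel_right, finrank_Oc]
    omega)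
  refine fixL_of_gen h.two hg y0 ?_
  rintro g (rfl | rfl)
  exacts [⟨_, la, 1, by rw [ya, one_smul]⟩, ⟨_, lb, 1, by rw [yb, one_smul]⟩]

/-- Scott on the natural module -/
theorem Hy.sc3 (h : Hy ρ) {a b : G} (hg : closure {a, b} = ⊤) (ha : 3 ≤ fx (ρ a))
    (hb : 3 ≤ fx (ρ b)) (hc : 3 ≤ fx (ρ (a * b))) : False := by
  obtain ⟨y, y0, ya, yb⟩ := scottO (nondeg_Q7 h.two) (ρ a) (ρ b) (by
    rw [← map_mul, finrank_V7]; omega)
  refine y0 (h.fix hg ?_)
  rintro g (rfl | rfl)
  exacts [ya, yb]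

theorem tl_rk (g : G7 K) : rk g + fx g = 7 := (rk_add_fx g).trans finrank_V7

theorem Hy.fx_two (h : Hy ρ) {a : G} (ha : a * a = 1) : 3 ≤ fx (ρ a) := by
  have := tl_rk (ρ a)
  by_cases h1 : a = 1
  · rw [h1, map_one] at this ⊢
    rw [a4l_rk1] at this
    omega
  · rcases h.wt h1 ha with e | e <;> omega

theorem Hy.fx_three (h : Hy ρ) (h3 : (3 : K) = 0) {a : G} (ha : a ^ 3 = 1) : 3 ≤ fx (ρ a) := by
  have _ := h
  have := O7.fx_three h3 (g := ρ a) (by rw [← map_pow, ha, map_one])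
  rw [finrank_V7] at this
  omega

theorem Hy.fx_five (h : Hy ρ) {a : G} (ha : a ^ 5 = 1) (hc : IsConj a (a ^ 2)) :
    3 ≤ fx (ρ a) := by
  have h0 := tl_rk (ρ a)
  have h1 : ρ a ^ 5 = 1 := by rw [← map_pow, ha, map_one]
  by_cases h5 : (5 : K) = 0
  · have h2 := tl_five h5 h1
    obtain ⟨m, hm⟩ := even_rk h.two (nondeg_Q7 h.two) (h.det a)
    rw [finrank_V7] at h2
    omega
  · haveI : Fact (Nat.Prime 5) := ⟨by norm_num⟩
    obtain ⟨c, hc⟩ := isConj_iff.1 hc
    have h2 := dvd_rkO (nondeg_Q7 h.two) (r := 5) (k := 2) (by exact_mod_cast h5) h1 (c := ρ c)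
      (by rw [← map_inv, ← map_mul, ← map_mul, hc, map_pow]) (by norm_num)
    have h3 : 4 ∣ rk (ρ a) := by
      refine Dvd.dvd.trans ?_ h2
      rw [show 4 = 2 ^ (1 + 1) from rfl, ← orderOf_eq_prime_pow (p := 2) (n := 1) (x := ZMod.unitOfCoprime (n := 5) 2 (by norm_num))
        (fun e => by have := congrArg Units.val e; revert this; decide) (Units.ext (by decide))]
      exact orderOf_dvd_natCard _ (subset_closure (by simp))
    omega

/-- the centraliser of a quaternion group has one involution -/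
theorem Hy.q8c (h : Hy ρ) {a b z d : G} (h1 : z ≠ 1) (ha : a * a = z) (hb : b * b = z)
    (hz : z * z = 1) (hab : a * b = z * (b * a)) (hd : d * d = 1) (k1 : d * a = a * d)
    (k2 : d * b = b * d) : d = 1 ∨ d = z := by
  have c1 : Commute a d := k1.symm
  have c2 : Commute z d := ha ▸ c1.mul_left c1
  have h4 := h.q8 h1 ha hb hz hab
  obtain ⟨e1, e2, e3, e4⟩ := a4l_dims h.two (a := ρ z) (b := ρ d) (by rw [← map_mul, hz, map_one])
    (by rw [← map_mul, hd, map_one]) (by rw [← map_mul, c2.eq, map_mul])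
  rw [← map_mul] at e4
  have zd : z * d * (z * d) = 1 := by
    calc z * d * (z * d) = z * (d * z) * d := by group
      _ = z * z * (d * d) := by rw [← c2.eq]; group
      _ = 1 := by rw [hz, hd, mul_one]
  by_contra! hn
  have w1 := h.wt hn.1 hd
  have w2 := h.wt (t := z * d) (fun e => hn.2 (by
    rw [← mul_right_inj z, e, hz])) zd
  by_cases h0 : J2 (ρ z) (ρ d) (-1) (-1) = ⊥
  · rw [h0, finrank_bot] at e2 e3
    omega
  · have := a4l_q8 h.two (nondeg_Q7 h.two) ρ ha hb hz hab hd c1 k2.symm h0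
    omega

/-- `2³:7` is self-centralising, and the element of order seven has a good lift -/
theorem Hy.e87 (h : Hy ρ) {A : Subgroup G} (h8 : Nat.card A = 8) (h2 : ∀ a ∈ A, a * a = 1) {c : G}
    (h7 : c ^ 7 = 1) (hn : ∀ a ∈ A, c * a * c⁻¹ ∈ A) (hc : ∃ a ∈ A, c * a ≠ a * c) :
    (∀ a ∈ A, a ≠ 1 → rk (ρ a) = 4) ∧ (∃ s, Lf (ρ c) s ∧ 2 ≤ fx s) ∧
      ∀ z, (∀ a ∈ A, z * a = a * z) → z * c = c * z → z = 1 := by
  obtain ⟨a₀, h0, hc⟩ := hc
  have tr := tl_trans h8 h7 hn h0 hc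
  have a1 : a₀ ≠ 1 := fun e => hc (by rw [e, mul_one, one_mul])
  have r0 : ∀ a ∈ A, a ≠ 1 → rk (ρ a) = rk (ρ a₀) := fun a ha h1 => by
    obtain ⟨n, rfl⟩ := tr a ha h1
    rw [map_mul, map_mul, map_inv, rk_conj]
  obtain ⟨h4, hC⟩ := h.e8 h8 h2 fun a ha b hb e1 e2 => (r0 a ha e1).trans (r0 b hb e2).symm
  refine ⟨h4, ?_, fun z hz zc => ?_⟩
  · obtain ⟨s, ls, s7⟩ := h.spb_odd (by decide) h7
    obtain ⟨t, lt⟩ := h.lift a₀
    have sq : ∀ a ∈ A, ∀ u, Lf (ρ a) u → a ≠ 1 → u * u = 1 := fun a ha u lu h1 =>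
      (lu.inv4 h.two (by rw [← map_mul, h2 a ha, map_one]) (h4 a ha h1)).1
    have m : ∀ n : ℕ, c ^ n * a₀ * (c ^ n)⁻¹ ∈ A := fun n => by
      induction n with
      | zero => simpa using h0
      | succ n ih =>
        have := hn _ ih
        rwa [show c * (c ^ n * a₀ * (c ^ n)⁻¹) * c⁻¹ = c ^ (n + 1) * a₀ * (c ^ (n + 1))⁻¹ by
          rw [pow_succ']; group] at this
    have lU : ∀ n : ℕ, Lf (ρ (c ^ n * a₀ * (c ^ n)⁻¹)) (s ^ n * t * (s ^ n)⁻¹) := fun n => by
      rw [map_mul, map_mul, map_inv, map_pow]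
      exact ((ls.pow n).mul lt).mul (ls.pow n).inv
    have tt := sq a₀ h0 t lt a1
    obtain ⟨y, y0, sy⟩ := tl_fix h.two nondeg_N8 s7 tt (fun i => by
      have l1 := lU i
      have u1 := sq _ (m i) _ l1 fun e => a1 (conj_eq_one_iff.1 e)
      generalize s ^ i * t * (s ^ i)⁻¹ = u at l1 u1
      by_cases e : a₀ * (c ^ i * a₀ * (c ^ i)⁻¹) = 1
      · have e1 : c ^ i * a₀ * (c ^ i)⁻¹ = a₀ := by rw [← mul_right_inj a₀, e, h2 a₀ h0]
        rw [e1] at l1
        rcases lt.uniq h.two l1 with rfl | rfl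
        · exact Commute.refl _
        · exact (show Commute t (ng _) from (ng_comm t).symm).mul_right (Commute.refl _)
      · have u2 := sq _ (mul_mem h0 (m i)) (t * u) (by rw [map_mul ρ a₀]; exact lt.mul l1) e
        have i1 := inv_eq_of_mul_eq_one_right u2
        rw [mul_inv_rev, inv_eq_of_mul_eq_one_right u1, inv_eq_of_mul_eq_one_right tt] at i1
        exact i1.symm) (fun e => by
      have l1 := lU 1
      rw [pow_one, pow_one, e] at l1
      exact hc (mul_inv_eq_iff_eq_mul.1 (h.inj (l1.inj lt))))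
    refine ⟨s, ls, ?_⟩
    obtain ⟨r, hr⟩ := eig_even_odd h.two nondeg_N8 (by decide) s7
    have e1 := (rk_add_fx s).trans finrank_Oc
    have e2 : fx s ≠ 0 := fun e => y0 (by
      rw [fx, Submodule.finrank_eq_zero] at e
      have : y ∈ LinearMap.ker (en s - 1) := eig_mem.2 sy
      rwa [e, Submodule.mem_bot] at this)
    omega
  · by_contra z1
    have AC : A ≤ centralizer (A : Set G) := fun a ha b hb => tl_cm h2 b hb a ha
    have zC : z ∈ centralizer (A : Set G) := fun b hb => (hz b hb).symm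
    obtain ⟨-, χ, -, k3, k4⟩ := tl_ch h.two (nondeg_Q7 h.two) finrank_V7 ρ (E := centralizer (A : Set G))
      fun g hg => hC g fun a ha => (hg a ha).symm
    have := Fintype.ofFinite A
    rw [Nat.card_eq_fintype_card] at h8
    have s1 : ∑ i, ∑ a : A, χ i (inclusion AC a) = 0 := by
      rw [Finset.sum_comm, a4l_sum1 _ (fun _ => -1) fun a ha => by
        rw [k4, coe_inclusion, h4 _ a.2 fun e => ha (Subtype.ext e)]; norm_num]
      rw [k4, map_one, OneMemClass.coe_one, map_one, a4l_rk1, Finset.sum_const, Finset.card_univ, h8]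
      norm_num
    have s2 : ∀ i, ∑ a : A, χ i (inclusion AC a) = 0 := fun i =>
      (Finset.sum_eq_zero_iff_of_nonneg fun j _ => by
        rcases a4l_sum ((χ j).comp (inclusion AC)) with e | e
        · exact le_of_eq e.symm
        · exact le_of_le_of_eq (by positivity) e.symm).1 s1 i (Finset.mem_univ i)
    have s3 : ∑ a : A, ∑ i, χ i (⟨z, zC⟩ * inclusion AC a) = 0 := by
      rw [Finset.sum_comm]
      refine Finset.sum_eq_zero fun i _ => ?_
      simp only [map_mul]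
      rw [← Finset.mul_sum, s2, mul_zero]
    rw [a4l_sum1 _ (fun _ => 7 - 2 * (rk (ρ (z * a₀)) : ℤ)) fun a ha => by
      obtain ⟨n, e⟩ := tr a a.2 fun e => ha (Subtype.ext e)
      have c1 : z * c ^ n = c ^ n * z := (show Commute z c from zc).pow_right n
      have e1 : z * (a : G) = c ^ n * (z * a₀) * (c ^ n)⁻¹ := by
        rw [e, ← mul_assoc, ← mul_assoc, c1]; group
      rw [k4, Subgroup.coe_mul, coe_inclusion, e1, map_mul ρ _ _⁻¹, map_mul ρ (c ^ n), map_inv, rk_conj]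
      norm_num] at s3
    rw [k4, map_one, mul_one, Finset.sum_const, Finset.card_univ, h8] at s3
    have := h.wt z1 (hC z hz)
    simp only [nsmul_eq_mul] at s3
    push_cast at s3
    omega

/-- with a splitting, the eight-group fixes a unique non-singular line of spinors -/
theorem Hy.e8O (h : Hy ρ) {ψ : G →* G8 K} (hψ : Spl ρ ψ) {A : Subgroup G} (h8 : Nat.card A = 8)
    (h2 : ∀ a ∈ A, a * a = 1) : ∃ y, y ≠ 0 ∧ (∀ a ∈ A, (ψ a).1 y = y) ∧
      ∀ y', (∀ a ∈ A, (ψ a).1 y' = y') → ∃ c : K, y' = c • y := by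
  have r4 : ∀ a ∈ A, a ≠ 1 → rk (ψ a) = 4 := fun a ha h1 => by
    have aa : ρ a * ρ a = 1 := by rw [← map_mul, h2 a ha, map_one]
    rcases h.wt h1 (h2 a ha) with e | e
    · have := (hψ a).inv2 h.two aa e
      rw [← map_mul, h2 a ha, map_one] at this
      exact absurd this.symm (ng8_ne h.two)
    · have e1 := ((hψ a).inv4 h.two aa e).2
      have e2 := (rk_add_fx (ψ a)).trans finrank_Oc
      omega
  obtain ⟨b, χ, k2, k3, k4⟩ := tl_ch h.two nondeg_N8 finrank_Oc ψ h2
  have := Fintype.ofFinite A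
  rw [Nat.card_eq_fintype_card] at h8
  have s1 : ∑ i, ∑ a : A, χ i a = 8 := by
    rw [Finset.sum_comm, a4l_sum1 _ (fun _ => 0) fun a ha => by
      rw [k4, r4 _ a.2 fun e => ha (Subtype.ext e)]; norm_num]
    rw [k4, OneMemClass.coe_one, map_one, a4l_rk1]
    norm_num
  have s2 : ∀ i, χ i ≠ 1 → ∑ a : A, χ i a = 0 := fun i hi => sum_hom_units_eq_zero _ hi
  have s3 : ∀ i, χ i = 1 → ∑ a : A, χ i a = 8 := fun i hi => by simp [hi, h8]
  obtain ⟨i, hi⟩ : ∃ i, χ i = 1 := by
    by_contra! e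
    rw [Finset.sum_eq_zero fun i _ => s2 i (e i)] at s1
    omega
  have uq : ∀ j, j ≠ i → χ j ≠ 1 := fun j hj e => by
    have s4 : ∑ l ∈ {j, i}, ∑ a, χ l a ≤ ∑ l, ∑ a, χ l a :=
      Finset.sum_le_sum_of_subset_of_nonneg (Finset.subset_univ _) fun l _ _ => by
        rcases a4l_sum (χ l) with e | e <;> rw [e] <;> positivity
    rw [Finset.sum_pair hj, s3 j e, s3 i hi, s1] at s4
    omega
  refine ⟨b i, b.ne_zero i, fun a ha => ?_, fun y hy => ⟨b.repr y i, b.ext_elem fun j => ?_⟩⟩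
  · have := k2 ⟨a, ha⟩ i
    rwa [hi, MonoidHom.one_apply, Int.cast_one, one_smul] at this
  by_cases hij : j = i
  · subst hij; simp
  obtain ⟨a, ha⟩ : ∃ a, χ j a ≠ 1 := by
    by_contra! e
    exact uq j hij (MonoidHom.ext e)
  have e1 : ∀ v, b.repr ((ψ a).1 v) j = (χ j a : K) * b.repr v j := fun v => by
    conv_lhs => rw [← b.sum_repr v]
    simp only [map_sum, map_smul, k2, b.repr_self, Finsupp.coe_finsetSum, Finset.sum_apply, Finsupp.smul_apply,
      Finsupp.single_apply, smul_eq_mul, mul_ite, mul_one, mul_zero, Finset.sum_ite_eq', Finset.mem_univ, if_true]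
    ring
  have e2 := e1 y
  rw [hy a a.2, (k3 j a).resolve_left ha] at e2
  rw [map_smul, b.repr_self, Finsupp.smul_apply, Finsupp.single_eq_of_ne hij, smul_zero]
  push_cast at e2
  exact mul_left_cancel₀ h.two (by linear_combination e2)

theorem Hy.tl_ker (h : Hy ρ) {X : Type*} [Group X] {φ : X →* G} (hφ : φ.ker ≤ center _) {g : X}
    (hg : en (ρ (φ g)) = 1) : g ∈ center X :=
  hφ (h.inj ((en_inj (hg.trans en_one.symm)).trans (map_one ρ).symm))

/-- the bound for `SL₂` in cross characteristic -/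
theorem Hy.l2_cross (h : Hy ρ) (hE : Odd (Fintype.card E)) (hp : ringChar K ≠ ringChar E)
    (φ : SL(2, E) →* G) (hφ : φ.ker ≤ center _) : Fintype.card E ≤ 15 := by
  have h2 : (2 : E) ≠ 0 := Ring.two_ne_zero fun e => by
    have := FiniteField.even_card_of_char_two e
    rw [Nat.odd_iff] at hE
    omega
  have := LS.sp_bound (K := K) (W := V7 K) hp h2 (m := 1) le_rfl
    ((enH _).comp (ρ.comp (φ.comp (tlSp E).toMonoidHom))) fun g hg => tl_center (tlSp E) (h.tl_ker hφ hg)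
  rw [finrank_V7, pow_one, Nat.card_eq_fintype_card] at this
  omega

theorem Hy.l3_cross (h : Hy ρ) (h3 : 3 ≤ Fintype.card E) (hp : ringChar K ≠ ringChar E)
    (φ : SL(3, E) →* G) (hφ : φ.ker ≤ center _) : False := by
  let r := CfsgLib.Classical.slReindex (R := E) (Fintype.equivOfCardEq (by simp) : Fin 2 ⊕ Unit ≃ Fin 3)
  have := LS.sl_bound (K := K) (W := V7 K) hp (l := Fin 2) (by simp)
    ((enH _).comp (ρ.comp (φ.comp r.toMonoidHom))) fun g hg => tl_center r (h.tl_ker hφ hg)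
  rw [finrank_V7, Nat.card_eq_fintype_card, Fintype.card_fin] at this
  have := Nat.pow_le_pow_left h3 2
  omega

theorem Hy.u3_cross (h : Hy ρ) {r : ℕ} (hE : Fintype.card E = r ^ 2) (h4 : 4 ≤ r)
    (hp : ringChar K ≠ ringChar E) (φ : SU 3 E r →* G) (hφ : φ.ker ≤ center _) : False := by
  have := D5.KX.su_bound_odd' (K := K) (W := V7 K) hp hE (m := 1) le_rfl (n := 3) rfl
    ((enH _).comp (ρ.comp φ)) fun g hg => h.tl_ker hφ hg
  rw [finrank_V7] at this
  obtain ⟨k, rfl⟩ := Nat.exists_eq_add_of_le h4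
  have e : (4 + k) ^ 3 = 64 + 48 * k + (12 * k ^ 2 + k ^ 3) := by ring
  omega

end CfsgLib.O7
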